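import Cfsg.Agent.Mrg.Omega.BTwo.Str
import Cfsg.Agent.Mrg.Omega.BTwo.Key
import Mathlib.LinearAlgebra.Matrix.SpecialLinearGroup
import Cfsg.Agent.Lib.AutSL2
import Cfsg.Agent.Mrg.Omega.BTwo.YTor
import Cfsg.Agent.Mrg.Omega.BTwo.QuadGrp
import Cfsg.Agent.Mrg.Omega.BTwo.Count

-- merged: Cfsg.Agent.Mrg.Omega.SQEnd.Line
section

section


/-!
# The end of the case `b = 2`: lines through a point, LEMMA NA (bb OMEGA #12947)

`Ln R W V U D A`: the local facts about the line `V` through the point `R` (`W = ⟨V^{N(R)}⟩`, `U = C_W(V)`,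
`D = W ∩ W'`, `A = U'` for another point `R'` of `V`).  LEMMA NA: if two lines `V₁`, `V₂` through `R` have
`W A₁ = W A₂` and `|A / D| > |V / R|` then `V₁ = V₂`; i.e. `N_H(A) = N_H(V / R)`.
-/

set_option autoImplicit false

universe u

namespace Cfsg.Agent.Omega.SQEnd

open Subgroup Cfsg.Agent.Omega.BTwo

variable {G : Type u} [Group G]

/-- The line `V` through the point `R`. -/
structure Ln (R W V U D A : Subgroup G) : Prop where
  RV : R ≤ V
  VD : V ≤ D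
  DU : D ≤ U
  UW : U ≤ W
  AW : A ≤ normalizer (W : Set G)
  WW : ∀ g ∈ W, ∀ w ∈ W, g * w * g⁻¹ * w⁻¹ ∈ R
  UV : ∀ u ∈ U, ∀ v ∈ V, u * v = v * u
  cen : ∀ v ∈ V, v ∉ R → ∀ w ∈ W, w * v = v * w → w ∈ U
  cenU : ∀ w ∈ W, (∀ u ∈ U, w * u = u * w) → w ∈ V
  UA : ∀ u ∈ U, ∀ a ∈ A, u * a * u⁻¹ * a⁻¹ ∈ D
  DA : ∀ d ∈ D, ∀ a ∈ A, d * a * d⁻¹ * a⁻¹ ∈ V
  DAR : ∀ d ∈ D, (∀ a ∈ A, d * a * d⁻¹ * a⁻¹ ∈ R) → d ∈ V
  inj : ∀ w ∈ W, w ∉ U → ∀ a ∈ A, w * a * w⁻¹ * a⁻¹ ∈ D → a ∈ D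
  surj : ∀ w ∈ W, w ∉ U → ∀ u ∈ U, ∃ a ∈ A, (w * a * w⁻¹ * a⁻¹)⁻¹ * u ∈ D

/-- counting -/
theorem relIndex_le_of [Finite G] {U D V R : Subgroup G} (hRD : R ≤ D) (h : ∀ u ∈ U, ∃ v ∈ V, v⁻¹ * u ∈ D) :
    D.relIndex U ≤ R.relIndex V := by
  classical
  choose! f hf using h
  have key : ∀ u ∈ U, ∀ u' ∈ U, (f u)⁻¹ * f u' ∈ R → u⁻¹ * u' ∈ D := by
    intro u hu u' hu' h
    have h1 := (hf u hu).2
    have h2 := (hf u' hu').2
    have e : u⁻¹ * u' = ((f u)⁻¹ * u)⁻¹ * ((f u)⁻¹ * f u') * ((f u')⁻¹ * u') := by group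
    rw [e]
    exact mul_mem (mul_mem (inv_mem h1) (hRD h)) h2
  change Nat.card (U ⧸ D.subgroupOf U) ≤ Nat.card (V ⧸ R.subgroupOf V)
  let g : U ⧸ D.subgroupOf U → V ⧸ R.subgroupOf V := fun x =>
    QuotientGroup.mk (⟨f (x.out : U), (hf _ (x.out : U).2).1⟩ : V)
  refine Nat.card_le_card_of_injective g fun x y hxy => ?_
  have h1 : ((f (x.out : U))⁻¹ * f (y.out : U)) ∈ R := by
    have := QuotientGroup.eq.1 hxy
    exact this
  have h2 := key _ (x.out : U).2 _ (y.out : U).2 h1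
  have h3 : (QuotientGroup.mk (x.out : U) : U ⧸ D.subgroupOf U) = QuotientGroup.mk (y.out : U) :=
    QuotientGroup.eq.2 h2
  rwa [QuotientGroup.out_eq', QuotientGroup.out_eq'] at h3

/-- elements of `W A` -/
theorem exists_mul {W A B : Subgroup G} (hB : B ≤ normalizer (W : Set G)) (h : A ≤ W ⊔ B) {a : G} (ha : a ∈ A) :
    ∃ w ∈ W, ∃ b ∈ B, a = w * b := by
  have h1 := h ha
  have h2 : ∀ x ∈ W ⊔ B, ∃ w ∈ W, ∃ b ∈ B, x = w * b := by
    let T : Subgroup G :=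
      { carrier := {x | ∃ w ∈ W, ∃ b ∈ B, x = w * b}
        one_mem' := ⟨1, one_mem _, 1, one_mem _, (one_mul 1).symm⟩
        mul_mem' := by
          rintro _ _ ⟨w, hw, b, hb, rfl⟩ ⟨w', hw', b', hb', rfl⟩
          exact ⟨w * (b * w' * b⁻¹), mul_mem hw (conj_mem_of_normalizer (hB hb) hw'), b * b', mul_mem hb hb', by group⟩
        inv_mem' := by
          rintro _ ⟨w, hw, b, hb, rfl⟩
          refine ⟨b⁻¹ * w⁻¹ * b⁻¹⁻¹, conj_mem_of_normalizer (hB (inv_mem hb)) (inv_mem hw), b⁻¹, inv_mem hb, by group⟩ }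
    have hT : W ⊔ B ≤ T := sup_le (fun w hw => ⟨w, hw, 1, one_mem _, (mul_one w).symm⟩)
      fun b hb => ⟨1, one_mem _, b, hb, (one_mul b).symm⟩
    exact fun x hx => hT hx
  exact h2 a h1

namespace Ln

variable {R W V₁ U₁ D₁ A₁ V₂ U₂ D₂ A₂ : Subgroup G}

theorem RW {V U D A : Subgroup G} (l : Ln R W V U D A) : R ≤ W := l.RV.trans (l.VD.trans (l.DU.trans l.UW))
theorem VW {V U D A : Subgroup G} (l : Ln R W V U D A) : V ≤ W := l.VD.trans (l.DU.trans l.UW)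
theorem DW {V U D A : Subgroup G} (l : Ln R W V U D A) : D ≤ W := l.DU.trans l.UW
theorem RD {V U D A : Subgroup G} (l : Ln R W V U D A) : R ≤ D := l.RV.trans l.VD

/-- `[m, a₂] ∈ R · [m, a₁]^W` -/
theorem comm_of (l₁ : Ln R W V₁ U₁ D₁ A₁) {T : Subgroup G} (hRT : R ≤ T) (hTW : T ≤ W)
    {m w a : G} (hm : m ∈ W) (hw : w ∈ W) (h : m * a * m⁻¹ * a⁻¹ ∈ T) :
    m * (w * a) * m⁻¹ * (w * a)⁻¹ ∈ T := by
  have e : m * (w * a) * m⁻¹ * (w * a)⁻¹ =
      (m * w * m⁻¹ * w⁻¹) * (w * (m * a * m⁻¹ * a⁻¹) * w⁻¹ * (m * a * m⁻¹ * a⁻¹)⁻¹) *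
        (m * a * m⁻¹ * a⁻¹) := by group
  rw [e]
  exact mul_mem (mul_mem (hRT (l₁.WW _ hm _ hw)) (hRT (l₁.WW _ hw _ (hTW h)))) h

/-- common points of two lines -/
theorem U_eq_of_mem (l₁ : Ln R W V₁ U₁ D₁ A₁) (l₂ : Ln R W V₂ U₂ D₂ A₂) {x : G} (h1 : x ∈ V₁) (h2 : x ∈ V₂)
    (hx : x ∉ R) : U₁ = U₂ :=
  le_antisymm (fun u hu => l₂.cen x h2 hx u (l₁.UW hu) (l₁.UV u hu x h1))
    fun u hu => l₁.cen x h1 hx u (l₂.UW hu) (l₂.UV u hu x h2)

theorem V_eq_of_U (l₁ : Ln R W V₁ U₁ D₁ A₁) (l₂ : Ln R W V₂ U₂ D₂ A₂) (h : U₁ = U₂) : V₁ = V₂ :=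
  le_antisymm (fun v hv => l₂.cenU v (l₁.VW hv) fun u hu => (l₁.UV u (h ▸ hu) v hv).symm)
    fun v hv => l₁.cenU v (l₂.VW hv) fun u hu => (l₂.UV u (h ▸ hu) v hv).symm

theorem D_inf (l₁ : Ln R W V₁ U₁ D₁ A₁) (l₂ : Ln R W V₂ U₂ D₂ A₂) (h12 : A₁ ≤ W ⊔ A₂) (h21 : A₂ ≤ W ⊔ A₁)
    (h : V₁ ⊓ V₂ ≤ R) : D₁ ⊓ D₂ ≤ R := by
  intro d hd
  refine h ⟨l₁.DAR d hd.1 fun a ha => h ⟨l₁.DA d hd.1 a ha, ?_⟩, l₂.DAR d hd.2 fun a ha => h ⟨?_, l₂.DA d hd.2 a ha⟩⟩
  · obtain ⟨w, hw, b, hb, rfl⟩ := exists_mul l₂.AW h12 ha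
    exact l₁.comm_of l₂.RV l₂.VW (l₁.DW hd.1) hw (l₂.DA d hd.2 b hb)
  · obtain ⟨w, hw, b, hb, rfl⟩ := exists_mul l₁.AW h21 ha
    exact l₁.comm_of l₁.RV l₁.VW (l₁.DW hd.1) hw (l₁.DA d hd.1 b hb)

/-- `|A / D| > |V / R|`: `D₁ ≤ U₂` -/
theorem D_le_U [Finite G] (l₁ : Ln R W V₁ U₁ D₁ A₁) (l₂ : Ln R W V₂ U₂ D₂ A₂) (h21 : A₂ ≤ W ⊔ A₁)
    (hc : R.relIndex V₁ < D₂.relIndex U₂) : D₁ ≤ U₂ := by
  intro d hd
  by_contra hn
  refine absurd (relIndex_le_of (R := R) (V := V₁) l₂.RD fun u hu => ?_) (not_le.2 hc)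
  obtain ⟨a, ha, h⟩ := l₂.surj d (l₁.DW hd) hn u hu
  obtain ⟨w, hw, b, hb, rfl⟩ := exists_mul l₁.AW h21 ha
  exact ⟨_, l₁.comm_of l₁.RV l₁.VW (l₁.DW hd) hw (l₁.DA d hd b hb), h⟩

/-- **LEMMA NA.** -/
theorem U_eq [Finite G] (l₁ : Ln R W V₁ U₁ D₁ A₁) (l₂ : Ln R W V₂ U₂ D₂ A₂) (h21 : A₂ ≤ W ⊔ A₁)
    (hcard : Nat.card U₁ = Nat.card U₂) (h2 : D₂ ≤ U₁) : U₁ = U₂ := by
  by_contra hne
  have hn : ¬ U₁ ≤ U₂ := fun h => hne (eq_of_le_of_card_ge h hcard.ge)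
  obtain ⟨m, hm, hm2⟩ := SetLike.not_le_iff_exists.1 hn
  have h3 : U₂ ≤ U₁ := by
    intro u hu
    obtain ⟨a, ha, h⟩ := l₂.surj m (l₁.UW hm) hm2 u hu
    obtain ⟨w, hw, b, hb, rfl⟩ := exists_mul l₁.AW h21 ha
    have h4 := l₁.comm_of l₁.RD l₁.DW (l₁.UW hm) hw (l₁.UA m hm b hb)
    have h5 := mul_mem (l₁.DU h4) (h2 h)
    rwa [mul_inv_cancel_left] at h5
  exact hne (eq_of_le_of_card_ge h3 hcard.le).symm

/-- **LEMMA NA**, `|A / D| > |V / R|`. -/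
theorem V_eq [Finite G] (l₁ : Ln R W V₁ U₁ D₁ A₁) (l₂ : Ln R W V₂ U₂ D₂ A₂) (h12 : A₁ ≤ W ⊔ A₂)
    (h21 : A₂ ≤ W ⊔ A₁) (hcard : Nat.card U₁ = Nat.card U₂)
    (hc : R.relIndex V₂ < D₁.relIndex U₁) : V₁ = V₂ :=
  l₁.V_eq_of_U l₂ (l₁.U_eq l₂ h21 hcard (l₂.D_le_U l₁ h12 hc))

/-- **LEMMA NA**, general form: `V₁ = V₂` or the exceptional configuration (`|A / D| = |V / R|`). -/
theorem V_eq_or [Finite G] (l₁ : Ln R W V₁ U₁ D₁ A₁) (l₂ : Ln R W V₂ U₂ D₂ A₂) (h12 : A₁ ≤ W ⊔ A₂)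
    (h21 : A₂ ≤ W ⊔ A₁) (hcard : Nat.card U₁ = Nat.card U₂) :
    V₁ = V₂ ∨ (V₁ ⊓ V₂ ≤ R ∧ D₁ ⊓ D₂ ≤ R ∧ ¬ D₁ ≤ U₂ ∧ ¬ D₂ ≤ U₁ ∧
      D₁.relIndex U₁ ≤ R.relIndex V₂ ∧ D₂.relIndex U₂ ≤ R.relIndex V₁) := by
  by_cases hV : V₁ ⊓ V₂ ≤ R
  · by_cases h1 : D₂ ≤ U₁
    · exact Or.inl (l₁.V_eq_of_U l₂ (l₁.U_eq l₂ h21 hcard h1))
    by_cases h2 : D₁ ≤ U₂
    · exact Or.inl (l₂.V_eq_of_U l₁ (l₂.U_eq l₁ h12 hcard.symm h2)).symm
    refine Or.inr ⟨hV, l₁.D_inf l₂ h12 h21 hV, h2, h1, ?_, ?_⟩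
    · exact not_lt.1 fun h => h1 (l₂.D_le_U l₁ h12 h)
    · exact not_lt.1 fun h => h2 (l₁.D_le_U l₂ h21 h)
  · obtain ⟨x, hx, hxR⟩ := SetLike.not_le_iff_exists.1 hV
    exact Or.inl (l₁.V_eq_of_U l₂ (l₁.U_eq_of_mem l₂ hx.1 hx.2 hxR))

end Ln

end Cfsg.Agent.Omega.SQEnd

end

section


/-!
# The configuration at the end of `b = 2`: `K / W = SL₂(k)` (bb OMEGA #12947, (E1)-(E5))

`K ⊴ N(R)`, `K / W = SL₂(k)`, `W A / W` a Sylow 2-subgroup of it, `w ∈ K` the Weyl element, `L` the abelian group of odd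
order complementing `W A` in `N_X(R) N_K(V)`, `C = L ∩ K` (torus of `K`), `Z = C_L(K / W)`, `T = L ∩ X` (torus of `X`).
Conclusions: `D ∩ D^w = R` and `U = (D^w ∩ U) D`.
-/

set_option autoImplicit false

universe u

namespace Cfsg.Agent.Omega.SQEnd

open Subgroup Cfsg.Agent.Omega.BTwo

variable {G : Type u} [Group G]

/-- The configuration. -/
structure Cfg (R W V U D A K L C Z T : Subgroup G) (w : G) : Prop extends Ln R W V U D A where
  AWD : A ⊓ W ≤ D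
  WK : W ≤ K
  AK : A ≤ K
  KR : ∀ g ∈ K, ∀ a ∈ R, g * a = a * g
  KW : K ≤ normalizer (W : Set G)
  /- the torus -/
  CL : C ≤ L
  ZL : Z ≤ L
  TL : T ≤ L
  CK : C ≤ K
  L_comm : ∀ x ∈ L, ∀ y ∈ L, x * y = y * x
  L_odd : ∀ x ∈ L, Odd (orderOf x)
  ZK : ∀ z ∈ Z, ∀ g ∈ K, z * g * z⁻¹ * g⁻¹ ∈ W
  dec : ∀ t ∈ T, ∃ c ∈ C, ∃ z ∈ Z, t = c * z
  LR : L ≤ normalizer (R : Set G)
  LW : L ≤ normalizer (W : Set G)
  LV : L ≤ normalizer (V : Set G)
  LU : L ≤ normalizer (U : Set G)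
  LD : L ≤ normalizer (D : Set G)
  LA : L ≤ normalizer (A : Set G)
  /- the Weyl element -/
  wK : w ∈ K
  w2 : w * w ∈ W
  wL : ∀ x ∈ L, w * x * w⁻¹ ∈ L
  wL' : ∀ x ∈ L, w⁻¹ * x * w ∈ L
  wC : ∀ c ∈ C, w * c * w⁻¹ = c⁻¹
  wZ : ∀ z ∈ Z, w * z * w⁻¹ = z
  WV : W ≤ normalizer (V : Set G)
  /-- `V` and `V^w` are opposite -/
  opp : ∀ x ∈ U, x ∈ cj w V → x ∈ R
  cov : ∀ m ∈ W, ∃ x ∈ cj w V, x⁻¹ * m ∈ U
  /-- `C` is transitive on `(A / D)#` -/
  Ctr : ∀ a ∈ A, a ∉ D → ∀ a' ∈ A, a' ∉ D → ∃ c ∈ C, (c * a * c⁻¹)⁻¹ * a' ∈ D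
  /- the torus of `X` -/
  T_ne : ∃ t ∈ T, t ≠ 1
  t1 : ∀ t ∈ T, t ≠ 1 → ∀ r ∈ R, t * r * t⁻¹ = r → r = 1
  t2 : ∀ v ∈ V, v ∉ R → ∀ v' ∈ V, v' ∉ R → ∃ t ∈ T, (t * v * t⁻¹)⁻¹ * v' ∈ R
  t3 : ∀ t ∈ T, ∀ d ∈ D, t * d * t⁻¹ * d⁻¹ ∈ V
  t4 : ∀ t ∈ T, ∀ m ∈ W, ∀ a ∈ A,
    (m * (t⁻¹ * a * t) * m⁻¹ * (t⁻¹ * a * t)⁻¹)⁻¹ * (t * (m * a * m⁻¹ * a⁻¹) * t⁻¹) ∈ D
  t5 : ∀ t ∈ T, ∀ v ∈ V, ∀ m ∈ W,
    t * (v * m * v⁻¹ * m⁻¹) * t⁻¹ = (t⁻¹ * v * t) * m * (t⁻¹ * v * t)⁻¹ * m⁻¹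
  t6 : ∀ t ∈ T, t ≠ 1 → ∀ u ∈ U, t * u * t⁻¹ * u⁻¹ ∈ D → u ∈ D

/-- conjugates of a line -/
theorem Ln.cj {R W V U D A : Subgroup G} (l : Ln R W V U D A) {g : G} (hR : g ∈ normalizer (R : Set G))
    (hW : g ∈ normalizer (W : Set G)) : Ln R W (cj g V) (cj g U) (cj g D) (cj g A) := by
  have hR' : BTwo.cj g R = R := cj_eq_self_iff.2 hR
  have hW' : BTwo.cj g W = W := cj_eq_self_iff.2 hW
  have hiW : ∀ x ∈ W, g⁻¹ * x * g ∈ W := fun x hx => conj_inv_mem_of_normalizer hW hx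
  have hR2 : ∀ x, g⁻¹ * x * g ∈ R → x ∈ R := fun x hx => by
    have := conj_mem_of_normalizer hR hx
    have e : g * (g⁻¹ * x * g) * g⁻¹ = x := by group
    rwa [e] at this
  have hW2 : ∀ x, g⁻¹ * x * g ∈ W → x ∈ W := fun x hx => by
    have := conj_mem_of_normalizer hW hx
    have e : g * (g⁻¹ * x * g) * g⁻¹ = x := by group
    rwa [e] at this
  have hcomm : ∀ x y : G, g⁻¹ * (x * y * x⁻¹ * y⁻¹) * g =
      (g⁻¹ * x * g) * (g⁻¹ * y * g) * (g⁻¹ * x * g)⁻¹ * (g⁻¹ * y * g)⁻¹ := fun x y => by group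
  exact {
    RV := by rw [← hR']; exact cj_mono l.RV
    VD := cj_mono l.VD
    DU := cj_mono l.DU
    UW := by rw [← hW']; exact cj_mono l.UW
    AW := by
      rw [← hW', normalizer_cj]
      exact cj_mono l.AW
    WW := l.WW
    UV := fun u hu v hv => by
      have := l.UV _ (mem_cj.1 hu) _ (mem_cj.1 hv)
      have e1 : u * v = g * ((g⁻¹ * u * g) * (g⁻¹ * v * g)) * g⁻¹ := by group
      rw [e1, this]; group
    cen := fun v hv hvR m hm h => by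
      refine mem_cj.2 (l.cen _ (mem_cj.1 hv) (fun h' => hvR (hR2 _ h')) _ (hiW m hm) ?_)
      have e1 : g⁻¹ * m * g * (g⁻¹ * v * g) = g⁻¹ * (m * v) * g := by group
      rw [e1, h]; group
    cenU := fun m hm h => by
      refine mem_cj.2 (l.cenU _ (hiW m hm) fun u hu => ?_)
      have := h (g * u * g⁻¹) (conj_mem_cj hu)
      calc g⁻¹ * m * g * u = g⁻¹ * (m * (g * u * g⁻¹)) * g := by group
        _ = g⁻¹ * (g * u * g⁻¹ * m) * g := by rw [this]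
        _ = u * (g⁻¹ * m * g) := by group
    UA := fun u hu a ha => by
      rw [mem_cj, hcomm]
      exact l.UA _ (mem_cj.1 hu) _ (mem_cj.1 ha)
    DA := fun u hu a ha => by
      rw [mem_cj, hcomm]
      exact l.DA _ (mem_cj.1 hu) _ (mem_cj.1 ha)
    DAR := fun d hd h => by
      refine mem_cj.2 (l.DAR _ (mem_cj.1 hd) fun a ha => ?_)
      have h1 := conj_inv_mem_of_normalizer hR (h (g * a * g⁻¹) (conj_mem_cj ha))
      rw [hcomm] at h1
      have e : g⁻¹ * (g * a * g⁻¹) * g = a := by group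
      rwa [e] at h1
    inj := fun m hm hmU a ha h => by
      refine mem_cj.2 (l.inj _ (hiW m hm) (fun h' => hmU (mem_cj.2 h')) _ (mem_cj.1 ha) ?_)
      rw [← hcomm]
      exact mem_cj.1 h
    surj := fun m hm hmU u hu => by
      obtain ⟨a, ha, h⟩ := l.surj _ (hiW m hm) (fun h' => hmU (mem_cj.2 h')) _ (mem_cj.1 hu)
      refine ⟨g * a * g⁻¹, conj_mem_cj ha, mem_cj.2 ?_⟩
      have e : g⁻¹ * ((m * (g * a * g⁻¹) * m⁻¹ * (g * a * g⁻¹)⁻¹)⁻¹ * u) * g =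
        ((g⁻¹ * m * g) * a * (g⁻¹ * m * g)⁻¹ * a⁻¹)⁻¹ * (g⁻¹ * u * g) := by group
      rwa [e] }

end Cfsg.Agent.Omega.SQEnd

end

section


/-!
# `Ln` from `BTC` and `C(W) ≤ R`
-/

set_option autoImplicit false

universe u v

namespace Cfsg.Agent.Omega.SQEnd

open Subgroup Cfsg.Agent.Omega.BTwo

variable {G : Type u} [Group G] {ι : Type v} {V : Subgroup G} {R : ι → Subgroup G}

theorem ln_of_bt [Finite G] (b : BTC V R) {i j : ι} (hij : i ≠ j)
    (hC : centralizer (WW V (R i) : Set G) ≤ R i) :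
    Ln (R i) (WW V (R i)) V (UU V R i) (DD V R) (UU V R j) where
  RV := b.R_le i
  VD := V_le_D V R
  DU := b.D_le_U i
  UW := UU_le_WW i
  AW := (UU_le_cen j).trans (b.cen_le_NW i)
  WW := fun g hg w hw => b.WW_comm i hg hw
  UV := fun u hu v hv => (mem_centralizer_iff.1 (UU_le_cen i hu) v hv).symm
  cen := fun v hv hvR w hw h => mem_inf.2 ⟨hw, mem_centralizer_iff.2 fun a ha =>
    (b.reg (b.W_le_Q i hw) hv hvR h a ha).symm⟩
  cenU := fun w hw h => by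
    obtain ⟨v, hv, hc⟩ := b.cen_U (b.W_le_Q i hw) h
    have e : w = v * (v⁻¹ * w) := by group
    rw [e]
    exact mul_mem hv (b.R_le i (hC hc))
  UA := fun u hu a ha => b.UU_comm hij hu ha
  DA := fun d hd a ha => b.lam_mem hd (UU_le_YY j ha)
  DAR := fun d hd h => b.cen_DU (i := j) hd fun u hu => by
    have h1 := b.eq_one hij (h u hu) (b.DU hd hu)
    rwa [mul_inv_eq_one, mul_inv_eq_iff_eq_mul] at h1
  inj := fun w hw hwU a ha h => b.inj hij.symm hw hwU ha h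
  surj := fun w hw hwU u hu => b.surj hij.symm hw hwU hu

end Cfsg.Agent.Omega.SQEnd

end

section


/-!
# The input of the end of `b = 2`: `K ⊴ N(R i)`, `K / W i = SL₂(k)`, `W i U j / W i` a Sylow 2-subgroup
-/

set_option autoImplicit false

universe u v w

namespace Cfsg.Agent.Omega.SQEnd

open Subgroup Cfsg.Agent.Omega.BTwo

variable {G : Type u} [Group G] {ι : Type v}

/-- `K ⊴ N(R i)`, `[K, R i] = 1`, `φ : K → SL₂(k)` with kernel `W i`; `W i U j` is the preimage of the upper unitriangular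
group. -/
structure KD (V : Subgroup G) (R : ι → Subgroup G) (i j : ι) {k : Type w} [Field k] (K : Subgroup G)
    (φ : K →* Matrix.SpecialLinearGroup (Fin 2) k) : Prop where
  ne : i ≠ j
  WK : WW V (R i) ≤ K
  UK : UU V R j ≤ K
  KR : ∀ g ∈ K, ∀ a ∈ R i, g * a = a * g
  NK : normalizer (R i : Set G) ≤ normalizer (K : Set G)
  surj : Function.Surjective φ
  ker : ∀ g : K, φ g = 1 ↔ (g : G) ∈ WW V (R i)
  uni : ∀ g : K, (g : G) ∈ WW V (R i) ⊔ UU V R j ↔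
    ∃ x : k, (φ g : Matrix (Fin 2) (Fin 2) k) = !![1, x; 0, 1]

end Cfsg.Agent.Omega.SQEnd

end

section


/-!
# Automorphisms of `SL₂(k)`, `k` of characteristic 2, and the two fields acting on a root group

`eq_one_of_up`: an automorphism of odd order centralising the upper unitriangular group is trivial.
`scal`: a field `F` acting on `k` (as an additive group) with `Fˣ` normalising `kˣ` acts by scalars of `k`.
`exists_aut`: the automorphism of `SL₂(k)` induced on `K / W`.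
-/

set_option autoImplicit false

namespace Cfsg.Agent.Omega.SQEnd

open Subgroup Cfsg.Agent.Lib.SL2Mat Matrix

section sl2

variable {k : Type*} [Field k]

/-- `g up(y) = up(x) g` in `GL₂` -/
theorem gl_up {g : GL (Fin 2) k} {x y : k} (h : conjGL g (up y) = up x) :
    x * g.1 1 0 = 0 ∧ g.1 0 0 * y = x * g.1 1 1 := by
  have h1 : (g.1 * (up y).1 * g⁻¹.1) = (up x).1 := by
    have := congrArg (fun z : Matrix.SpecialLinearGroup (Fin 2) k => z.1) h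
    rw [conjGL_val] at this
    exact this
  have h2 : g.1 * (up y).1 = (up x).1 * g.1 := by
    rw [← h1, Matrix.mul_assoc, inv_val_mul_val, Matrix.mul_one]
  have e00 := congrFun (congrFun h2 0) 0
  have e01 := congrFun (congrFun h2 0) 1
  simp only [Matrix.mul_apply, Fin.sum_univ_two] at e00 e01
  have u00 : (up y).1 0 0 = 1 := rfl
  have u01 : (up y).1 0 1 = y := rfl
  have u10 : (up y).1 1 0 = 0 := rfl
  have u11 : (up y).1 1 1 = 1 := rfl
  have v00 : (up x).1 0 0 = 1 := rfl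
  have v01 : (up x).1 0 1 = x := rfl
  rw [u00, u10, v00, v01] at e00
  rw [u01, u11, v00, v01] at e01
  constructor
  · linear_combination -e00
  · linear_combination e01

/-- an automorphism of odd order centralising the upper unitriangular group is trivial -/
theorem eq_one_of_up [Finite k] [CharP k 2] {α : MulAut (Matrix.SpecialLinearGroup (Fin 2) k)} {n : ℕ} (hn : Odd n)
    (hα : α ^ n = 1) (h : ∀ x : k, α (up x) = up x) : α = 1 := by
  obtain ⟨g, σ, hg⟩ := Lib.AutSL2.exists_gl_ringEquiv (MonoidHom.id (Matrix.SpecialLinearGroup (Fin 2) k))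
    Function.surjective_id (by
      intro x hx
      rw [MonoidHom.mem_ker] at hx
      rw [show x = 1 from hx]
      exact one_mem _) α
  simp only [MonoidHom.id_apply] at hg
  have key : ∀ x : k, x * g.1 1 0 = 0 ∧ g.1 0 0 * σ x = x * g.1 1 1 := by
    intro x
    apply gl_up
    rw [← fieldAut_up, ← hg, h]
  obtain ⟨h1, h2⟩ := key 1
  rw [one_mul] at h1
  rw [map_one, mul_one, one_mul] at h2
  have h00 : g.1 0 0 ≠ 0 := by
    intro h0
    have hd : g.1.det ≠ 0 := by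
      have := (Matrix.isUnit_iff_isUnit_det g.1).1 g.isUnit
      exact this.ne_zero
    apply hd
    rw [Matrix.det_fin_two, h0, h1]
    ring
  have hσ : σ = RingEquiv.refl k := by
    ext x
    have h3 := (key x).2
    rw [← h2, mul_comm x] at h3
    exact mul_left_cancel₀ h00 h3
  -- `α` is conjugation by `up c`
  set c := g.1 0 1 / g.1 0 0 with hc
  have hα' : ∀ x, α x = up c * x * (up c)⁻¹ := by
    intro x
    rw [hg, hσ]
    have e0 : fieldAut (RingEquiv.refl k) x = x := by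
      apply ext_ent <;> simp [fieldAut_ent]
    rw [e0]
    have hgv : g.1 = g.1 0 0 • (up c).1 := by
      ext a b
      fin_cases a <;> fin_cases b
      · change g.1 0 0 = g.1 0 0 * 1
        rw [mul_one]
      · change g.1 0 1 = g.1 0 0 * c
        rw [hc, mul_div_cancel₀ _ h00]
      · change g.1 1 0 = g.1 0 0 * 0
        rw [h1, mul_zero]
      · change g.1 1 1 = g.1 0 0 * 1
        rw [← h2, mul_one]
    have h3 : (conjGL g x).1 * g.1 = g.1 * x.1 := by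
      rw [conjGL_val, Matrix.mul_assoc, inv_val_mul_val, Matrix.mul_one]
    have h4 : (conjGL g x).1 * (up c).1 = (up c).1 * x.1 := by
      rw [hgv, Matrix.mul_smul, Matrix.smul_mul] at h3
      exact smul_right_injective _ h00 h3
    have h5 : conjGL g x * up c = up c * x := Subtype.ext h4
    rw [← h5, mul_inv_cancel_right]
  have hpow : ∀ m : ℕ, ∀ x, (α ^ m) x = up c ^ m * x * (up c ^ m)⁻¹ := by
    intro m
    induction m with
    | zero => intro x; simp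
    | succ m ih =>
      intro x
      rw [pow_succ, MulAut.mul_apply, hα', ih, pow_succ]
      group
  have hup2 : up c * up c = 1 := by
    rw [up_mul, CharTwo.add_self_eq_zero, up_zero]
  have hupn : up c ^ n = up c := by
    obtain ⟨m, rfl⟩ := hn
    rw [pow_succ, pow_mul, pow_two, hup2, one_pow, one_mul]
  have hcen : up c * lo 1 = lo 1 * up c := by
    have h3 := hpow n (lo 1)
    rw [hα, hupn, MulAut.one_apply] at h3
    calc up c * lo 1 = (up c * lo 1 * (up c)⁻¹) * up c := by group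
      _ = lo 1 * up c := by rw [← h3]
  have hc0 : c = 0 := by
    have h3 := congrArg (fun z => ent z 0 0) hcen
    simp only [ent_mul, up_00, up_01, lo_00, lo_10, lo_01, up_10] at h3
    linear_combination h3
  ext1 x
  rw [hα', hc0, up_zero]
  simp

end sl2

section scal

variable {F k : Type*} [Field F] [Field k]

/-- a field `F` acting on the additive group of `k`, such that `Fˣ` normalises `kˣ`, acts by scalars of `k` -/
theorem scal [CharP F 2] {f : F → k → k} (zero : ∀ s, f s 0 = 0) (one : ∀ x, f 1 x = x)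
    (add : ∀ s t, s ≠ 0 → t ≠ 0 → s + t ≠ 0 → ∀ x, f (s + t) x = f s x + f t x)
    (semi : ∀ s, s ≠ 0 → ∀ μ : k, μ ≠ 0 → ∃ ν : k, ∀ x, f s (μ * x) = ν * f s x) {s : F} (hs : s ≠ 0) (x : k) :
    f s x = f s 1 * x := by
  by_cases hs1 : s = 1
  · rw [hs1, one, one, one_mul]
  have hs2 : s + 1 ≠ 0 := fun h => hs1 (CharTwo.add_eq_zero.1 h)
  have key : ∀ μ : k, μ ≠ 0 → ∀ x, f s (μ * x) = μ * f s x := by
    intro μ hμ
    obtain ⟨ν, hν⟩ := semi s hs μ hμ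
    obtain ⟨ν', hν'⟩ := semi (s + 1) hs2 μ hμ
    have h1 : ∀ x, ν * f s x + μ * x = ν' * (f s x + x) := by
      intro x
      have h2 := hν' x
      rw [add s 1 hs one_ne_zero hs2, add s 1 hs one_ne_zero hs2, one, one, hν] at h2
      exact h2
    by_cases h3 : ν = ν'
    · have h4 := h1 1
      have h5 : ν = μ := by
        rw [← h3] at h4
        linear_combination -h4
      intro x
      rw [hν, h5]
    · have h4 : ν - ν' ≠ 0 := sub_ne_zero.2 h3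
      have h5 : ∀ x, f s x = (ν' - μ) / (ν - ν') * x := by
        intro x
        rw [div_mul_eq_mul_div, eq_div_iff h4]
        linear_combination h1 x
      intro x
      rw [h5, h5]
      ring
  have h0 := zero s
  by_cases hx : x = 0
  · rw [hx, h0, mul_zero]
  · have h2 := key x hx 1
    rw [mul_one] at h2
    rw [h2, mul_comm]

end scal

section aut

variable {G : Type*} [Group G] {S : Type*} [Group S]

/-- the automorphism of `S` induced by an element normalising `K` and `W`, `K / W = S` -/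
theorem exists_aut {K W : Subgroup G} {φ : K →* S} (hφ : Function.Surjective φ)
    (hker : ∀ g : K, φ g = 1 ↔ (g : G) ∈ W) {z : G} (hK : z ∈ normalizer (K : Set G))
    (hW : z ∈ normalizer (W : Set G)) : ∃ α : MulAut S, ∀ g g' : K, (g' : G) = z * g * z⁻¹ → α (φ g) = φ g' := by
  have hcK : ∀ {y : G}, y ∈ normalizer (K : Set G) → ∀ g : K, y * g * y⁻¹ ∈ K := fun hy g =>
    (mem_normalizer_iff.1 hy _).1 g.2
  have hcW : ∀ {y : G}, y ∈ normalizer (W : Set G) → ∀ g ∈ W, y * g * y⁻¹ ∈ W := fun hy g hg =>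
    (mem_normalizer_iff.1 hy _).1 hg
  have hwd : ∀ {y : G}, y ∈ normalizer (W : Set G) → ∀ g g' h h' : K, φ g = φ g' → (h : G) = y * g * y⁻¹ →
      (h' : G) = y * g' * y⁻¹ → φ h = φ h' := by
    intro y hy g g' h h' e e1 e2
    have h1 : φ (g⁻¹ * g') = 1 := by rw [map_mul, map_inv, e, inv_mul_cancel]
    have h2 := hcW hy _ ((hker _).1 h1)
    have h3 : φ (h⁻¹ * h') = 1 := by
      rw [hker]
      have e3 : ((h⁻¹ * h' : K) : G) = y * ((g⁻¹ * g' : K) : G) * y⁻¹ := by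
        push_cast
        rw [e1, e2]; group
      rw [e3]
      exact h2
    rw [map_mul, map_inv, inv_mul_eq_one] at h3
    exact h3
  choose s hs using hφ
  let f : ∀ {y : G}, y ∈ normalizer (K : Set G) → S → S := fun {y} hy x => φ ⟨y * s x * y⁻¹, hcK hy (s x)⟩
  have hf : ∀ {y : G} (hy : y ∈ normalizer (K : Set G)), y ∈ normalizer (W : Set G) → ∀ g g' : K,
      (g' : G) = y * g * y⁻¹ → f hy (φ g) = φ g' := by
    intro y hy hyW g g' e
    exact hwd hyW (s (φ g)) g _ _ (hs _) rfl e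
  have hK' := inv_mem hK
  have hW' := inv_mem hW
  refine ⟨MulEquiv.mk' (Equiv.mk (f hK) (f hK') (fun x => ?_) (fun x => ?_)) fun x y => ?_,
    fun g g' e => hf hK hW g g' e⟩
  · have h1 := hf hK' hW' ⟨z * s x * z⁻¹, hcK hK (s x)⟩ (s x) (by
      change (s x : G) = z⁻¹ * (z * s x * z⁻¹) * z⁻¹⁻¹
      group)
    rw [hs] at h1
    exact h1
  · have h1 := hf hK hW ⟨z⁻¹ * s x * z⁻¹⁻¹, hcK hK' (s x)⟩ (s x) (by
      change (s x : G) = z * (z⁻¹ * s x * z⁻¹⁻¹) * z⁻¹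
      group)
    rw [hs] at h1
    exact h1
  · have h1 := hf hK hW (s x * s y) (⟨z * s x * z⁻¹, hcK hK (s x)⟩ * ⟨z * s y * z⁻¹, hcK hK (s y)⟩) (by
      change z * (s x : G) * z⁻¹ * (z * s y * z⁻¹) = z * ((s x : G) * s y) * z⁻¹
      group)
    rw [map_mul, map_mul, hs, hs] at h1
    exact h1

end aut

end Cfsg.Agent.Omega.SQEnd

end

end

-- merged: Cfsg.Agent.Mrg.Omega.SQEnd.KBase
section

section


/-!
# From `KD` to `Cfg`, part 1: `K ∩ N(V)` and the Borel subgroup of `SL₂(k)`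
-/

set_option autoImplicit false
set_option linter.unusedSectionVars false

universe u v w

namespace Cfsg.Agent.Omega.SQEnd

open Subgroup Cfsg.Agent.Omega.BTwo Cfsg.Agent.Lib.SL2Mat Cfsg.Agent.Omega.Hex

variable {G : Type u} [Group G] {ι : Type v} {V : Subgroup G} {R : ι → Subgroup G} {i j : ι} {k : Type w} [Field k]
  {K : Subgroup G} {φ : K →* Matrix.SpecialLinearGroup (Fin 2) k}

theorem up_val (x : k) : (up x : Matrix.SpecialLinearGroup (Fin 2) k).1 = !![1, x; 0, 1] := rfl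

theorem eq_up_iff {A : Matrix.SpecialLinearGroup (Fin 2) k} {x : k} :
    (A : Matrix (Fin 2) (Fin 2) k) = !![1, x; 0, 1] ↔ A = up x := by
  rw [← up_val]
  exact ⟨fun h => Subtype.ext h, fun h => congrArg Subtype.val h⟩

/-- upper triangular matrices -/
theorem eq_up_of_ent {A : Matrix.SpecialLinearGroup (Fin 2) k} (h : ent A 1 0 = 0) (h0 : ent A 0 0 = 1) :
    A = up (ent A 0 1) := by
  have hd := det_eq A
  rw [h, h0, mul_zero, sub_zero, one_mul] at hd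
  exact ext_ent h0 rfl h hd

theorem ent_pow {A : Matrix.SpecialLinearGroup (Fin 2) k} (h : ent A 1 0 = 0) (n : ℕ) :
    ent (A ^ n) 1 0 = 0 ∧ ent (A ^ n) 0 0 = ent A 0 0 ^ n := by
  induction n with
  | zero => simp
  | succ n ih =>
    rw [pow_succ, ent_mul, ent_mul, ih.1, ih.2, h]
    constructor
    · ring
    · rw [pow_succ]; ring

/-- `A up(x) A⁻¹` for upper triangular `A` -/
theorem conj_up {A : Matrix.SpecialLinearGroup (Fin 2) k} (h : ent A 1 0 = 0) (x : k) :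
    A * up x * A⁻¹ = up (ent A 0 0 ^ 2 * x) := by
  have hd := det_eq A
  rw [h, mul_zero, sub_zero] at hd
  rw [mul_inv_eq_iff_eq_mul]
  refine ext_ent ?_ ?_ ?_ ?_
  · rw [ent_mul, ent_mul, up_00, up_10, up_00, up_01, h]; ring
  · rw [ent_mul, ent_mul, up_01, up_11, up_00, up_01]
    linear_combination (ent A 0 0 * x) * (1 - hd)
  · rw [ent_mul, ent_mul, up_00, up_10, up_10, up_11, h]; ring
  · rw [ent_mul, ent_mul, up_01, up_11, up_10, up_11, h]; ring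

namespace KD

variable (kd : KD V R i j K φ)
include kd

theorem mem_iff (g : K) : (g : G) ∈ WW V (R i) ⊔ UU V R j ↔ ∃ x : k, φ g = up x := by
  rw [kd.uni]
  exact exists_congr fun x => eq_up_iff

theorem exists_up (g : K) (hg : (g : G) ∈ WW V (R i) ⊔ UU V R j) : ∃ x : k, φ g = up x := (kd.mem_iff g).1 hg

theorem S_le : WW V (R i) ⊔ UU V R j ≤ K := sup_le kd.WK kd.UK

theorem K_le_N : K ≤ normalizer (R i : Set G) := by
  intro g hg
  rw [mem_normalizer_iff]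
  intro a
  constructor
  · intro ha
    rw [kd.KR g hg a ha, mul_inv_cancel_right]
    exact ha
  · intro ha
    have h1 := kd.KR _ (inv_mem hg) _ ha
    have e : a = g * a * g⁻¹ := by
      calc a = g⁻¹ * (g * a * g⁻¹) * g := by group
        _ = (g * a * g⁻¹) * g⁻¹ * g := by rw [h1]
        _ = g * a * g⁻¹ := by group
    rw [e]
    exact ha

/-- preimage of `up x` in `U j` -/
theorem exists_U (hN : UU V R j ≤ normalizer (WW V (R i) : Set G)) (x : k) :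
    ∃ a ∈ UU V R j, ∀ ha : a ∈ K, φ ⟨a, ha⟩ = up x := by
  obtain ⟨g, hg⟩ := kd.surj (up x)
  have h1 := (kd.mem_iff g).2 ⟨x, hg⟩
  obtain ⟨w, hw, a, ha, e⟩ := exists_mul hN le_rfl h1
  refine ⟨a, ha, fun haK => ?_⟩
  have h2 : φ ⟨w, kd.WK hw⟩ = 1 := (kd.ker _).2 hw
  have h3 : g = ⟨w, kd.WK hw⟩ * ⟨a, haK⟩ := Subtype.ext e
  rw [h3, map_mul, h2, one_mul] at hg
  exact hg

/-- the field `k` is finite -/
theorem finite [Finite G] : Finite k := by
  have h1 : Finite (Matrix.SpecialLinearGroup (Fin 2) k) := Finite.of_surjective φ kd.surj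
  exact Finite.of_injective (fun x : k => (up x : Matrix.SpecialLinearGroup (Fin 2) k)) fun x y h => up_inj h

/-- `k` has characteristic 2 -/
theorem charP (b : BTC V R) : CharP k 2 := by
  obtain ⟨a, ha, h⟩ := kd.exists_U ((UU_le_cen j).trans (b.cen_le_NW i)) 1
  have haK := kd.UK ha
  have h1 := h haK
  have h2 : φ (⟨a, haK⟩ * ⟨a, haK⟩) = 1 := by
    rw [kd.ker]
    exact b.R_le_W j i (b.W_sq j (UU_le_WW j ha))
  rw [map_mul, h1, up_mul] at h2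
  have h3 : (1 : k) + 1 = 0 := up_inj (h2.trans up_zero.symm)
  exact CharTwo.of_one_ne_zero_of_two_eq_zero one_ne_zero (by rw [← h3]; norm_num)

variable (b : BTC V R)
include b

/-- `W U j = W Y` -/
theorem S_eq : WW V (R i) ⊔ UU V R j = WW V (R i) ⊔ YY V R := by
  rw [b.Y_eq kd.ne]
  apply le_antisymm
  · exact sup_le le_sup_left (le_sup_right.trans le_sup_right)
  · exact sup_le le_sup_left (sup_le ((UU_le_WW i).trans le_sup_left) le_sup_right)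

theorem Y_le_K : YY V R ≤ K := by
  rw [b.Y_eq kd.ne]
  exact sup_le ((UU_le_WW i).trans kd.WK) kd.UK

/-- `N(R i) ∩ N(V)` normalises `W U j` -/
theorem S_normal {g : G} (hR : g ∈ normalizer (R i : Set G)) (hV : g ∈ normalizer (V : Set G)) :
    cj g (WW V (R i) ⊔ UU V R j) = WW V (R i) ⊔ UU V R j := by
  rw [kd.S_eq b, cj_sup, cj_eq_self_iff.2 (normalizer_le_WW V (R i) hR), cj_eq_self_iff.2 (b.NV_le_NY hV)]

/-- `φ(K ∩ N(V))` is upper triangular -/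
theorem ent_of_mem (g : K) (hg : cj (g : G) (WW V (R i) ⊔ UU V R j) = WW V (R i) ⊔ UU V R j) :
    ent (φ g) 1 0 = 0 := by
  obtain ⟨a, ha, h⟩ := kd.exists_U ((UU_le_cen j).trans (b.cen_le_NW i)) 1
  have haK := kd.UK ha
  have h1 := h haK
  have h2 : (g : G) * a * (g : G)⁻¹ ∈ WW V (R i) ⊔ UU V R j := by
    rw [← hg]
    exact conj_mem_cj (le_sup_right (a := WW V (R i)) ha)
  obtain ⟨x, hx⟩ := kd.exists_up (g * ⟨a, haK⟩ * g⁻¹) h2
  rw [map_mul, map_mul, map_inv, h1, mul_inv_eq_iff_eq_mul] at hx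
  have h3 := congrArg (fun z => ent z 0 0) hx
  simp only [ent_mul, up_00, up_01, up_10, mul_one, mul_zero, add_zero, one_mul] at h3
  have h4 : x * ent (φ g) 1 0 = 0 := by linear_combination -h3
  rcases mul_eq_zero.1 h4 with h5 | h5
  · exfalso
    rw [h5, up_zero, one_mul] at hx
    have h6 : (up (1 : k) : Matrix.SpecialLinearGroup (Fin 2) k) = up 0 := by
      rw [up_zero]
      exact mul_left_cancel (hx.trans (mul_one _).symm)
    exact one_ne_zero (up_inj h6)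
  · exact h5

/-- `(W U j) ∩ N(R j) ≤ Y` -/
theorem mem_Y {g : G} (hg : g ∈ WW V (R i) ⊔ UU V R j) (hR : g ∈ normalizer (R j : Set G)) : g ∈ YY V R := by
  obtain ⟨w, hw, a, ha, rfl⟩ := exists_mul ((UU_le_cen j).trans (b.cen_le_NW i)) le_rfl hg
  have haN : a ∈ normalizer (R j : Set G) := b.cen_le_N j (UU_le_cen j ha)
  have hwN : w ∈ normalizer (R j : Set G) := by
    have := mul_mem hR (inv_mem haN)
    rwa [mul_inv_cancel_right] at this
  have h1 := b.mem_cen (Ne.symm kd.ne) hw (cj_eq_self_iff.2 hwN)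
  exact mul_mem (UU_le_YY i h1) (UU_le_YY j ha)

/-- `W ∩ N(R j) ≤ Y` -/
theorem W_inf_N {g : G} (hg : g ∈ WW V (R i)) (hR : g ∈ normalizer (R j : Set G)) : g ∈ YY V R :=
  kd.mem_Y b (le_sup_left (b := UU V R j) hg) hR

variable [Finite G]
  (NAe : ∀ g ∈ normalizer (R i : Set G), cj g (WW V (R i) ⊔ UU V R j) = WW V (R i) ⊔ UU V R j → cj g V = V)
include NAe

/-- `K ∩ N(V)` is the preimage of the Borel subgroup -/
theorem mem_NV_iff (g : K) : (g : G) ∈ normalizer (V : Set G) ↔ ent (φ g) 1 0 = 0 := by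
  constructor
  · exact fun h => kd.ent_of_mem b g (kd.S_normal b (kd.K_le_N g.2) h)
  · intro h
    rw [← cj_eq_self_iff]
    refine NAe _ (kd.K_le_N g.2) (cj_eq_self_iff.2 (mem_normalizer_of_conj fun x hx => ?_))
    have hxK := kd.S_le hx
    obtain ⟨y, hy⟩ := kd.exists_up ⟨x, hxK⟩ hx
    have h1 : φ (g * ⟨x, hxK⟩ * g⁻¹) = up (ent (φ g) 0 0 ^ 2 * y) := by
      rw [map_mul, map_mul, map_inv, hy, conj_up h]
    exact (kd.mem_iff (g * ⟨x, hxK⟩ * g⁻¹)).2 ⟨_, h1⟩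

/-- **Frattini**: `N(R i) = K (N(R i) ∩ N(V))` -/
theorem frat {h : G} (hh : h ∈ normalizer (R i : Set G)) : ∃ g ∈ K, g⁻¹ * h ∈ normalizer (V : Set G) := by
  have := kd.finite
  have := kd.charP b
  have : Fact (Nat.Prime 2) := ⟨Nat.prime_two⟩
  have hhK := kd.NK hh
  obtain ⟨α, hα⟩ := exists_aut kd.surj kd.ker hhK (normalizer_le_WW V (R i) hh)
  set P := Lib.AutSL2.sylU k 2 with hP
  have hPm : ∀ x, x ∈ P ↔ ∃ b : k, up b = x := fun x => Iff.rfl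
  obtain ⟨s, hs⟩ := MulAction.exists_smul_eq (Matrix.SpecialLinearGroup (Fin 2) k) P (α • P)
  obtain ⟨g, hg⟩ := kd.surj s
  refine ⟨g, g.2, ?_⟩
  rw [← cj_eq_self_iff]
  refine NAe _ (mul_mem (inv_mem (kd.K_le_N g.2)) hh) (cj_eq_self_iff.2 (mem_normalizer_of_conj fun u hu => ?_))
  have huK := kd.S_le hu
  obtain ⟨x, hx⟩ := kd.exists_up ⟨u, huK⟩ hu
  have h1 : α (up x) ∈ α • P := Lib.AutSL2.mem_aut_smul_sylow P α ((hPm _).2 ⟨x, rfl⟩)
  rw [← hs, Lib.AutSL2.mem_smul_sylow, hPm] at h1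
  obtain ⟨y, hy⟩ := h1
  have hu' : h * u * h⁻¹ ∈ K := conj_mem_of_normalizer hhK huK
  have h2 := hα ⟨u, huK⟩ ⟨h * u * h⁻¹, hu'⟩ rfl
  have h3 : φ (g⁻¹ * ⟨h * u * h⁻¹, hu'⟩ * g) = up y := by
    rw [map_mul, map_mul, map_inv, hg, ← h2, hx, ← hy]
  have h4 := (kd.mem_iff (g⁻¹ * ⟨h * u * h⁻¹, hu'⟩ * g)).2 ⟨y, h3⟩
  have e : ((g : G)⁻¹ * h) * u * ((g : G)⁻¹ * h)⁻¹ = (g : G)⁻¹ * (h * u * h⁻¹) * g := by group
  rw [e]
  exact h4

end KD

end Cfsg.Agent.Omega.SQEnd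

end

section


/-!
# `KD` from `K / W ≅ SL₂(k)` and `W U j` of odd index in `K`
-/

set_option autoImplicit false

universe u v w

namespace Cfsg.Agent.Omega.SQEnd

open Subgroup Cfsg.Agent.Omega.BTwo Cfsg.Agent.Lib.SL2Mat

variable {G : Type u} [Group G] [Finite G] {ι : Type v} {V : Subgroup G} {R : ι → Subgroup G} {i j : ι} {k : Type w}
  [Field k] [Finite k] [CharP k 2] {K : Subgroup G}

/-- **entry**: `K / W i ≅ SL₂(k)` and `W i U j` contains a Sylow 2-subgroup of `K` -/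
theorem exists_kd (b : BTC V R) (hij : i ≠ j) {ψ : K →* Matrix.SpecialLinearGroup (Fin 2) k}
    (hψ : Function.Surjective ψ) (hker : ∀ g : K, ψ g = 1 ↔ (g : G) ∈ WW V (R i)) (hWK : WW V (R i) ≤ K)
    (hUK : UU V R j ≤ K) (hKR : K ≤ centralizer (R i : Set G))
    (hNK : normalizer (R i : Set G) ≤ normalizer (K : Set G))
    (hodd : Odd ((WW V (R i) ⊔ UU V R j).relIndex K)) : ∃ φ, KD V R i j K φ (k := k) := by
  have : Fact (Nat.Prime 2) := ⟨Nat.prime_two⟩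
  set S := WW V (R i) ⊔ UU V R j with hS
  have hSK : S ≤ K := sup_le hWK hUK
  have hSY : S ≤ WW V (R i) ⊔ YY V R := sup_le le_sup_left ((UU_le_YY j).trans le_sup_right)
  have hY2 : IsPGroup 2 (YY V R) := by
    rintro ⟨y, hy⟩
    refine ⟨2, Subtype.ext ?_⟩
    change y ^ 4 = 1
    have h1 := b.D_sq (b.Y_sq hy)
    have e : y ^ 4 = y * y * (y * y) := by simp only [pow_succ, pow_zero, one_mul, mul_assoc]
    rw [e, h1]
  have hS2 : IsPGroup 2 S :=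
    ((b.W_isPGroup i).to_sup_of_normal_right' hY2 ((b.W_le_NV i).trans b.NV_le_NY)).to_le hSY
  have h2 : IsPGroup 2 (S.subgroupOf K) := hS2.comap_of_injective _ K.subtype_injective
  have hdvd : ((S.subgroupOf K).map ψ).index ∣ (S.subgroupOf K).index := index_map_dvd _ hψ
  let P : Sylow 2 (Matrix.SpecialLinearGroup (Fin 2) k) := (h2.map ψ).toSylow fun h =>
    (Nat.not_even_iff_odd.2 hodd) (even_iff_two_dvd.2 (h.trans hdvd))
  have hP : ∀ x, x ∈ P ↔ ∃ g : K, (g : G) ∈ S ∧ ψ g = x := fun x => by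
    constructor
    · rintro ⟨g, hg, e⟩
      exact ⟨g, hg, e⟩
    · rintro ⟨g, hg, e⟩
      exact ⟨g, hg, e⟩
  obtain ⟨s, hs⟩ := MulAction.exists_smul_eq (Matrix.SpecialLinearGroup (Fin 2) k) P (Lib.AutSL2.sylU k 2)
  have hU : ∀ x, x ∈ Lib.AutSL2.sylU k 2 ↔ ∃ y : k, up y = x := fun x => Iff.rfl
  refine ⟨(MulAut.conj s).toMonoidHom.comp ψ, ?_⟩
  have hφ : ∀ g : K, ((MulAut.conj s).toMonoidHom.comp ψ) g = s * ψ g * s⁻¹ := fun g => rfl
  refine
    { ne := hij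
      WK := hWK
      UK := hUK
      KR := fun g hg a ha => (mem_centralizer_iff.1 (hKR hg) a ha).symm
      NK := hNK
      surj := fun x => ?_
      ker := fun g => ?_
      uni := fun g => ?_ }
  · obtain ⟨g, hg⟩ := hψ (s⁻¹ * x * s)
    exact ⟨g, by rw [hφ, hg]; group⟩
  · rw [hφ, ← hker, mul_inv_eq_one]
    constructor
    · intro h
      exact mul_left_cancel (h.trans (mul_one s).symm)
    · intro h
      rw [h, mul_one]
  · rw [hφ]
    have h3 : (∃ x : k, (s * ψ g * s⁻¹ : Matrix.SpecialLinearGroup (Fin 2) k).1 = !![1, x; 0, 1]) ↔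
        s * ψ g * s⁻¹ ∈ Lib.AutSL2.sylU k 2 := by
      rw [hU]
      exact exists_congr fun x => eq_up_iff.trans eq_comm
    rw [h3, ← hs, Lib.AutSL2.mem_smul_sylow, hP]
    have e : s⁻¹ * (s * ψ g * s⁻¹) * s = ψ g := by group
    rw [e]
    constructor
    · exact fun h => ⟨g, h, rfl⟩
    · rintro ⟨g', hg', e'⟩
      have h4 : ψ (g'⁻¹ * g) = 1 := by rw [map_mul, map_inv, e', inv_mul_cancel]
      have h5 := mul_mem hg' ((le_sup_left : WW V (R i) ≤ S) ((hker _).1 h4))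
      have e2 : (g' : G) * ((g'⁻¹ * g : K) : G) = g := by push_cast; group
      rwa [e2] at h5

end Cfsg.Agent.Omega.SQEnd

end

section


/-!
# (E6) of TEXT 3 (bb OMEGA #12947): a 2-element of `N(R i)` centralising `K / W i` lies in `W i`
-/

set_option autoImplicit false
set_option linter.unusedSectionVars false

namespace Cfsg.Agent.Omega.SQEnd

open Subgroup Cfsg.Agent.Omega.BTwo

universe u v w

variable {G : Type u} [Group G] {ι : Type w} {V : Subgroup G} {R : ι → Subgroup G} {i j : ι} {F : Type v} [Field F]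
  {v : F → F → G} {w1 w2 : F → G} {N : Type u} [AddCommGroup N] [Module F N] {P1 P2 : G → N}

/-- `x` acts on `V` and on `Y / D` by the matrix `(a, b; c, d)` of determinant one -/
def Mat (V : Subgroup G) (R : ι → Subgroup G) (v : F → F → G) (P1 P2 : G → N) (x : G) (a b c d : F) : Prop :=
  a * d - b * c = 1 ∧ (∀ β γ, x * v β γ * x⁻¹ = v (a * β + b * γ) (c * β + d * γ)) ∧
    ∀ z ∈ YY V R, P1 (x * z * x⁻¹) = a • P1 z + b • P2 z ∧ P2 (x * z * x⁻¹) = c • P1 z + d • P2 z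

theorem Mat.mul {x x' : G} {a b c d a' b' c' d' : F}
    (hx'Y : ∀ z ∈ YY V R, x' * z * x'⁻¹ ∈ YY V R)
    (h : Mat V R v P1 P2 x a b c d) (h' : Mat V R v P1 P2 x' a' b' c' d') :
    Mat V R v P1 P2 (x * x') (a * a' + b * c') (a * b' + b * d') (c * a' + d * c') (c * b' + d * d') := by
  obtain ⟨e1, h1, h2⟩ := h
  obtain ⟨e1', h1', h2'⟩ := h'
  refine ⟨?_, ?_, ?_⟩
  · calc (a * a' + b * c') * (c * b' + d * d') - (a * b' + b * d') * (c * a' + d * c')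
        = (a * d - b * c) * (a' * d' - b' * c') := by ring
      _ = 1 := by rw [e1, e1', one_mul]
  · intro β γ
    have e : x * x' * v β γ * (x * x')⁻¹ = x * (x' * v β γ * x'⁻¹) * x⁻¹ := by group
    rw [e, h1', h1]
    congr 1 <;> ring
  · intro z hz
    have e : x * x' * z * (x * x')⁻¹ = x * (x' * z * x'⁻¹) * x⁻¹ := by group
    obtain ⟨k1, k2⟩ := h2 _ (hx'Y z hz)
    obtain ⟨k3, k4⟩ := h2' z hz
    rw [e, k1, k2, k3, k4]
    constructor
    · rw [smul_add, smul_add, smul_smul, smul_smul, smul_smul, smul_smul, add_smul, add_smul]; abel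
    · rw [smul_add, smul_add, smul_smul, smul_smul, smul_smul, smul_smul, add_smul, add_smul]; abel

theorem Mat.inv {x : G} {a b c d : F} (hxY : ∀ z ∈ YY V R, x⁻¹ * z * x⁻¹⁻¹ ∈ YY V R)
    (h : Mat V R v P1 P2 x a b c d) : Mat V R v P1 P2 x⁻¹ d (-b) (-c) a := by
  obtain ⟨e1, h1, h2⟩ := h
  refine ⟨by rw [← e1]; ring, ?_, ?_⟩
  · intro β γ
    have k := h1 (d * β + -b * γ) (-c * β + a * γ)
    have k1 : a * (d * β + -b * γ) + b * (-c * β + a * γ) = β := by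
      calc a * (d * β + -b * γ) + b * (-c * β + a * γ) = (a * d - b * c) * β := by ring
        _ = β := by rw [e1, one_mul]
    have k2 : c * (d * β + -b * γ) + d * (-c * β + a * γ) = γ := by
      calc c * (d * β + -b * γ) + d * (-c * β + a * γ) = (a * d - b * c) * γ := by ring
        _ = γ := by rw [e1, one_mul]
    rw [k1, k2] at k
    rw [← k]; group
  · intro z hz
    obtain ⟨k1, k2⟩ := h2 _ (hxY z hz)
    have e : x * (x⁻¹ * z * x⁻¹⁻¹) * x⁻¹ = z := by group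
    rw [e] at k1 k2
    rw [k1, k2]
    constructor
    · rw [smul_add, smul_add, smul_smul, smul_smul, smul_smul, smul_smul]
      have e2 : (d * a) • P1 (x⁻¹ * z * x⁻¹⁻¹) + (d * b) • P2 (x⁻¹ * z * x⁻¹⁻¹) +
          ((-b * c) • P1 (x⁻¹ * z * x⁻¹⁻¹) + (-b * d) • P2 (x⁻¹ * z * x⁻¹⁻¹)) =
          (a * d - b * c) • P1 (x⁻¹ * z * x⁻¹⁻¹) := by
        have e3 : (a * d - b * c) • P1 (x⁻¹ * z * x⁻¹⁻¹) =
            (d * a) • P1 (x⁻¹ * z * x⁻¹⁻¹) + (-b * c) • P1 (x⁻¹ * z * x⁻¹⁻¹) := by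
          rw [← add_smul]; congr 1; ring
        have e4 : (-b * d) • P2 (x⁻¹ * z * x⁻¹⁻¹) = -((d * b) • P2 (x⁻¹ * z * x⁻¹⁻¹)) := by
          rw [← neg_smul]; congr 1; ring
        rw [e3, e4]; abel
      rw [e2, e1, one_smul]
    · rw [smul_add, smul_add, smul_smul, smul_smul, smul_smul, smul_smul]
      have e2 : (-c * a) • P1 (x⁻¹ * z * x⁻¹⁻¹) + (-c * b) • P2 (x⁻¹ * z * x⁻¹⁻¹) +
          ((a * c) • P1 (x⁻¹ * z * x⁻¹⁻¹) + (a * d) • P2 (x⁻¹ * z * x⁻¹⁻¹)) =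
          (a * d - b * c) • P2 (x⁻¹ * z * x⁻¹⁻¹) := by
        have e3 : (a * d - b * c) • P2 (x⁻¹ * z * x⁻¹⁻¹) =
            (a * d) • P2 (x⁻¹ * z * x⁻¹⁻¹) + (-c * b) • P2 (x⁻¹ * z * x⁻¹⁻¹) := by
          rw [← add_smul]; congr 1; ring
        have e4 : (-c * a) • P1 (x⁻¹ * z * x⁻¹⁻¹) = -((a * c) • P1 (x⁻¹ * z * x⁻¹⁻¹)) := by
          rw [← neg_smul]; congr 1; ring
        rw [e3, e4]; abel
      rw [e2, e1, one_smul]

section

variable (b : BT V R) (c : Coord V R i j v w1 w2) (y : YPair V R i j w1 w2 N P1 P2)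
include b c y

/-- every element of `X` acts on `V` and on `Y / D` by the same matrix of determinant one -/
theorem exists_mat {x : G} (hx : x ∈ XX V R) : ∃ a b' c' d : F, Mat V R v P1 P2 x a b' c' d := by
  have hXY : ∀ x ∈ XX V R, ∀ z ∈ YY V R, x * z * x⁻¹ ∈ YY V R := fun x hx z hz =>
    y.X_Y b c hx hz
  let T : Subgroup G :=
    { carrier := {x | x ∈ XX V R ∧ ∃ a b' c' d : F, Mat V R v P1 P2 x a b' c' d}
      one_mem' := ⟨one_mem _, 1, 0, 0, 1, by ring, fun β γ => by simp, fun z _ => by simp⟩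
      mul_mem' := by
        rintro x x' ⟨hx, a, b', c', d, h⟩ ⟨hx', a', b'', c'', d', h'⟩
        exact ⟨mul_mem hx hx', _, _, _, _, Mat.mul (hXY x' hx') h h'⟩
      inv_mem' := by
        rintro x ⟨hx, a, b', c', d, h⟩
        exact ⟨inv_mem hx, _, _, _, _, Mat.inv (hXY _ (inv_mem hx)) h⟩ }
  have hwd : ∀ k : ι, ∀ x ∈ WW V (R k), ∀ x' ∈ WW V (R k), (∀ z ∈ V, x * z * x⁻¹ = x' * z * x'⁻¹) →
      ∀ z ∈ YY V R, P1 (x * z * x⁻¹) = P1 (x' * z * x'⁻¹) ∧ P2 (x * z * x⁻¹) = P2 (x' * z * x'⁻¹) := by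
    intro k x hx x' hx' h z hz
    have h1 := b.same hx hx' h hz
    have h2 := hXY x (W_le_X V R k hx) z hz
    have h3 := hXY x' (W_le_X V R k hx') z hz
    obtain ⟨k1, k2⟩ := (y.mem_D _ (mul_mem h2 (inv_mem h3))).1 h1
    rw [y.mul1 _ h2 _ (inv_mem h3), y.inv1 h3, ← sub_eq_add_neg, sub_eq_zero] at k1
    rw [y.mul2 _ h2 _ (inv_mem h3), y.inv2 h3, ← sub_eq_add_neg, sub_eq_zero] at k2
    exact ⟨k1, k2⟩
  have hT : XX V R ≤ T := by
    rw [b.X_eq c.ne]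
    refine sup_le ?_ ?_
    · intro x hx
      obtain ⟨a, ha⟩ := c.W1_act x hx
      refine ⟨W_le_X V R i hx, 1, a, 0, 1, by ring, fun β γ => ?_, fun z hz => ?_⟩
      · rw [ha]; congr 1 <;> ring
      · obtain ⟨k1, k2⟩ := hwd i x hx _ (c.w1_mem a) (fun s hs => by
          obtain ⟨β, γ, rfl⟩ := (c.mem_V s).1 hs
          rw [ha, c.w1_act]) z hz
        rw [k1, k2, y.w11 a z hz, y.w12 a z hz, one_smul, zero_smul, one_smul, zero_add]
        exact ⟨rfl, rfl⟩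
    · intro x hx
      obtain ⟨a, ha⟩ := c.W2_act x hx
      refine ⟨W_le_X V R j hx, 1, 0, a, 1, by ring, fun β γ => ?_, fun z hz => ?_⟩
      · rw [ha]; congr 1 <;> ring
      · obtain ⟨k1, k2⟩ := hwd j x hx _ (c.w2_mem a) (fun s hs => by
          obtain ⟨β, γ, rfl⟩ := (c.mem_V s).1 hs
          rw [ha, c.w2_act]) z hz
        rw [k1, k2, y.w21 a z hz, y.w22 a z hz, one_smul, zero_smul, one_smul, add_zero, add_comm]
        exact ⟨rfl, rfl⟩
  exact (hT hx).2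

/-- elements of `X ∩ N(R i)` have an upper triangular matrix -/
theorem Mat.upper {x : G} {a b' c' d : F} (hm : Mat V R v P1 P2 x a b' c' d)
    (hx : x ∈ normalizer (R i : Set G)) : c' = 0 ∧ a * d = 1 := by
  have _ := b
  have _ := y
  obtain ⟨h0, h1, -⟩ := hm
  have h2 : x * v 1 0 * x⁻¹ ∈ R i := conj_mem_of_normalizer hx ((c.mem_R1 _).2 ⟨1, rfl⟩)
  rw [h1, c.mem_R1] at h2
  obtain ⟨β, hβ⟩ := h2
  have h3 := (c.v_inj hβ).2
  rw [mul_one, mul_zero, add_zero] at h3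
  refine ⟨h3.symm, ?_⟩
  rw [← h3, mul_zero, sub_zero] at h0
  exact h0

omit b y in
/-- **step 3**: a 2-element of `N(R i)` commuting with the action of the torus on `R i` centralises `R i` -/
theorem cen_R_of_comm [CharP F 2] {g : G} (hg : g ∈ normalizer (R i : Set G)) {n : ℕ} (h2 : g ^ 2 ^ n = 1)
    (hT : ∀ t : F, t ≠ 0 → ∀ β, (g * hh w1 w2 t * g⁻¹) * v β 0 * (g * hh w1 w2 t * g⁻¹)⁻¹ = v (t * β) 0) :
    ∀ β, g * v β 0 * g⁻¹ = v β 0 := by
  have h1 : g * v 1 0 * g⁻¹ ∈ R i := conj_mem_of_normalizer hg ((c.mem_R1 _).2 ⟨1, rfl⟩)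
  obtain ⟨l, hl⟩ := (c.mem_R1 _).1 h1
  have key : ∀ β, g * v β 0 * g⁻¹ = v (l * β) 0 := by
    intro β
    by_cases hβ : β = 0
    · rw [hβ, mul_zero, c.v_zero]; group
    · have h3 := hT β hβ l
      rw [hl] at h3
      have h4 := c.hh_act hβ 1 0
      rw [mul_one, mul_zero] at h4
      calc g * v β 0 * g⁻¹ = g * (hh w1 w2 β * v 1 0 * (hh w1 w2 β)⁻¹) * g⁻¹ := by rw [h4]
        _ = (g * hh w1 w2 β * g⁻¹) * (g * v 1 0 * g⁻¹) * (g * hh w1 w2 β * g⁻¹)⁻¹ := by group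
        _ = v (β * l) 0 := h3
        _ = v (l * β) 0 := by rw [mul_comm]
  have hpow : ∀ k : ℕ, ∀ β, g ^ k * v β 0 * (g ^ k)⁻¹ = v (l ^ k * β) 0 := by
    intro k
    induction k with
    | zero => intro β; simp
    | succ k ih =>
      intro β
      have e : g ^ (k + 1) * v β 0 * (g ^ (k + 1))⁻¹ = g * (g ^ k * v β 0 * (g ^ k)⁻¹) * g⁻¹ := by
        rw [pow_succ']; group
      rw [e, ih, key, pow_succ', mul_assoc]
  have hl1 : l ^ 2 ^ n = 1 := by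
    have h3 := hpow (2 ^ n) 1
    rw [h2, one_mul, inv_one, mul_one, mul_one] at h3
    exact (c.v_inj h3).1.symm
  have hl2 : l = 1 := by
    have h3 : (l - 1) ^ 2 ^ n = 0 := by
      haveI : Fact (Nat.Prime 2) := ⟨Nat.prime_two⟩
      rw [sub_pow_char_pow, hl1, one_pow, sub_self]
    exact sub_eq_zero.1 (pow_eq_zero_iff (by positivity) |>.1 h3)
  intro β
  rw [key, hl2, one_mul]

/-- **step 2**: a 2-element of `N(V)` centralising `R i` is trivial on `V / R i` -/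
theorem comm_V_of_cen [CharP F 2] {g : G} (hgV : g ∈ normalizer (V : Set G))
    (hg : ∀ β, g * v β 0 * g⁻¹ = v β 0) {n : ℕ} (h2 : g ^ 2 ^ n = 1) :
    ∀ s ∈ V, g * s * g⁻¹ * s⁻¹ ∈ R i := by
  have hV : ∀ γ, ∃ x : F × F, g * v 0 γ * g⁻¹ = v x.1 x.2 := by
    intro γ
    obtain ⟨a, d, h⟩ := (c.mem_V _).1 (conj_mem_of_normalizer hgV (c.v_mem 0 γ))
    exact ⟨(a, d), h.symm⟩
  choose φ hφ using hV
  have hsc : ∀ t : F, t ≠ 0 → ∀ γ, (φ (t⁻¹ * γ)).2 = t⁻¹ * (φ γ).2 := by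
    intro t ht γ
    set x := hh w1 w2 t * g * (hh w1 w2 t)⁻¹ * g⁻¹ with hx
    have hNX : g ∈ normalizer (XX V R : Set G) := b.NV_le_NX hgV
    have hxX : x ∈ XX V R := by
      have e : x = hh w1 w2 t * (g * (hh w1 w2 t)⁻¹ * g⁻¹) := by rw [hx]; group
      rw [e]
      exact mul_mem (c.hh_mem_X b t) (conj_mem_of_normalizer hNX (inv_mem (c.hh_mem_X b t)))
    have hxR : ∀ β, x * v β 0 * x⁻¹ = v β 0 := by
      intro β
      have e : x * v β 0 * x⁻¹ = hh w1 w2 t * (g * ((hh w1 w2 t)⁻¹ * (g⁻¹ * v β 0 * g) * hh w1 w2 t) * g⁻¹) *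
          (hh w1 w2 t)⁻¹ := by rw [hx]; group
      have e1 : g⁻¹ * v β 0 * g = v β 0 := by
        nth_rewrite 1 [← hg β]; group
      have e2 := c.hh_act_inv ht β 0
      rw [mul_zero] at e2
      rw [e, e1, e2, hg]
      have e3 := c.hh_act ht (t⁻¹ * β) 0
      rw [mul_zero, ← mul_assoc, mul_inv_cancel₀ ht, one_mul] at e3
      exact e3
    obtain ⟨a, b', c', d, hm⟩ := exists_mat b c y hxX
    have h3 := hxR 1
    rw [hm.2.1] at h3
    obtain ⟨h4, h5⟩ := c.v_inj h3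
    rw [mul_one, mul_zero, add_zero] at h4 h5
    have h6 := hm.1
    rw [h4, h5, mul_zero, sub_zero, one_mul] at h6
    -- compare
    have k1 : hh w1 w2 t * (g * v 0 γ * g⁻¹) * (hh w1 w2 t)⁻¹ = v (t * (φ γ).1) (t⁻¹ * (φ γ).2) := by
      rw [hφ, c.hh_act ht]
    have k2 : hh w1 w2 t * (g * v 0 γ * g⁻¹) * (hh w1 w2 t)⁻¹ =
        x * (g * (hh w1 w2 t * v 0 γ * (hh w1 w2 t)⁻¹) * g⁻¹) * x⁻¹ := by rw [hx]; group
    rw [k1, c.hh_act ht, mul_zero, hφ, hm.2.1, h5, h6, zero_mul, zero_add, one_mul] at k2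
    exact (c.v_inj k2).2.symm
  set δ := (φ 1).2 with hδ
  have h0 : (φ 0).2 = 0 := by
    have h3 := hφ 0
    rw [c.v_zero, mul_one, mul_inv_cancel, ← c.v_zero] at h3
    exact (c.v_inj h3).2.symm
  have hφ2 : ∀ γ, (φ γ).2 = δ * γ := by
    intro γ
    by_cases hγ : γ = 0
    · rw [hγ, h0, mul_zero]
    · have h3 := hsc γ⁻¹ (inv_ne_zero hγ) 1
      rw [inv_inv, mul_one] at h3
      rw [h3, mul_comm]
  have hall : ∀ β γ, g * v β γ * g⁻¹ = v (β + (φ γ).1) (δ * γ) := by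
    intro β γ
    have h3 := c.v_add β 0 0 γ
    rw [add_zero, zero_add] at h3
    have h4 := c.v_add β 0 (φ γ).1 (δ * γ)
    rw [zero_add] at h4
    rw [h3, h4]
    have e : g * (v β 0 * v 0 γ) * g⁻¹ = (g * v β 0 * g⁻¹) * (g * v 0 γ * g⁻¹) := by group
    rw [e, hg, hφ, hφ2]
  have hpow : ∀ k : ℕ, ∀ β γ, ∃ β', g ^ k * v β γ * (g ^ k)⁻¹ = v β' (δ ^ k * γ) := by
    intro k
    induction k with
    | zero => intro β γ; exact ⟨β, by simp⟩
    | succ k ih =>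
      intro β γ
      obtain ⟨β', h⟩ := ih β γ
      have e : g ^ (k + 1) * v β γ * (g ^ (k + 1))⁻¹ = g * (g ^ k * v β γ * (g ^ k)⁻¹) * g⁻¹ := by
        rw [pow_succ']; group
      refine ⟨β' + (φ (δ ^ k * γ)).1, ?_⟩
      rw [e, h, hall, pow_succ', mul_assoc]
  have hl1 : δ ^ 2 ^ n = 1 := by
    obtain ⟨β', h3⟩ := hpow (2 ^ n) 0 1
    rw [h2, one_mul, inv_one, mul_one, mul_one] at h3
    exact (c.v_inj h3).2.symm
  have hl2 : δ = 1 := by
    have h3 : (δ - 1) ^ 2 ^ n = 0 := by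
      haveI : Fact (Nat.Prime 2) := ⟨Nat.prime_two⟩
      rw [sub_pow_char_pow, hl1, one_pow, sub_self]
    exact sub_eq_zero.1 (pow_eq_zero_iff (by positivity) |>.1 h3)
  intro s hs
  obtain ⟨β, γ, rfl⟩ := (c.mem_V s).1 hs
  rw [hall, hl2, one_mul]
  have h3 := c.v_add (φ γ).1 0 β γ
  rw [zero_add] at h3
  rw [add_comm, h3, mul_inv_cancel_right]
  exact (c.mem_R1 _).2 ⟨_, rfl⟩

end

/-- **(E6)**: a 2-element of `N(R i)` centralising `K / W i` lies in `W i` -/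
theorem cent_K_two [Finite G] [CharP F 2] (b : BTC V R) (c : Coord V R i j v w1 w2)
    (y : YPair V R i j w1 w2 N P1 P2) (hQ : QQ (R i) = WW V (R i)) (hN : ∃ n : N, n ≠ 0) {K : Subgroup G}
    (hKN : K ≤ normalizer (R i : Set G)) (WK : WW V (R i) ≤ K) (AK : UU V R j ≤ K)
    (frat : ∀ g ∈ normalizer (R i : Set G), ∃ x ∈ K, x⁻¹ * g ∈ normalizer (V : Set G))
    (NA : ∀ g ∈ normalizer (R i : Set G), g ∈ normalizer ((WW V (R i) ⊔ UU V R j : Subgroup G) : Set G) →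
      g ∈ normalizer (V : Set G))
    {g : G} (hg : g ∈ normalizer (R i : Set G)) (hgK : ∀ k ∈ K, g * k * g⁻¹ * k⁻¹ ∈ WW V (R i))
    {n : ℕ} (h2 : g ^ 2 ^ n = 1) : g ∈ WW V (R i) := by
  have bt := b.toBT
  have hgW : g ∈ normalizer (WW V (R i) : Set G) := normalizer_le_WW V (R i) hg
  -- `g` normalises `W A`
  have hgWA : g ∈ normalizer ((WW V (R i) ⊔ UU V R j : Subgroup G) : Set G) := by
    refine mem_normalizer_of_conj fun x hx => ?_
    have h3 : cj g (WW V (R i) ⊔ UU V R j) ≤ WW V (R i) ⊔ UU V R j := by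
      rw [cj_sup, cj_eq_self_iff.2 hgW]
      refine sup_le le_sup_left ?_
      rw [cj_le_iff]
      intro u hu
      have e : g * u * g⁻¹ = (g * u * g⁻¹ * u⁻¹) * u := by group
      rw [e]
      exact mul_mem (mem_sup_left (hgK u (AK hu))) (mem_sup_right hu)
    exact h3 (conj_mem_cj hx)
  have hgV := NA g hg hgWA
  have hYK : YY V R ≤ K := by
    rw [bt.Y_eq c.ne]
    exact sup_le ((UU_le_WW i).trans WK) AK
  have hgY := bt.NV_le_NY hgV
  -- `g` preserves `P2` on `Y`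
  have hP2 : ∀ z ∈ YY V R, P2 (g * z * g⁻¹) = P2 z := by
    intro z hz
    have h3 := conj_mem_of_normalizer hgY hz
    have h4 : g * z * g⁻¹ * z⁻¹ ∈ UU V R i :=
      mem_inf.2 ⟨hgK z (hYK hz), YY_le_cen (mul_mem h3 (inv_mem hz))⟩
    have h5 := (y.mem_U1 _ (UU_le_YY i h4)).1 h4
    rw [y.mul2 _ h3 _ (inv_mem hz), y.inv2 hz, ← sub_eq_add_neg, sub_eq_zero] at h5
    exact h5
  -- `g` centralises `R i`
  have hcR : ∀ β, g * v β 0 * g⁻¹ = v β 0 := by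
    refine cen_R_of_comm c hg h2 fun t ht β => ?_
    set x := g * hh w1 w2 t * g⁻¹ with hx
    have hxX : x ∈ XX V R := conj_mem_of_normalizer (bt.NV_le_NX hgV) (c.hh_mem_X bt t)
    have hxR : x ∈ normalizer (R i : Set G) :=
      mul_mem (mul_mem hg (cj_eq_self_iff.1 (c.hh_R1 bt ht))) (inv_mem hg)
    obtain ⟨a, b', c', d, hm⟩ := exists_mat bt c y hxX
    obtain ⟨hc0, had⟩ := Mat.upper bt c y hm hxR
    obtain ⟨n0, hn0⟩ := hN
    obtain ⟨u, hu, hu1, hu2⟩ := y.surj 0 n0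
    have hginv : g⁻¹ * u * g ∈ YY V R := conj_inv_mem_of_normalizer hgY hu
    have k1 : P2 (x * u * x⁻¹) = d • n0 := by
      rw [(hm.2.2 u hu).2, hc0, zero_smul, zero_add, hu2]
    have k2 : P2 (x * u * x⁻¹) = t⁻¹ • n0 := by
      have e : x * u * x⁻¹ = g * (hh w1 w2 t * (g⁻¹ * u * g) * (hh w1 w2 t)⁻¹) * g⁻¹ := by rw [hx]; group
      rw [e, hP2 _ (y.X_Y bt c (c.hh_mem_X bt t) hginv), (y.hh1 bt c ht hginv).2]
      have h5 := hP2 _ hginv
      have e2 : g * (g⁻¹ * u * g) * g⁻¹ = u := by group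
      rw [e2, hu2] at h5
      rw [← h5]
    have k3 : d = t⁻¹ := by
      have h5 : (d - t⁻¹) • n0 = 0 := by rw [sub_smul, ← k1, ← k2, sub_self]
      rcases smul_eq_zero.1 h5 with h6 | h6
      · exact sub_eq_zero.1 h6
      · exact absurd h6 hn0
    have k4 : a = t := by
      rw [k3] at had
      calc a = a * t⁻¹ * t := by rw [mul_assoc, inv_mul_cancel₀ ht, mul_one]
        _ = t := by rw [had, one_mul]
    rw [hm.2.1, hc0, k4, mul_zero, add_zero, zero_mul, mul_zero, add_zero]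
  have hcV := comm_V_of_cen bt c y hgV hcR h2
  -- `g` is trivial on `W / R`
  have hcR' : ∀ r ∈ R i, g * r * g⁻¹ = r := by
    intro r hr
    obtain ⟨β, rfl⟩ := (c.mem_R1 r).1 hr
    exact hcR β
  rw [← hQ, ← b.K_eq i]
  refine ⟨hg, ?_⟩
  let T : Subgroup G :=
    { carrier := {x | x ∈ WW V (R i) ∧ g * x * g⁻¹ * x⁻¹ ∈ R i}
      one_mem' := ⟨one_mem _, by
        have e : g * 1 * g⁻¹ * 1⁻¹ = 1 := by group
        rw [e]; exact one_mem _⟩
      mul_mem' := by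
        rintro x x' ⟨hx, h⟩ ⟨hx', h'⟩
        refine ⟨mul_mem hx hx', ?_⟩
        have e : g * (x * x') * g⁻¹ * (x * x')⁻¹ =
            (g * x * g⁻¹ * x⁻¹) * (x * (g * x' * g⁻¹ * x'⁻¹) * x⁻¹) := by group
        rw [e]
        exact mul_mem h (conj_mem_of_normalizer (b.W_le_N i hx) h')
      inv_mem' := by
        rintro x ⟨hx, h⟩
        refine ⟨inv_mem hx, ?_⟩
        have e : g * x⁻¹ * g⁻¹ * x⁻¹⁻¹ = (g * x⁻¹ * g⁻¹) * (g * x * g⁻¹ * x⁻¹)⁻¹ * (g * x⁻¹ * g⁻¹)⁻¹ *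
            1 := by group
        -- `[g, x⁻¹] = x⁻¹ [g,x]⁻¹ x`
        have e2 : g * x⁻¹ * g⁻¹ * x⁻¹⁻¹ = g * x⁻¹ * g⁻¹ * (g * x * g⁻¹ * x⁻¹)⁻¹ * (g * x⁻¹ * g⁻¹)⁻¹ := by
          group
        rw [e2]
        exact conj_mem_of_normalizer (mul_mem (mul_mem hg (inv_mem (b.W_le_N i hx))) (inv_mem hg)) (inv_mem h) }
  have hT : WW V (R i) ≤ T := by
    refine iSup_le fun h => ?_
    obtain ⟨k, hk, hkV⟩ := frat h h.2
    rintro _ ⟨s, hs, rfl⟩
    change (h : G) * s * (h : G)⁻¹ ∈ T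
    have hs' : (k⁻¹ * h) * s * (k⁻¹ * h)⁻¹ ∈ V := conj_mem_of_normalizer hkV hs
    set s' := (k⁻¹ * h) * s * (k⁻¹ * h)⁻¹ with hs'd
    have e : (h : G) * s * (h : G)⁻¹ = k * s' * k⁻¹ := by rw [hs'd]; group
    have hxW : k * s' * k⁻¹ ∈ WW V (R i) := cj_le_WW (hKN hk) (conj_mem_cj hs')
    rw [e]
    refine ⟨hxW, ?_⟩
    set x := k * s' * k⁻¹ with hxd
    set w := g * k * g⁻¹ * k⁻¹ with hwd
    have hw : w ∈ WW V (R i) := hgK k hk
    have hr := hcV s' hs'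
    set r := g * s' * g⁻¹ * s'⁻¹ with hrd
    have e2 : g * x * g⁻¹ * x⁻¹ = (w * (k * r * k⁻¹) * w⁻¹) * (w * x * w⁻¹ * x⁻¹) := by
      rw [hxd, hwd, hrd]; group
    rw [e2]
    exact mul_mem (conj_mem_of_normalizer (b.W_le_N i hw) (conj_mem_of_normalizer (hKN hk) hr))
      (b.WW_comm i hw hxW)
  exact fun x hx => (hT hx).2

end Cfsg.Agent.Omega.SQEnd

end

end
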