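import Cfsg.Agent.Mrg.Omega.BTwo.Count
import Cfsg.Agent.Lib.ProductSet
import Cfsg.Agent.Mrg.Omega.BTwo.QuadGrp
import Cfsg.Agent.Mrg.Omega.SQEnd.KBase
import Cfsg.Agent.Lib.SL2Mat

-- merged: Cfsg.Agent.Mrg.Omega.Hex.OfLoc
section

/-!
# The pair data gives the structure `Hex`

`PLoc.exists_hex`.
-/

set_option autoImplicit false
set_option linter.dupNamespace false

universe u v

namespace Cfsg.Agent.Omega.Hex

open Subgroup Cfsg.Agent.Omega.BTwo

variable {G : Type u} [Group G] {ι : Type v}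

namespace PLoc

variable {V : Subgroup G} {R : ι → Subgroup G} {i : ι} {X₂ : Subgroup G} {r : ℕ}

/-- `B = B₀ S` -/
def BB (V : Subgroup G) (R : ι → Subgroup G) (i : ι) (X₂ S : Subgroup G) : Subgroup G :=
  B0 V R i X₂ ⊔ S

/-- `P₁ = X B` -/
def PP1 (V : Subgroup G) (R : ι → Subgroup G) (i : ι) (X₂ S : Subgroup G) : Subgroup G :=
  XX V R ⊔ BB V R i X₂ S

/-- `P₂ = X₂ B` -/
def PP2 (V : Subgroup G) (R : ι → Subgroup G) (i : ι) (X₂ S : Subgroup G) : Subgroup G :=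
  X₂ ⊔ BB V R i X₂ S

variable (l : PLoc V R i X₂ r)
include l

section

variable {S : Subgroup G} (hSF : S ≤ NF V R i)

include hSF

theorem BB_NF : BB V R i X₂ S ≤ NF V R i := sup_le l.B0_NF hSF

theorem exists_mul₁ {g : G} (hg : g ∈ PP1 V R i X₂ S) : ∃ x ∈ XX V R, ∃ b ∈ BB V R i X₂ S, g = x * b :=
  exists_mul_of_le ((l.BB_NF hSF).trans (inf_le_left.trans l.bt.NV_le_NX)) hg

theorem exists_mul₂ {g : G} (hg : g ∈ PP2 V R i X₂ S) : ∃ x ∈ X₂, ∃ b ∈ BB V R i X₂ S, g = x * b :=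
  exists_mul_of_le ((l.BB_NF hSF).trans (inf_le_right.trans l.NX₂)) hg

theorem stab₁ : PP1 V R i X₂ S ⊓ normalizer (R i : Set G) ≤ BB V R i X₂ S := by
  intro g hgg
  obtain ⟨hg, hgR⟩ := mem_inf.1 hgg
  obtain ⟨x, hx, b, hb, rfl⟩ := l.exists_mul₁ hSF hg
  have h1 : x ∈ normalizer (R i : Set G) := by
    have := mul_mem hgR (inv_mem (l.BB_NF hSF hb).2)
    rwa [mul_inv_cancel_right] at this
  have h2 : x ∈ A1 V R i := mem_inf.2 ⟨hx, h1⟩
  exact mul_mem (mem_sup_left (mem_sup_left h2)) hb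

theorem stab₂ : PP2 V R i X₂ S ⊓ normalizer (V : Set G) ≤ BB V R i X₂ S := by
  intro g hgg
  obtain ⟨hg, hgR⟩ := mem_inf.1 hgg
  obtain ⟨x, hx, b, hb, rfl⟩ := l.exists_mul₂ hSF hg
  have h1 : x ∈ normalizer (V : Set G) := by
    have := mul_mem hgR (inv_mem (l.BB_NF hSF hb).1)
    rwa [mul_inv_cancel_right] at this
  have h2 : x ∈ A2 V X₂ := mem_inf.2 ⟨hx, h1⟩
  exact mul_mem (mem_sup_left (mem_sup_right h2)) hb

theorem PP1_NV : PP1 V R i X₂ S ≤ normalizer (V : Set G) :=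
  sup_le l.bt.X_le_NV ((l.BB_NF hSF).trans inf_le_left)

theorem PP2_NR : PP2 V R i X₂ S ≤ normalizer (R i : Set G) :=
  sup_le l.X₂N ((l.BB_NF hSF).trans inf_le_right)

theorem not_mem_NR {g : G} (hg : g ∈ PP1 V R i X₂ S) (h : g ∉ BB V R i X₂ S) :
    g ∉ normalizer (R i : Set G) := fun h1 => h (l.stab₁ hSF ⟨hg, h1⟩)

theorem not_mem_NV {g : G} (hg : g ∈ PP2 V R i X₂ S) (h : g ∉ BB V R i X₂ S) :
    g ∉ normalizer (V : Set G) := fun h1 => h (l.stab₂ hSF ⟨hg, h1⟩)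

/-- `Y` is transitive on `P₂ / B - {B}` -/
theorem trans₂' {x x' : G} (hx : x ∈ PP2 V R i X₂ S) (hx' : x' ∈ PP2 V R i X₂ S)
    (h : x ∉ normalizer (V : Set G)) (h' : x' ∉ normalizer (V : Set G)) :
    ∃ y ∈ YY V R, (y * x)⁻¹ * x' ∈ normalizer (V : Set G) := by
  obtain ⟨a, ha, b, hb, rfl⟩ := l.exists_mul₂ hSF hx
  obtain ⟨a', ha', b', hb', rfl⟩ := l.exists_mul₂ hSF hx'
  have hbV := (l.BB_NF hSF hb).1
  have hbV' := (l.BB_NF hSF hb').1
  obtain ⟨y, hy, e⟩ := l.trans₂ a ha a' ha' (fun h1 => h (mul_mem h1 hbV))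
    (fun h1 => h' (mul_mem h1 hbV'))
  refine ⟨y, hy, ?_⟩
  have e1 : (y * (a * b))⁻¹ * (a' * b') = b⁻¹ * ((y * a)⁻¹ * a') * b' := by group
  rw [e1]
  exact mul_mem (mul_mem (inv_mem hbV) e) hbV'

theorem ker₂' {x y : G} (hx : x ∈ PP2 V R i X₂ S) (h : x ∉ normalizer (V : Set G)) (hy : y ∈ YY V R)
    (hyx : y ∈ cj x (normalizer (V : Set G))) : y ∈ WW V (R i) := by
  obtain ⟨a, ha, b, hb, rfl⟩ := l.exists_mul₂ hSF hx
  have hbV := (l.BB_NF hSF hb).1
  refine l.ker₂ a ha (fun h1 => h (mul_mem h1 hbV)) y hy ?_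
  rwa [cj_mul, cj_of_mem hbV] at hyx

end

/-! ### the reflections -/

/-- the condition for `x ∈ X` -/
theorem refl₁ {x : G} (hx : x ∈ XX V R) (h : x ∉ normalizer (R i : Set G)) :
    ∀ b ∈ B0 V R i X₂, ∃ u ∈ UZ V R i, u⁻¹ * b ∈ cj x (B0 V R i X₂) := by
  intro b hb
  have hbF := mem_inf.1 (l.B0_NF hb)
  have hxV := l.bt.X_le_NV hx
  obtain ⟨w, hw, e⟩ := l.transW hxV (mul_mem hbF.1 hxV) h (fun h1 => h ((mul_mem_cancel_left hbF.2).1 h1))
  refine ⟨w, (le_sup_left : WW V (R i) ≤ _) hw, ?_⟩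
  rw [mem_cj]
  have e1 : (w * x)⁻¹ * (b * x) = x⁻¹ * (w⁻¹ * b) * x := by group
  rw [e1] at e
  have hwb : w⁻¹ * b ∈ B0 V R i X₂ := mul_mem (inv_mem (l.U_B0 ((le_sup_left : WW V (R i) ≤ _) hw))) hb
  set c := w⁻¹ * b with hc
  have hcF := mem_inf.1 (l.B0_NF hwb)
  have h2 : x⁻¹ * (c * x * c⁻¹) ∈ XX V R :=
    mul_mem (inv_mem hx) (conj_mem_of_normalizer (l.bt.NV_le_NX hcF.1) hx)
  have e2 : x⁻¹ * c * x = x⁻¹ * (c * x * c⁻¹) * c := by group
  rw [e2] at e ⊢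
  have h3 : x⁻¹ * (c * x * c⁻¹) ∈ A1 V R i := mem_inf.2 ⟨h2, (mul_mem_cancel_right hcF.2).1 e⟩
  exact mul_mem (mem_sup_left h3) hwb

/-- the condition for `x ∈ X₂` -/
theorem refl₂ {x : G} (hx : x ∈ X₂) (h : x ∉ normalizer (V : Set G)) :
    ∀ b ∈ B0 V R i X₂, ∃ u ∈ UZ V R i, u⁻¹ * b ∈ cj x (B0 V R i X₂) := by
  intro b hb
  have hbF := mem_inf.1 (l.B0_NF hb)
  have hbx : b * x * b⁻¹ ∈ X₂ := conj_mem_of_normalizer (l.NX₂ hbF.2) hx
  have hbx' : b * x * b⁻¹ ∉ normalizer (V : Set G) := by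
    intro h1
    apply h
    have := conj_inv_mem_of_normalizer (le_normalizer hbF.1) h1
    have e : b⁻¹ * (b * x * b⁻¹) * b = x := by group
    rwa [e] at this
  obtain ⟨w, hw, e⟩ := l.trans₂ x hx _ hbx h hbx'
  refine ⟨w, (le_sup_right : YY V R ≤ _) hw, ?_⟩
  rw [mem_cj]
  have e1 : x⁻¹ * (w⁻¹ * b) * x = (w * x)⁻¹ * (b * x * b⁻¹) * b := by group
  have e0 : x⁻¹ * (w⁻¹ * b) * x ∈ normalizer (V : Set G) := by
    rw [e1]
    exact mul_mem e hbF.1
  have hwb : w⁻¹ * b ∈ B0 V R i X₂ := mul_mem (inv_mem (l.U_B0 ((le_sup_right : YY V R ≤ _) hw))) hb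
  set c := w⁻¹ * b with hc
  have hcF := mem_inf.1 (l.B0_NF hwb)
  have h2 : x⁻¹ * (c * x * c⁻¹) ∈ X₂ :=
    mul_mem (inv_mem hx) (conj_mem_of_normalizer (l.NX₂ hcF.2) hx)
  have e2 : x⁻¹ * c * x = x⁻¹ * (c * x * c⁻¹) * c := by group
  rw [e2] at e0 ⊢
  have h3 : x⁻¹ * (c * x * c⁻¹) ∈ A2 V X₂ := mem_inf.2 ⟨h2, (mul_mem_cancel_right hcF.1).1 e0⟩
  exact mul_mem (mem_sup_right h3) hwb

/-! ### torus elements in `H` -/

variable [Finite G] {H : Subgroup G} (hH : Cpl (UZ V R i) (B0 V R i X₂) H)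

include hH

theorem exists_conj_mem {t : G} (ht : t ∈ B0 V R i X₂) (ho : Odd (orderOf t)) :
    ∃ u ∈ UZ V R i, u * t * u⁻¹ ∈ H := by
  obtain ⟨u, hu, h1⟩ := l.nt.conj_le hH (K := zpowers t) ((zpowers_le).2 ht)
    (by rw [Nat.card_zpowers]; exact ho)
  exact ⟨u, hu, h1 (conj_mem_cj (mem_zpowers t))⟩

theorem exists_t₁ : ∃ t ∈ H, ∀ w ∈ WW V (R i), t⁻¹ * w⁻¹ * t * w ∈ YY V R → w ∈ YY V R := by
  obtain ⟨t, ht, htR, ho, H1⟩ := l.t₁
  have htB : t ∈ B0 V R i X₂ := mem_sup_left (mem_inf.2 ⟨ht, htR⟩)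
  obtain ⟨u, hu, h1⟩ := l.exists_conj_mem hH htB ho
  have huF := l.B0_NF (l.U_B0 hu)
  refine ⟨_, h1, fun w hw hc => ?_⟩
  have hY := l.NF_NY
  have hw' : u⁻¹ * w * u ∈ WW V (R i) := conj_inv_mem_of_normalizer (l.NF_NW huF) hw
  have h2 : u⁻¹ * w * u ∈ YY V R := by
    apply H1 _ hw'
    -- conjugate
    set t' := u * t * u⁻¹ with ht'
    have htF := l.B0_NF (hH.HB h1)
    have h3 := conj_mem_of_normalizer (hY (mul_mem (l.B0_NF (l.U_B0 ((le_sup_left : WW V (R i) ≤ _) hw))) htF)) hc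
    have h4 := conj_inv_mem_of_normalizer (hY huF) h3
    have e : u⁻¹ * (w * t' * (t'⁻¹ * w⁻¹ * t' * w) * (w * t')⁻¹) * u =
        t * (u⁻¹ * w * u) * t⁻¹ * (u⁻¹ * w * u)⁻¹ := by
      rw [ht']; group
    rwa [e] at h4
  have h5 := conj_mem_of_normalizer (hY huF) h2
  have e : u * (u⁻¹ * w * u) * u⁻¹ = w := by group
  rwa [e] at h5

theorem exists_t₂ : ∃ t ∈ H, ∀ w ∈ YY V R, t⁻¹ * w⁻¹ * t * w ∈ WW V (R i) → w ∈ WW V (R i) := by
  obtain ⟨t, ht, htR, ho, H1⟩ := l.t₂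
  have htB : t ∈ B0 V R i X₂ := mem_sup_right (mem_inf.2 ⟨ht, htR⟩)
  obtain ⟨u, hu, h1⟩ := l.exists_conj_mem hH htB ho
  have huF := l.B0_NF (l.U_B0 hu)
  refine ⟨_, h1, fun w hw hc => ?_⟩
  have hY := l.NF_NW
  have hw' : u⁻¹ * w * u ∈ YY V R := conj_inv_mem_of_normalizer (l.NF_NY huF) hw
  have h2 : u⁻¹ * w * u ∈ WW V (R i) := by
    apply H1 _ hw'
    -- conjugate
    set t' := u * t * u⁻¹ with ht'
    have htF := l.B0_NF (hH.HB h1)
    have h3 := conj_mem_of_normalizer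
      (hY (mul_mem (l.B0_NF (l.U_B0 ((le_sup_right : YY V R ≤ _) hw))) htF)) hc
    have h4 := conj_inv_mem_of_normalizer (hY huF) h3
    have e : u⁻¹ * (w * t' * (t'⁻¹ * w⁻¹ * t' * w) * (w * t')⁻¹) * u =
        t * (u⁻¹ * w * u) * t⁻¹ * (u⁻¹ * w * u)⁻¹ := by
      rw [ht']; group
    rwa [e] at h4
  have h5 := conj_mem_of_normalizer (hY huF) h2
  have e : u * (u⁻¹ * w * u) * u⁻¹ = w := by group
  rwa [e] at h5

variable {S : Subgroup G} (hSF : S ≤ NF V R i)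
include hSF

theorem two₁ {n₁ : G} (hn : n₁ ∈ PP1 V R i X₂ S) (hnB : n₁ ∉ BB V R i X₂ S)
    (hnH : n₁ ∈ normalizer (H : Set G)) {g : G} (hg : g ∈ PP1 V R i X₂ S)
    (hgH : ∀ x ∈ H, g⁻¹ * x * g ∈ BB V R i X₂ S) : g ∈ BB V R i X₂ S ∨ n₁⁻¹ * g ∈ BB V R i X₂ S := by
  by_cases hgB : g ∈ BB V R i X₂ S
  · exact Or.inl hgB
  right
  have hPV := l.PP1_NV hSF
  obtain ⟨w, hw, e⟩ := l.transW (hPV hn) (hPV hg) (l.not_mem_NR hSF hn hnB) (l.not_mem_NR hSF hg hgB)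
  obtain ⟨t, ht, H1⟩ := l.exists_t₁ hH
  have hBR : BB V R i X₂ S ≤ normalizer (R i : Set G) := (l.BB_NF hSF).trans inf_le_right
  have hHB : H ≤ BB V R i X₂ S := hH.HB.trans le_sup_left
  -- `w⁻¹ t w` fixes the point `n₁ R`
  have h1 : w⁻¹ * t * w ∈ cj n₁ (normalizer (R i : Set G)) := by
    rw [mem_cj]
    have h2 := conj_mem_of_normalizer (le_normalizer e) (hBR (hgH t ht))
    have e1 : (w * n₁)⁻¹ * g * (g⁻¹ * t * g) * ((w * n₁)⁻¹ * g)⁻¹ = n₁⁻¹ * (w⁻¹ * t * w) * n₁ := by group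
    rwa [e1] at h2
  have h2 : t⁻¹ ∈ cj n₁ (normalizer (R i : Set G)) := by
    rw [mem_cj]
    exact hBR (hHB (conj_inv_mem_of_normalizer hnH (inv_mem ht)))
  have h3 : t⁻¹ * w⁻¹ * t * w ∈ cj n₁ (normalizer (R i : Set G)) := by
    have := mul_mem h2 h1
    rwa [← mul_assoc, ← mul_assoc] at this
  have htN := l.NF_NW (l.B0_NF (hH.HB ht))
  have h4 : t⁻¹ * w⁻¹ * t * w ∈ WW V (R i) := mul_mem (conj_inv_mem_of_normalizer htN (inv_mem hw)) hw
  have h5 := H1 w hw (l.kerW (hPV hn) (l.not_mem_NR hSF hn hnB) h4 h3)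
  -- `w` fixes `n₁ R`
  have h6 : n₁⁻¹ * w * n₁ ∈ normalizer (R i : Set G) := by
    have h7 : n₁⁻¹ * w * n₁ ∈ YY V R := conj_inv_mem_of_normalizer (l.bt.NV_le_NY (hPV hn)) h5
    exact l.Y_NR h7
  refine l.stab₁ hSF (mem_inf.2 ⟨mul_mem (inv_mem hn) hg, ?_⟩)
  have e2 : n₁⁻¹ * g = (n₁⁻¹ * w * n₁) * ((w * n₁)⁻¹ * g) := by group
  rw [e2]
  exact mul_mem h6 e

theorem two₂ {n₂ : G} (hn : n₂ ∈ PP2 V R i X₂ S) (hnB : n₂ ∉ BB V R i X₂ S)
    (hnH : n₂ ∈ normalizer (H : Set G)) {g : G} (hg : g ∈ PP2 V R i X₂ S)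
    (hgH : ∀ x ∈ H, g⁻¹ * x * g ∈ BB V R i X₂ S) : g ∈ BB V R i X₂ S ∨ n₂⁻¹ * g ∈ BB V R i X₂ S := by
  by_cases hgB : g ∈ BB V R i X₂ S
  · exact Or.inl hgB
  right
  obtain ⟨w, hw, e⟩ := l.trans₂' hSF hn hg (l.not_mem_NV hSF hn hnB) (l.not_mem_NV hSF hg hgB)
  obtain ⟨t, ht, H1⟩ := l.exists_t₂ hH
  have hBR : BB V R i X₂ S ≤ normalizer (V : Set G) := (l.BB_NF hSF).trans inf_le_left
  have hHB : H ≤ BB V R i X₂ S := hH.HB.trans le_sup_left
  have h1 : w⁻¹ * t * w ∈ cj n₂ (normalizer (V : Set G)) := by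
    rw [mem_cj]
    have h2 := conj_mem_of_normalizer (le_normalizer e) (hBR (hgH t ht))
    have e1 : (w * n₂)⁻¹ * g * (g⁻¹ * t * g) * ((w * n₂)⁻¹ * g)⁻¹ = n₂⁻¹ * (w⁻¹ * t * w) * n₂ := by group
    rwa [e1] at h2
  have h2 : t⁻¹ ∈ cj n₂ (normalizer (V : Set G)) := by
    rw [mem_cj]
    exact hBR (hHB (conj_inv_mem_of_normalizer hnH (inv_mem ht)))
  have h3 : t⁻¹ * w⁻¹ * t * w ∈ cj n₂ (normalizer (V : Set G)) := by
    have := mul_mem h2 h1
    rwa [← mul_assoc, ← mul_assoc] at this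
  have htN := l.NF_NY (l.B0_NF (hH.HB ht))
  have h4 : t⁻¹ * w⁻¹ * t * w ∈ YY V R := mul_mem (conj_inv_mem_of_normalizer htN (inv_mem hw)) hw
  have h5 := H1 w hw (l.ker₂' hSF hn (l.not_mem_NV hSF hn hnB) h4 h3)
  -- `w` fixes `n₂ V`
  have h6 : n₂⁻¹ * w * n₂ ∈ normalizer (V : Set G) := by
    have h7 : n₂⁻¹ * w * n₂ ∈ WW V (R i) :=
      conj_inv_mem_of_normalizer (normalizer_le_WW V (R i) (l.PP2_NR hSF hn)) h5
    exact l.W_NV h7
  refine l.stab₂ hSF (mem_inf.2 ⟨mul_mem (inv_mem hn) hg, ?_⟩)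
  have e2 : n₂⁻¹ * g = (n₂⁻¹ * w * n₂) * ((w * n₂)⁻¹ * g) := by group
  rw [e2]
  exact mul_mem h6 e

end PLoc

/-- an element of odd order of `B₀ S` is in `B₀` -/
theorem mem_of_odd [Finite G] {C S : Subgroup G} (hS : IsPGroup 2 S) (h : S ≤ normalizer (C : Set G)) {k : G}
    (hk : k ∈ C ⊔ S) (ho : Odd (orderOf k)) : k ∈ C := by
  obtain ⟨c, hc, s, hs, e⟩ := exists_mul_of_le h hk
  have h1 : ∀ n : ℕ, ∃ c' ∈ C, k ^ n = c' * s ^ n := by
    intro n
    induction n with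
    | zero => exact ⟨1, one_mem _, by simp⟩
    | succ n ih =>
      obtain ⟨c', hc', e'⟩ := ih
      refine ⟨c' * (s ^ n * c * (s ^ n)⁻¹), mul_mem hc' (conj_mem_of_normalizer (h (pow_mem hs n)) hc), ?_⟩
      calc k ^ (n + 1) = k ^ n * k := pow_succ _ _
        _ = c' * s ^ n * (c * s) := by rw [e', ← e]
        _ = c' * (s ^ n * c * (s ^ n)⁻¹) * (s ^ n * s) := by group
        _ = _ := by rw [← pow_succ]
  obtain ⟨m, hm⟩ := hS ⟨s, hs⟩
  have hm' : s ^ 2 ^ m = 1 := congrArg Subtype.val hm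
  obtain ⟨c', hc', e'⟩ := h1 (2 ^ m)
  rw [hm', mul_one] at e'
  obtain ⟨j, hj⟩ := exists_pow_eq_self_of_coprime
    (Nat.Coprime.pow_left m (Nat.coprime_two_left.2 ho) : (2 ^ m).Coprime (orderOf k))
  rw [← hj, e']
  exact pow_mem hc' j

theorem card_mul_relIndex {K L : Subgroup G} (h : K ≤ L) : Nat.card K * K.relIndex L = Nat.card L := by
  rw [← (K.subgroupOf L).card_mul_index, Nat.card_congr (subgroupOfEquivOfLe h).toEquiv]
  rfl

namespace PLoc

variable {V : Subgroup G} {R : ι → Subgroup G} {i : ι} {X₂ : Subgroup G} {r : ℕ}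
variable (l : PLoc V R i X₂ r)
include l

/-- `V` and `V^x` do not commute -/
theorem not_comm {x : G} (hx : x ∈ X₂) (h : x ∉ normalizer (V : Set G))
    (hc : ∀ v ∈ V, ∀ v' ∈ cj x V, v * v' = v' * v) : False := by
  obtain ⟨g, hg, H⟩ := l.bt.mt i
  obtain ⟨a, ha, hag⟩ := l.frat₂ g hg
  obtain ⟨j, hj, -⟩ := l.bt.third i i
  obtain ⟨k, hki, hkj⟩ := l.bt.third i j
  obtain ⟨⟨v, hv, e⟩, -⟩ := H j k hj hki
  have hcen : g * v * g⁻¹ ∈ centralizer (V : Set G) → False := by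
    intro h2
    have h3 : cj (g * v * g⁻¹) (R j) = R j := cj_eq_self_iff.2 (l.bt.cen_le_N j h2)
    exact hkj (l.bt.R_index (e.symm.trans h3))
  have hga : cj g V = cj a V := by
    have e1 : g = a * (a⁻¹ * g) := by group
    rw [e1, cj_mul, cj_eq_self_iff.2 hag]
  have h1 : g * v * g⁻¹ ∈ cj a V := by rw [← hga]; exact conj_mem_cj hv
  apply hcen
  by_cases haV : a ∈ normalizer (V : Set G)
  · rw [cj_eq_self_iff.2 haV] at h1
    exact l.bt.V_le_cen h1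
  · obtain ⟨y, hy, e2⟩ := l.trans₂ x hx a ha h haV
    have e3 : a = y * (x * ((y * x)⁻¹ * a)) := by group
    rw [e3, cj_mul, cj_mul, cj_eq_self_iff.2 e2, mem_cj] at h1
    have h4 : y⁻¹ * (g * v * g⁻¹) * y ∈ centralizer (V : Set G) := by
      rw [mem_centralizer_iff]
      exact fun v' hv' => hc v' hv' _ h1
    have hyc := YY_le_cen hy
    have h5 := mul_mem (mul_mem hyc h4) (inv_mem hyc)
    have e4 : y * (y⁻¹ * (g * v * g⁻¹) * y) * y⁻¹ = g * v * g⁻¹ := by group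
    rwa [e4] at h5

/-- `V ∩ Y^x = R` -/
theorem VV {x : G} (hx : x ∈ X₂) (h : x ∉ normalizer (V : Set G)) : V ⊓ cj x (YY V R) = R i := by
  apply le_antisymm
  · intro v hv
    obtain ⟨hv1, hv2⟩ := mem_inf.1 hv
    by_contra hvR
    rw [mem_cj] at hv2
    refine l.not_comm hx h fun w hw g hg => ?_
    have hxN := normalizer_le_WW V (R i) (l.X₂N hx)
    have hgW : g ∈ WW V (R i) := by
      have h1 := cj_mono (g := x) (V_le_WW V (R i)) hg
      rwa [cj_eq_self_iff.2 hxN] at h1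
    have h2 : g * v = v * g := by
      rw [mem_cj] at hg
      have h3 := mem_centralizer_iff.1 (YY_le_cen hv2) _ hg
      calc g * v = x * ((x⁻¹ * g * x) * (x⁻¹ * v * x)) * x⁻¹ := by group
        _ = x * ((x⁻¹ * v * x) * (x⁻¹ * g * x)) * x⁻¹ := by rw [h3]
        _ = v * g := by group
    exact (l.bt.reg (l.bt.W_le_Q i hgW) hv1 hvR h2 w hw).symm
  · refine le_inf (l.bt.R_le i) ?_
    have h1 := cj_mono (g := x) (((l.bt.R_le i).trans (V_le_D V R)).trans l.bt.D_le_Y)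
    rwa [cj_eq_self_iff.2 (l.X₂N hx)] at h1

theorem W_inf_Y : WW V (R i) ⊓ YY V R = UU V R i := by
  apply le_antisymm
  · exact inf_le_inf_left _ YY_le_cen
  · exact le_inf (UU_le_WW i) (UU_le_YY i)

variable [Finite G]

theorem card_V : Nat.card V = Nat.card (R i) * Nat.card (R i) := by rw [l.bt.card_V i, sq]

theorem card_D : Nat.card (BTwo.DD V R) = r * (Nat.card (R i) * Nat.card (R i)) := by
  rw [← card_mul_relIndex (V_le_D V R), l.cD, l.card_V, mul_comm]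

theorem card_UU (j : ι) : Nat.card (UU V R j) = r * Nat.card (BTwo.DD V R) := by
  rw [← card_mul_relIndex (l.bt.D_le_U j), ← l.bt.card_U i j, l.cU, mul_comm]

theorem card_W : Nat.card (WW V (R i)) = Nat.card (R i) * Nat.card (UU V R i) := by
  rw [← card_mul_relIndex (UU_le_WW (V := V) (R := R) i), l.bt.relIndex_U i, mul_comm]

theorem card_Y : Nat.card (YY V R) = r * Nat.card (UU V R i) := by
  obtain ⟨j, hj, -⟩ := l.bt.third i i
  have h1 : (UU V R i).relIndex (YY V R) = r := by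
    rw [l.bt.Y_eq (Ne.symm hj), relIndex_sup_of_le ((UU_le_cen j).trans (l.bt.cen_le_NU i)),
      ← inf_relIndex_right, l.bt.UU_inf (Ne.symm hj), ← l.bt.card_U i j, l.cU]
  rw [← card_mul_relIndex (UU_le_YY (V := V) (R := R) i), h1, mul_comm]

/-- **the structure `Hex`** -/
theorem hex {S : Subgroup G} (hS : IsPGroup 2 S) (hSF : S ≤ NF V R i) {H : Subgroup G}
    (hH : Cpl (UZ V R i) (B0 V R i X₂) H) : ∃ n₁ ∈ XX V R, ∃ n₂ ∈ X₂,
    Hex (PP1 V R i X₂ S) (PP2 V R i X₂ S) (BB V R i X₂ S) (UZ V R i) H V (R i) (WW V (R i)) (YY V R)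
      (BTwo.DD V R) n₁ n₂ (Nat.card (R i)) r := by
  have ht := l.nt
  have hBF := l.BB_NF hSF
  have hBV : BB V R i X₂ S ≤ normalizer (V : Set G) := hBF.trans inf_le_left
  have hBR : BB V R i X₂ S ≤ normalizer (R i : Set G) := hBF.trans inf_le_right
  -- the reflections
  obtain ⟨x₁, hx₁, hx₁'⟩ := l.exists_x₁
  obtain ⟨u₁, hu₁, u₁', hu₁', hn₁⟩ := ht.exists_norm hH (l.refl₁ hx₁ hx₁')
  obtain ⟨x₂, hx₂, hx₂'⟩ := l.exists_x₂
  obtain ⟨u₂, hu₂, u₂', hu₂', hn₂⟩ := ht.exists_norm hH (l.refl₂ hx₂ hx₂')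
  have hU1 : UZ V R i ≤ XX V R := l.U_A1.trans inf_le_left
  have hU2 : UZ V R i ≤ X₂ := l.U_A2.trans inf_le_left
  have hUF : UZ V R i ≤ NF V R i := l.U_B0.trans l.B0_NF
  set n₁ := u₁ * x₁ * u₁' with hn₁def
  set n₂ := u₂ * x₂ * u₂' with hn₂def
  have hn₁X : n₁ ∈ XX V R := mul_mem (mul_mem (hU1 hu₁) hx₁) (hU1 hu₁')
  have hn₂X : n₂ ∈ X₂ := mul_mem (mul_mem (hU2 hu₂) hx₂) (hU2 hu₂')
  have hn₁R : n₁ ∉ normalizer (R i : Set G) := fun h => hx₁' (by
    rwa [hn₁def, mul_mem_cancel_right (mem_inf.1 (hUF hu₁')).2, mul_mem_cancel_left (mem_inf.1 (hUF hu₁)).2] at h)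
  have hn₂V : n₂ ∉ normalizer (V : Set G) := fun h => hx₂' (by
    rwa [hn₂def, mul_mem_cancel_right (mem_inf.1 (hUF hu₂')).1, mul_mem_cancel_left (mem_inf.1 (hUF hu₂)).1] at h)
  have hn₁P : n₁ ∈ PP1 V R i X₂ S := (le_sup_left : XX V R ≤ _) hn₁X
  have hn₂P : n₂ ∈ PP2 V R i X₂ S := (le_sup_left : X₂ ≤ _) hn₂X
  have hn₁B : n₁ ∉ BB V R i X₂ S := fun h => hn₁R (hBR h)
  have hn₂B : n₂ ∉ BB V R i X₂ S := fun h => hn₂V (hBV h)
  have hn₁V : n₁ ∈ normalizer (V : Set G) := l.bt.X_le_NV hn₁X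
  obtain ⟨j, hj⟩ := l.bt.perm n₁ hn₁V i
  have hji : j ≠ i := by
    rintro rfl
    exact hn₁R (cj_eq_self_iff.1 hj)
  refine ⟨n₁, hn₁X, n₂, hn₂X, ?_⟩
  exact
    { two := l.U_two
      q4 := l.q4
      r4 := l.r4
      B₁ := le_sup_right
      B₂ := le_sup_right
      UB := l.U_B0.trans le_sup_left
      nU := hBF.trans l.NF_NU
      HB := hH.HB.trans le_sup_left
      n₁P := hn₁P
      n₂P := hn₂P
      n₁B := hn₁B
      n₂B := hn₂B
      n₁H := hn₁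
      n₂H := hn₂
      two₁ := fun g hg h => l.two₁ hH hSF hn₁P hn₁B hn₁ hg h
      two₂ := fun g hg h => l.two₂ hH hSF hn₂P hn₂B hn₂ hg h
      oddH := ht.odd_cpl hH
      hall := fun K hK hHK ho => by
        refine ht.le_of_le hH (fun k hk => ?_) hHK ho
        refine mem_of_odd hS (hSF.trans l.NF_NB0) (hK hk) ?_
        exact ho.of_dvd_nat ((orderOf_mk k hk).symm ▸ orderOf_dvd_natCard (⟨k, hk⟩ : K))
      frat := fun b hb => ht.frattini hH (l.NF_NU (hBF hb)) (l.NF_NB0 (hBF hb))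
      nV := l.PP1_NV hSF
      nY := (l.PP1_NV hSF).trans l.bt.NV_le_NY
      nD := (l.PP1_NV hSF).trans l.bt.NV_le_ND
      nR := l.PP2_NR hSF
      nW := (l.PP2_NR hSF).trans (normalizer_le_WW V (R i))
      stab₁ := l.stab₁ hSF
      stab₂ := l.stab₂ hSF
      RV := l.bt.R_le i
      VD := V_le_D V R
      DW := D_le_W V R i
      DY := l.bt.D_le_Y
      WU := le_sup_left
      YU := le_sup_right
      UWY := le_rfl
      D_eq := by rw [l.bt.cj_WW hj, ← l.bt.D_eq' (Ne.symm hji)]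
      cR := rfl
      cV := l.card_V
      cD := l.card_D
      cWY := by rw [l.W_inf_Y, l.card_UU]
      cW := by rw [l.W_inf_Y, l.card_W]
      cY := by rw [l.W_inf_Y, l.card_Y]
      sq := l.bt.V_sq
      YV := fun y hy v hv => (mem_centralizer_iff.1 (YY_le_cen hy) v hv).symm
      Rn := by rw [hj, l.bt.R_inf i j (Ne.symm hji)]
      trans₁ := fun x hx hxB => by
        obtain ⟨w, hw, e⟩ := l.transW hn₁V (l.PP1_NV hSF hx) hn₁R (l.not_mem_NR hSF hx hxB)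
        refine ⟨w, hw, l.stab₁ hSF (mem_inf.2 ⟨mul_mem (inv_mem (mul_mem ?_ hn₁P)) hx, e⟩)⟩
        exact (le_sup_left : XX V R ≤ _) (W_le_X V R i hw)
      ker₁ := fun w hw => by
        obtain ⟨h1, h2⟩ := mem_inf.1 hw
        exact l.kerW hn₁V hn₁R h1 (cj_mono hBR h2)
      trans₂ := fun x hx hxB => by
        obtain ⟨w, hw, e⟩ := l.trans₂' hSF hn₂P hx hn₂V (l.not_mem_NV hSF hx hxB)
        refine ⟨w, hw, l.stab₂ hSF (mem_inf.2 ⟨mul_mem (inv_mem (mul_mem ?_ hn₂P)) hx, e⟩)⟩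
        exact (le_sup_left : X₂ ≤ _) (l.Y₂ hw)
      ker₂ := fun w hw => by
        obtain ⟨h1, h2⟩ := mem_inf.1 hw
        exact l.ker₂ n₂ hn₂X hn₂V w h1 (cj_mono hBV h2)
      VV := l.VV hn₂X hn₂V
      DD := by
        apply le_antisymm (l.DD n₂ hn₂X hn₂V)
        refine le_inf ((l.bt.R_le i).trans (V_le_D V R)) ?_
        have h1 := cj_mono (g := n₂) ((l.bt.R_le i).trans (V_le_D V R))
        rwa [cj_eq_self_iff.2 (l.X₂N hn₂X)] at h1 }

end PLoc

end Cfsg.Agent.Omega.Hex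

end

-- merged: Cfsg.Agent.Mrg.Omega.Hex.OfCoord
section

section


/-!
# The stabiliser of a point in `X`: the fields `odd₁`, `t₁` of `PLoc` from coordinates

`Coord.odd₁`: `|N_X(R i) : W Y|` is odd (in particular `C_X(V)/Y` has odd order: transfer);
`Coord.t₁`: the torus element.
-/

set_option autoImplicit false
set_option linter.dupNamespace false
set_option linter.unusedSectionVars false

universe u v w

namespace Cfsg.Agent.Omega.Hex

open Subgroup Cfsg.Agent.Omega.BTwo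
open scoped commutatorElement

/-- In a perfect group the central elements of a Sylow subgroup lie in its commutator subgroup. -/
theorem mem_commutator_of_center {J : Type*} [Group J] [Finite J] (hJ : _root_.commutator J = ⊤) {p : ℕ}
    [Fact p.Prime] (Q : Sylow p J) {z : J} (hz : z ∈ center J) (hzQ : z ∈ (Q : Subgroup J)) :
    z ∈ ⁅(Q : Subgroup J), (Q : Subgroup J)⁆ := by
  set φ : (Q : Subgroup J) →* Abelianization (Q : Subgroup J) := Abelianization.of with hφ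
  have key : ∀ (k : ℕ) (g₀ : J), g₀⁻¹ * z ^ k * g₀ ∈ (Q : Subgroup J) → g₀⁻¹ * z ^ k * g₀ = z ^ k := by
    intro k g₀ _
    have h1 := mem_center_iff.1 (pow_mem hz k) g₀
    rw [mul_assoc, ← h1, ← mul_assoc, inv_mul_cancel, one_mul]
  have h1 := MonoidHom.transfer_eq_pow φ z key
  have h2 : MonoidHom.transfer φ z = 1 := by
    have h3 := Abelianization.commutator_subset_ker (MonoidHom.transfer φ)
    rw [hJ] at h3
    exact h3 (mem_top z)
  rw [h2] at h1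
  set n := (Q : Subgroup J).index with hn
  have h3 : (⟨z ^ n, MonoidHom.transfer_eq_pow_aux z key⟩ : (Q : Subgroup J)) ∈
      _root_.commutator (Q : Subgroup J) := by
    rw [← Abelianization.ker_of, MonoidHom.mem_ker]
    exact h1.symm
  have h4 : z ^ n ∈ ⁅(Q : Subgroup J), (Q : Subgroup J)⁆ := by
    rw [← Subgroup.map_subtype_commutator]
    exact ⟨_, h3, rfl⟩
  obtain ⟨m, hm⟩ := Q.isPGroup' ⟨z, hzQ⟩
  have hzm : z ^ p ^ m = 1 := congrArg Subtype.val hm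
  have hcop : Nat.Coprime n (orderOf z) := by
    apply Nat.Coprime.coprime_dvd_right (orderOf_dvd_of_pow_eq_one hzm)
    apply Nat.Coprime.pow_right
    rw [Nat.coprime_comm, Nat.Prime.coprime_iff_not_dvd Fact.out]
    exact Q.not_dvd_index
  obtain ⟨l, hl⟩ := exists_pow_eq_self_of_coprime hcop
  rw [← hl]
  exact pow_mem h4 l

variable {G : Type u} [Group G]

/-- a 2-group normalising a nontrivial 2-group has a nontrivial fixed point -/
theorem exists_fixed [Finite G] {V T : Subgroup G} (hV : IsPGroup 2 V) (hV1 : V ≠ ⊥)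
    (hT : IsPGroup 2 T) (hn : T ≤ normalizer (V : Set G)) :
    ∃ v ∈ V, v ≠ 1 ∧ ∀ t ∈ T, t * v * t⁻¹ = v := by
  have : Fact (Nat.Prime 2) := ⟨Nat.prime_two⟩
  let act : MulAction T V :=
    { smul := fun t v => ⟨t * v * (t : G)⁻¹, conj_mem_of_normalizer (hn t.2) v.2⟩
      one_smul := fun v => by
        apply Subtype.ext
        change ((1 : T) : G) * v * ((1 : T) : G)⁻¹ = v
        simp
      mul_smul := fun a b v => by
        apply Subtype.ext
        change ((a * b : T) : G) * v * ((a * b : T) : G)⁻¹ = a * (b * v * (b : G)⁻¹) * (a : G)⁻¹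
        push_cast
        group }
  have hsm : ∀ (t : T) (v : V), ((t • v : V) : G) = t * v * (t : G)⁻¹ := fun _ _ => rfl
  have h1 := hT.card_modEq_card_fixedPoints V
  have h2 : 2 ∣ Nat.card V := by
    obtain ⟨n, hn⟩ := IsPGroup.iff_card.mp hV
    rcases Nat.eq_zero_or_pos n with h0 | h0
    · subst h0
      rw [pow_zero] at hn
      exact absurd ((card_eq_one).mp hn) hV1
    · rw [hn]
      exact dvd_pow_self 2 h0.ne'
  have h3 : 2 ∣ Nat.card (MulAction.fixedPoints T V) :=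
    (Nat.modEq_zero_iff_dvd.1 (h1.symm.trans (Nat.modEq_zero_iff_dvd.2 h2)))
  have hone : (1 : V) ∈ MulAction.fixedPoints T V := fun t => Subtype.ext (by rw [hsm]; simp)
  have : Finite (MulAction.fixedPoints T V) := inferInstance
  have h4 : 1 < Nat.card (MulAction.fixedPoints T V) := by
    have h5 : 0 < Nat.card (MulAction.fixedPoints T V) := Nat.card_pos_iff.2 ⟨⟨⟨1, hone⟩⟩, this⟩
    omega
  obtain ⟨a, b, hab⟩ := (Finite.one_lt_card_iff_nontrivial.1 h4).exists_pair_ne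
  have h6 : ∃ x : MulAction.fixedPoints T V, (x : V) ≠ 1 := by
    by_cases ha : (a : V) = 1
    · exact ⟨b, fun hb => hab (Subtype.ext (ha.trans hb.symm))⟩
    · exact ⟨a, ha⟩
  obtain ⟨x, hx⟩ := h6
  refine ⟨x.1, x.1.2, fun h => hx (Subtype.ext h), fun t ht => ?_⟩
  have := x.2 ⟨t, ht⟩
  exact congrArg Subtype.val this

variable {ι : Type w} {V : Subgroup G} {R : ι → Subgroup G} {i j : ι} {F : Type v} [Field F]
  {v : F → F → G} {w1 w2 : F → G}

/-- the elements of `X` act as matrices -/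
theorem exists_lin (c : Coord V R i j v w1 w2) (b : BT V R) {x : G} (hx : x ∈ XX V R) :
    ∃ p q r s : F, p * s - q * r = 1 ∧ ∀ d e, x * v d e * x⁻¹ = v (p * d + q * e) (r * d + s * e) := by
  let T : Subgroup G :=
    { carrier := {x | ∃ p q r s : F, p * s - q * r = 1 ∧
        ∀ d e, x * v d e * x⁻¹ = v (p * d + q * e) (r * d + s * e)}
      one_mem' := ⟨1, 0, 0, 1, by ring, fun d e => by
        rw [one_mul, inv_one, mul_one]; congr 1 <;> ring⟩
      mul_mem' := by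
        rintro x y ⟨p, q, r, s, h1, h2⟩ ⟨p', q', r', s', h3, h4⟩
        refine ⟨p * p' + q * r', p * q' + q * s', r * p' + s * r', r * q' + s * s', ?_, fun d e => ?_⟩
        · linear_combination (p' * s' - q' * r') * h1 + h3
        · have e1 : x * y * v d e * (x * y)⁻¹ = x * (y * v d e * y⁻¹) * x⁻¹ := by group
          rw [e1, h4, h2]
          congr 1 <;> ring
      inv_mem' := by
        rintro x ⟨p, q, r, s, h1, h2⟩
        refine ⟨s, -q, -r, p, by linear_combination h1, fun d e => ?_⟩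
        have h3 := h2 (s * d + -q * e) (-r * d + p * e)
        have h4 : p * (s * d + -q * e) + q * (-r * d + p * e) = d := by linear_combination d * h1
        have h5 : r * (s * d + -q * e) + s * (-r * d + p * e) = e := by linear_combination e * h1
        rw [h4, h5] at h3
        rw [← h3]
        group }
  have hT : XX V R ≤ T := by
    rw [b.X_eq c.ne]
    refine sup_le (fun x hx => ?_) fun x hx => ?_
    · obtain ⟨a, ha⟩ := c.W1_act x hx
      refine ⟨1, a, 0, 1, by ring, fun d e => ?_⟩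
      rw [ha]; congr 1 <;> ring
    · obtain ⟨a, ha⟩ := c.W2_act x hx
      refine ⟨1, 0, a, 1, by ring, fun d e => ?_⟩
      rw [ha]; congr 1 <;> ring
  exact hT hx

/-- `[X, C(V)] ≤ Y` -/
theorem comm_cen (b : BT V R) {x c : G} (hx : x ∈ XX V R) (hc : c ∈ centralizer (V : Set G)) :
    x * c * x⁻¹ * c⁻¹ ∈ YY V R := by
  have h : XX V R ≤ cenMod (YY V R) (centralizer (V : Set G)) := by
    refine iSup_le fun k w hw => ⟨b.NV_le_NY (b.W_le_NV k hw), fun c hc => UU_le_YY k (mem_inf.2 ⟨?_, ?_⟩)⟩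
    · have e : w * c * w⁻¹ * c⁻¹ = w * (c * w⁻¹ * c⁻¹) := by group
      rw [e]
      exact mul_mem hw (conj_mem_of_normalizer (b.cen_le_NW k hc) (inv_mem hw))
    · exact mul_mem (conj_mem_of_normalizer
        (normalizer_le_normalizer_centralizer V (b.W_le_NV k hw)) hc) (inv_mem hc)
  exact (h hx).2 c hc

theorem two_pow_eq_one [CharP F 2] {p : F} {n : ℕ} (h : p ^ 2 ^ n = 1) : p = 1 := by
  have : Fact (Nat.Prime 2) := ⟨Nat.prime_two⟩
  have h1 : (p - 1) ^ 2 ^ n = 0 := by rw [sub_pow_char_pow, h, one_pow, sub_self]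
  exact sub_eq_zero.1 (pow_eq_zero_iff (by positivity) |>.1 h1)

/-- a 2-element of `X` fixing the point `R i` acts on `V` as an element of `W i` -/
theorem exists_w1 [CharP F 2] (c : Coord V R i j v w1 w2) (b : BT V R) {x : G} (hx : x ∈ XX V R)
    (hxR : x ∈ normalizer (R i : Set G)) {n : ℕ} (hn : x ^ 2 ^ n = 1) :
    ∃ q : F, (w1 q)⁻¹ * x ∈ centralizer (V : Set G) := by
  obtain ⟨p, q, r, s, h1, h2⟩ := exists_lin c b hx
  -- `r = 0`
  have hr : r = 0 := by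
    have h3 : x * v 1 0 * x⁻¹ ∈ R i := conj_mem_of_normalizer hxR ((c.mem_R1 _).2 ⟨1, rfl⟩)
    rw [h2, c.mem_R1] at h3
    obtain ⟨d, hd⟩ := h3
    have h4 := (c.v_inj hd).2
    linear_combination -h4
  subst hr
  -- powers
  have hpow : ∀ m : ℕ, ∀ d, x ^ m * v d 0 * (x ^ m)⁻¹ = v (p ^ m * d) 0 := by
    intro m
    induction m with
    | zero => intro d; simp
    | succ m ih =>
      intro d
      have e : x ^ (m + 1) * v d 0 * (x ^ (m + 1))⁻¹ = x ^ m * (x * v d 0 * x⁻¹) * (x ^ m)⁻¹ := by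
        rw [pow_succ]; group
      have h3 := h2 d 0
      have h4 : p * d + q * 0 = p * d := by ring
      have h5 : (0 : F) * d + s * 0 = 0 := by ring
      rw [h4, h5] at h3
      rw [e, h3, ih]
      congr 1
      ring
  have hp : p = 1 := by
    have h3 := hpow (2 ^ n) 1
    rw [hn, one_mul, inv_one, mul_one] at h3
    have h4 := (c.v_inj h3).1
    exact two_pow_eq_one (n := n) (by linear_combination -h4)
  subst hp
  have hs : s = 1 := by linear_combination h1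
  subst hs
  refine ⟨q, ?_⟩
  rw [mem_centralizer_iff]
  intro y hy
  obtain ⟨d, e, rfl⟩ := (c.mem_V y).1 hy
  have h3 := h2 d e
  have h4 : (1 : F) * d + q * e = d + q * e := by ring
  have h5 : (0 : F) * d + 1 * e = e := by ring
  rw [h4, h5, ← c.w1_act] at h3
  -- `x v x⁻¹ = w v w⁻¹`
  calc v d e * ((w1 q)⁻¹ * x) = (w1 q)⁻¹ * (w1 q * v d e * (w1 q)⁻¹) * x := by group
    _ = (w1 q)⁻¹ * (x * v d e * x⁻¹) * x := by rw [h3]
    _ = (w1 q)⁻¹ * x * v d e := by group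

section quotient

variable [Finite G] [CharP F 2]

theorem Y_isPGroup (b : BT V R) : IsPGroup 2 (YY V R) := by
  rintro ⟨y, hy⟩
  refine ⟨2, Subtype.ext ?_⟩
  change y ^ 4 = 1
  have h1 := b.D_sq (b.Y_sq hy)
  have e : y ^ 4 = y * y * (y * y) := by simp only [pow_succ, pow_zero, one_mul, mul_assoc]
  rw [e, h1]

/-- an element of `W i` is a commutator `[h, w]` modulo `Y` -/
theorem exists_comm_mod (c : Coord V R i j v w1 w2) (b : BT V R) {a : F} (ha : a ≠ 0) (ha1 : a ≠ 1) {x : G}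
    (hx : x ∈ WW V (R i)) : ∃ h ∈ XX V R, ∃ w ∈ WW V (R i), (h * w * h⁻¹ * w⁻¹)⁻¹ * x ∈ YY V R := by
  obtain ⟨q, hq⟩ := c.W1_act x hx
  have ha2 : a ^ 2 - 1 ≠ 0 := by
    intro h0
    apply ha1
    have h1 : a ^ 2 ^ 1 = 1 := by rw [pow_one]; linear_combination h0
    exact two_pow_eq_one h1
  set q' := q / (a ^ 2 - 1) with hq'
  have hqq : a ^ 2 * q' - q' = q := by rw [hq']; field_simp
  have hhX := c.hh_mem_X b a
  refine ⟨hh w1 w2 a, hhX, w1 q', c.w1_mem q', ?_⟩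
  have hW : hh w1 w2 a * w1 q' * (hh w1 w2 a)⁻¹ ∈ WW V (R i) := by
    have h1 := conj_mem_cj (g := hh w1 w2 a) (c.w1_mem q')
    rwa [b.cj_WW (c.hh_R1 b ha)] at h1
  refine UU_le_YY i (mem_inf.2 ⟨mul_mem (inv_mem (mul_mem hW (inv_mem (c.w1_mem _)))) hx, ?_⟩)
  rw [mem_centralizer_iff]
  intro y hy
  obtain ⟨d, e, rfl⟩ := (c.mem_V y).1 hy
  -- the action of the commutator
  have h1 : ∀ d e, (hh w1 w2 a * w1 q' * (hh w1 w2 a)⁻¹ * (w1 q')⁻¹) * v d e *
      (hh w1 w2 a * w1 q' * (hh w1 w2 a)⁻¹ * (w1 q')⁻¹)⁻¹ = v (d + q * e) e := by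
    intro d e
    have h2 : (w1 q')⁻¹ * v d e * w1 q' = v (d - q' * e) e := by
      have h3 := c.w1_act q' (d - q' * e) e
      rw [sub_add_cancel] at h3
      rw [← h3]; group
    have h3 := c.hh_w1_act b ha q' (c.v_mem (d - q' * e) e)
    rw [c.w1_act] at h3
    have e1 : (hh w1 w2 a * w1 q' * (hh w1 w2 a)⁻¹ * (w1 q')⁻¹) * v d e *
        (hh w1 w2 a * w1 q' * (hh w1 w2 a)⁻¹ * (w1 q')⁻¹)⁻¹ =
        (hh w1 w2 a * w1 q' * (hh w1 w2 a)⁻¹) * ((w1 q')⁻¹ * v d e * w1 q') *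
          (hh w1 w2 a * w1 q' * (hh w1 w2 a)⁻¹)⁻¹ := by group
    rw [e1, h2, h3]
    congr 1
    linear_combination e * hqq
  have h2 := hq d e
  rw [← h1] at h2
  set k := hh w1 w2 a * w1 q' * (hh w1 w2 a)⁻¹ * (w1 q')⁻¹
  calc v d e * (k⁻¹ * x) = k⁻¹ * (k * v d e * k⁻¹) * x := by group
    _ = k⁻¹ * (x * v d e * x⁻¹) * x := by rw [h2]
    _ = k⁻¹ * x * v d e := by group

/-- `C_X(V) / Y` has no involution -/
theorem mem_Y_of_sq (c : Coord V R i j v w1 w2) (b : BT V R) {a : F} (ha : a ≠ 0) (ha1 : a ≠ 1) {z : G}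
    (hz : z ∈ XX V R) (hzV : z ∈ centralizer (V : Set G)) (hzz : z * z ∈ YY V R) : z ∈ YY V R := by
  have : Fact (Nat.Prime 2) := ⟨Nat.prime_two⟩
  have hYX : YY V R ≤ XX V R := YY_le_XX
  have hXY : XX V R ≤ normalizer (YY V R : Set G) := b.X_le_NV.trans b.NV_le_NY
  set N := (YY V R).subgroupOf (XX V R) with hN
  have hNn : N.Normal :=
    ⟨fun n hn g => conj_mem_of_normalizer (g := (g : G)) (x := (n : G)) (hXY g.2) hn⟩
  let J := (XX V R : Subgroup G) ⧸ N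
  let π : (XX V R : Subgroup G) →* J := QuotientGroup.mk' N
  have hπ1 : ∀ x : (XX V R : Subgroup G), π x = 1 ↔ (x : G) ∈ YY V R := fun x =>
    (QuotientGroup.eq_one_iff x).trans mem_subgroupOf
  -- `J` is perfect
  have hW : ∀ k l (v' : F → F → G) (w1' w2' : F → G), Coord V R k l v' w1' w2' →
      ∀ x (hx : x ∈ WW V (R k)), π ⟨x, W_le_X V R k hx⟩ ∈ _root_.commutator J := by
    intro k l v' w1' w2' c' x hx
    obtain ⟨h, hh, w, hw, e⟩ := exists_comm_mod c' b ha ha1 hx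
    have hwX := W_le_X V R k hw
    have h1 : π ⟨x, W_le_X V R k hx⟩ = ⁅π ⟨h, hh⟩, π ⟨w, hwX⟩⁆ := by
      rw [commutatorElement_def, ← map_inv, ← map_inv, ← map_mul, ← map_mul, ← map_mul, eq_comm,
        ← inv_mul_eq_one, ← map_inv, ← map_mul, hπ1]
      exact e
    rw [h1]
    exact commutator_mem_commutator (mem_top _) (mem_top _)
  have hJ : _root_.commutator J = ⊤ := by
    rw [eq_top_iff]
    rintro y -
    obtain ⟨x, rfl⟩ := QuotientGroup.mk_surjective y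
    let K : Subgroup G := ((_root_.commutator J).comap π).map (XX V R).subtype
    have hK : XX V R ≤ K := by
      rw [b.X_eq c.ne]
      refine sup_le (fun x hx => ?_) fun x hx => ?_
      · exact ⟨⟨x, W_le_X V R i hx⟩, hW i j v w1 w2 c x hx, rfl⟩
      · exact ⟨⟨x, W_le_X V R j hx⟩, hW j i _ w2 w1 c.symm x hx, rfl⟩
    obtain ⟨x', hx', e⟩ := hK x.2
    have : x' = x := Subtype.ext e
    rw [← this]
    exact hx'
  -- the central involution
  set z' : J := π ⟨z, hz⟩ with hz'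
  have hzc : z' ∈ center J := by
    rw [mem_center_iff]
    intro y
    obtain ⟨x, rfl⟩ := QuotientGroup.mk_surjective y
    change π x * π ⟨z, hz⟩ = π ⟨z, hz⟩ * π x
    rw [← mul_inv_eq_one, mul_inv_rev, ← map_inv, ← map_inv, ← map_mul, ← map_mul, ← map_mul, hπ1]
    have e : ((x * ⟨z, hz⟩ * (x⁻¹ * (⟨z, hz⟩ : (XX V R : Subgroup G))⁻¹) : (XX V R : Subgroup G)) : G) =
        x * z * (x : G)⁻¹ * z⁻¹ := by push_cast; group
    rw [e]
    exact comm_cen b x.2 hzV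
  have hz2 : z' ^ 2 = 1 := by
    rw [hz', ← map_pow, hπ1, pow_two]
    exact hzz
  -- a 2-subgroup containing `z'` and the image of `W i`
  let W' : Subgroup J := ((WW V (R i)).subgroupOf (XX V R)).map π
  have hW'2 : IsPGroup 2 W' := ((b.W_isPGroup i).comap_of_injective _ (subtype_injective _)).map _
  have hz'2 : IsPGroup 2 (zpowers z') := by
    rintro ⟨y, hy⟩
    obtain ⟨m, rfl⟩ := mem_zpowers_iff.1 hy
    refine ⟨1, Subtype.ext ?_⟩
    change (z' ^ m) ^ (2 ^ 1) = 1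
    rw [pow_one, ← zpow_natCast, ← zpow_mul, mul_comm, zpow_mul, zpow_natCast, hz2, one_zpow]
  have hzn : (zpowers z').Normal := ⟨fun n hn g => by
    have h1 : n ∈ center J := (zpowers_le.2 hzc) hn
    rw [mem_center_iff.1 h1 g, mul_inv_cancel_right]
    exact hn⟩
  have hT : IsPGroup 2 (W' ⊔ zpowers z' : Subgroup J) := hW'2.to_sup_of_normal_right hz'2
  obtain ⟨Q, hQ⟩ := hT.exists_le_sylow
  have hWQ : W' ≤ Q := le_sup_left.trans hQ
  have hzQ : z' ∈ (Q : Subgroup J) := hQ ((le_sup_right : zpowers z' ≤ _) (mem_zpowers z'))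
  -- the preimage
  let P : Subgroup G := ((Q : Subgroup J).comap π).map (XX V R).subtype
  have hP2 : IsPGroup 2 P := by
    refine IsPGroup.map (IsPGroup.comap_of_ker_isPGroup Q.isPGroup' π ?_) _
    have hker : π.ker = N := QuotientGroup.ker_mk' N
    rw [hker]
    exact (Y_isPGroup b).comap_of_injective _ (subtype_injective _)
  have hPX : P ≤ XX V R := map_subtype_le _
  have hWP : WW V (R i) ≤ P := fun x hx =>
    ⟨⟨x, W_le_X V R i hx⟩, hWQ ⟨⟨x, W_le_X V R i hx⟩, hx, rfl⟩, rfl⟩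
  have hV2 : IsPGroup 2 V := (b.W_isPGroup i).to_le (V_le_WW V (R i))
  have hV1 : V ≠ ⊥ := by
    obtain ⟨y, hy, hy1⟩ := b.exists_ne i
    intro h
    have h2 := b.R_le i hy
    rw [h, mem_bot] at h2
    exact hy1 h2
  obtain ⟨v0, hv0, hv01, hfix⟩ := exists_fixed hV2 hV1 hP2 (hPX.trans b.X_le_NV)
  have hv0R : v0 ∈ R i := by
    obtain ⟨d, e, rfl⟩ := (c.mem_V v0).1 hv0
    have h1 := hfix _ (hWP (c.w1_mem 1))
    rw [c.w1_act] at h1
    have h2 := (c.v_inj h1).1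
    have he : e = 0 := by linear_combination h2
    rw [he]
    exact (c.mem_R1 _).2 ⟨d, rfl⟩
  have hPR : P ≤ normalizer (R i : Set G) := by
    intro x hx
    obtain ⟨k, hk⟩ := b.perm x (b.X_le_NV (hPX hx)) i
    have h1 : v0 ∈ R k := by
      rw [← hk, ← hfix x hx]
      exact conj_mem_cj hv0R
    have h2 : k = i := by
      by_contra hne
      exact hv01 (b.eq_one hne h1 hv0R)
    rw [h2] at hk
    exact cj_eq_self_iff.1 hk
  -- `Q` is abelian
  have hab : ∀ x ∈ P, ∀ y ∈ P, x * y * x⁻¹ * y⁻¹ ∈ YY V R := by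
    have key : ∀ x ∈ P, ∃ w ∈ WW V (R i), ∃ e ∈ centralizer (V : Set G), e ∈ XX V R ∧ x = w * e := by
      intro x hx
      obtain ⟨n, hn⟩ := hP2 ⟨x, hx⟩
      have hn' : x ^ 2 ^ n = 1 := congrArg Subtype.val hn
      obtain ⟨q, hq⟩ := exists_w1 c b (hPX hx) (hPR hx) hn'
      exact ⟨w1 q, c.w1_mem q, _, hq, mul_mem (inv_mem (W_le_X V R i (c.w1_mem q))) (hPX hx), by group⟩
    rintro x hx y hy
    obtain ⟨w, hw, e, he, heX, rfl⟩ := key x hx
    obtain ⟨w', hw', e', he', heX', rfl⟩ := key y hy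
    have hwX := W_le_X V R i hw
    have hwX' := W_le_X V R i hw'
    -- in `J`
    have hce : ∀ (u : G) (hu : u ∈ XX V R), u ∈ centralizer (V : Set G) → ∀ y : J, y * π ⟨u, hu⟩ = π ⟨u, hu⟩ * y := by
      intro u hu huV y
      obtain ⟨x, rfl⟩ := QuotientGroup.mk_surjective y
      change π x * π ⟨u, hu⟩ = π ⟨u, hu⟩ * π x
      rw [← mul_inv_eq_one, mul_inv_rev, ← map_inv, ← map_inv, ← map_mul, ← map_mul, ← map_mul, hπ1]
      have e : ((x * ⟨u, hu⟩ * (x⁻¹ * (⟨u, hu⟩ : (XX V R : Subgroup G))⁻¹) : (XX V R : Subgroup G)) : G) =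
          x * u * (x : G)⁻¹ * u⁻¹ := by push_cast; group
      rw [e]
      exact comm_cen b x.2 huV
    have h1 := hce e heX he
    have h2 := hce e' heX' he'
    have h3 : π ⟨w, hwX⟩ * π ⟨w', hwX'⟩ = π ⟨w', hwX'⟩ * π ⟨w, hwX⟩ := by
      rw [← mul_inv_eq_one, mul_inv_rev, ← map_inv, ← map_inv, ← map_mul, ← map_mul, ← map_mul, hπ1]
      have e3 : (((⟨w, hwX⟩ : (XX V R : Subgroup G)) * ⟨w', hwX'⟩ * ((⟨w, hwX⟩ : (XX V R : Subgroup G))⁻¹ *
          (⟨w', hwX'⟩ : (XX V R : Subgroup G))⁻¹) : (XX V R : Subgroup G)) : G) = w * w' * w⁻¹ * w'⁻¹ := by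
        push_cast; group
      rw [e3]
      exact b.D_le_Y (V_le_D V R (b.R_le i (b.WW_comm i hw hw')))
    have h4 : π ⟨w, hwX⟩ * π ⟨e, heX⟩ * (π ⟨w', hwX'⟩ * π ⟨e', heX'⟩) =
        π ⟨w', hwX'⟩ * π ⟨e', heX'⟩ * (π ⟨w, hwX⟩ * π ⟨e, heX⟩) := by
      calc π ⟨w, hwX⟩ * π ⟨e, heX⟩ * (π ⟨w', hwX'⟩ * π ⟨e', heX'⟩)
          = π ⟨w, hwX⟩ * (π ⟨e, heX⟩ * π ⟨w', hwX'⟩) * π ⟨e', heX'⟩ := by simp only [mul_assoc]
        _ = π ⟨w, hwX⟩ * (π ⟨w', hwX'⟩ * π ⟨e, heX⟩) * π ⟨e', heX'⟩ := by rw [h1]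
        _ = (π ⟨w, hwX⟩ * π ⟨w', hwX'⟩) * (π ⟨e, heX⟩ * π ⟨e', heX'⟩) := by simp only [mul_assoc]
        _ = (π ⟨w', hwX'⟩ * π ⟨w, hwX⟩) * (π ⟨e', heX'⟩ * π ⟨e, heX⟩) := by rw [h3, h2]
        _ = π ⟨w', hwX'⟩ * (π ⟨w, hwX⟩ * π ⟨e', heX'⟩) * π ⟨e, heX⟩ := by simp only [mul_assoc]
        _ = π ⟨w', hwX'⟩ * (π ⟨e', heX'⟩ * π ⟨w, hwX⟩) * π ⟨e, heX⟩ := by rw [h2]
        _ = _ := by simp only [mul_assoc]
    rw [← map_mul, ← map_mul, ← map_mul, ← map_mul, ← mul_inv_eq_one, ← map_inv, ← map_mul, hπ1] at h4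
    have e4 : w * e * (w' * e') * (w * e)⁻¹ * (w' * e')⁻¹ =
        (((⟨w, hwX⟩ : (XX V R : Subgroup G)) * ⟨e, heX⟩ * (⟨w', hwX'⟩ * ⟨e', heX'⟩) *
          ((⟨w', hwX'⟩ : (XX V R : Subgroup G)) * ⟨e', heX'⟩ * (⟨w, hwX⟩ * ⟨e, heX⟩))⁻¹ :
            (XX V R : Subgroup G)) : G) := by
      push_cast; group
    rw [e4]
    exact h4
  have hQc : ⁅(Q : Subgroup J), (Q : Subgroup J)⁆ = ⊥ := by
    rw [commutator_eq_bot_iff_le_centralizer]
    intro x hx
    rw [mem_centralizer_iff]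
    intro y hy
    obtain ⟨x, rfl⟩ := QuotientGroup.mk_surjective x
    obtain ⟨y, rfl⟩ := QuotientGroup.mk_surjective y
    have hxP : (x : G) ∈ P := ⟨x, hx, rfl⟩
    have hyP : (y : G) ∈ P := ⟨y, hy, rfl⟩
    have h1 := hab y hyP x hxP
    change π y * π x = π x * π y
    rw [← mul_inv_eq_one, mul_inv_rev, ← map_inv, ← map_inv, ← map_mul, ← map_mul, ← map_mul, hπ1]
    have e : ((y * x * (y⁻¹ * x⁻¹) : (XX V R : Subgroup G)) : G) = y * x * (y : G)⁻¹ * (x : G)⁻¹ := by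
      push_cast; group
    rw [e]
    exact h1
  have h1 := mem_commutator_of_center hJ Q hzc hzQ
  rw [hQc, mem_bot, hz', hπ1] at h1
  exact h1

/-- **the field `odd₁`** -/
theorem odd_stab (c : Coord V R i j v w1 w2) (b : BT V R) {a : F} (ha : a ≠ 0) (ha1 : a ≠ 1) :
    Odd ((WW V (R i) ⊔ YY V R).relIndex (XX V R ⊓ normalizer (R i : Set G))) := by
  have : Fact (Nat.Prime 2) := ⟨Nat.prime_two⟩
  set U := WW V (R i) ⊔ YY V R with hU
  set A := XX V R ⊓ normalizer (R i : Set G) with hA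
  have hYR : YY V R ≤ normalizer (R i : Set G) := YY_le_cen.trans (b.cen_le_N i)
  have hUA : U ≤ A := sup_le (le_inf (W_le_X V R i) (b.W_le_N i)) (le_inf YY_le_XX hYR)
  have hAU : A ≤ normalizer (U : Set G) := by
    intro g hg
    obtain ⟨h1, h2⟩ := mem_inf.1 hg
    rw [← cj_eq_self_iff, hU, cj_sup, cj_eq_self_iff.2 (normalizer_le_WW V (R i) h2),
      cj_eq_self_iff.2 (b.NV_le_NY (b.X_le_NV h1))]
  have hn : (U.subgroupOf A).Normal :=
    ⟨fun n hn g => conj_mem_of_normalizer (g := (g : G)) (x := (n : G)) (hAU g.2) hn⟩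
  have hU2 : IsPGroup 2 U := (b.W_isPGroup i).to_sup_of_normal_right' (Y_isPGroup b)
    ((b.W_le_NV i).trans b.NV_le_NY)
  have hWY : ∀ u ∈ U, ∃ w ∈ WW V (R i), ∃ y ∈ YY V R, u = w * y := by
    intro u hu
    exact exists_mul_of_le (YY_le_cen.trans (b.cen_le_NW i)) hu
  by_contra hodd
  rw [Nat.not_odd_iff_even, even_iff_two_dvd] at hodd
  have hodd' : 2 ∣ Nat.card (A ⧸ U.subgroupOf A) := hodd
  obtain ⟨g', hg'⟩ := exists_prime_orderOf_dvd_card' 2 hodd'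
  obtain ⟨g, rfl⟩ := QuotientGroup.mk_surjective g'
  have hgU : (g : G) ∉ U := by
    intro h
    have h1 : (QuotientGroup.mk g : A ⧸ U.subgroupOf A) = 1 := (QuotientGroup.eq_one_iff g).2 h
    rw [h1, orderOf_one] at hg'
    norm_num at hg'
  have hgg : (g : G) * g ∈ U := by
    have h1 : (QuotientGroup.mk g : A ⧸ U.subgroupOf A) ^ 2 = 1 := by rw [← hg', pow_orderOf_eq_one]
    rw [← QuotientGroup.mk_pow, QuotientGroup.eq_one_iff, mem_subgroupOf, pow_two] at h1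
    exact h1
  obtain ⟨hgX, hgR⟩ := mem_inf.1 g.2
  obtain ⟨n, hn'⟩ := hU2 ⟨_, hgg⟩
  have hn2 : ((g : G) * g) ^ 2 ^ n = 1 := congrArg Subtype.val hn'
  have hg2 : (g : G) ^ 2 ^ (n + 1) = 1 := by
    rw [pow_succ, mul_comm (2 ^ n) 2, pow_mul, pow_two]
    exact hn2
  obtain ⟨q, hq⟩ := exists_w1 c b hgX hgR hg2
  set z := (w1 q)⁻¹ * (g : G) with hz
  have hzX : z ∈ XX V R := mul_mem (inv_mem (W_le_X V R i (c.w1_mem q))) hgX
  have hw1U : w1 q ∈ U := (le_sup_left : WW V (R i) ≤ U) (c.w1_mem q)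
  have hgz : (g : G) = w1 q * z := by rw [hz]; group
  -- `z² ∈ Y`
  have hy := comm_cen b (W_le_X V R i (c.w1_mem q)) hq
  have hzz : z * z ∈ YY V R := by
    have h1 : z * z ∈ U := by
      have h2 : (g : G) * g = w1 q * (w1 q * z * (w1 q)⁻¹ * z⁻¹)⁻¹ * w1 q * (z * z) := by
        rw [hgz]; group
      have h3 : z * z = (w1 q * (w1 q * z * (w1 q)⁻¹ * z⁻¹)⁻¹ * w1 q)⁻¹ * ((g : G) * g) := by
        rw [h2]; group
      rw [h3]
      exact mul_mem (inv_mem (mul_mem (mul_mem hw1U (inv_mem ((le_sup_right : YY V R ≤ U) hy))) hw1U)) hgg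
    obtain ⟨w, hw, y, hy', e⟩ := hWY _ h1
    have h2 : w ∈ centralizer (V : Set G) := by
      have h3 : w = z * z * y⁻¹ := by rw [e]; group
      rw [h3]
      exact mul_mem (mul_mem hq hq) (inv_mem (YY_le_cen hy'))
    rw [e]
    exact mul_mem (UU_le_YY i (mem_inf.2 ⟨hw, h2⟩)) hy'
  have hzY := mem_Y_of_sq c b ha ha1 hzX hq hzz
  apply hgU
  rw [hgz]
  exact mul_mem hw1U ((le_sup_right : YY V R ≤ U) hzY)

/-- **the field `t₁`** -/
theorem exists_torus (c : Coord V R i j v w1 w2) (b : BT V R) {a : F} (ha : a ≠ 0) (ha1 : a ≠ 1) :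
    ∃ t ∈ XX V R, t ∈ normalizer (R i : Set G) ∧ Odd (orderOf t) ∧
      ∀ w ∈ WW V (R i), t * w * t⁻¹ * w⁻¹ ∈ YY V R → w ∈ YY V R := by
  obtain ⟨m, k, hk, hmk⟩ := Nat.exists_eq_two_pow_mul_odd (orderOf_pos (hh w1 w2 a)).ne'
  set h := hh w1 w2 a with hh
  have hX : h ∈ XX V R := c.hh_mem_X b a
  have hR : h ∈ normalizer (R i : Set G) := cj_eq_self_iff.1 (c.hh_R1 b ha)
  refine ⟨h ^ 2 ^ m, pow_mem hX _, pow_mem hR _, ?_, ?_⟩
  · rw [orderOf_pow' h (by positivity), hmk, Nat.gcd_mul_right_left, Nat.mul_div_cancel_left _ (by positivity)]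
    exact hk
  -- the action
  have hpow : ∀ n : ℕ, ∀ d e, h ^ n * v d e * (h ^ n)⁻¹ = v (a ^ n * d) ((a ^ n)⁻¹ * e) := by
    intro n
    induction n with
    | zero => intro d e; simp
    | succ n ih =>
      intro d e
      have e1 : h ^ (n + 1) * v d e * (h ^ (n + 1))⁻¹ = h ^ n * (h * v d e * h⁻¹) * (h ^ n)⁻¹ := by
        rw [pow_succ]; group
      rw [e1, c.hh_act ha, ih]
      congr 1
      · ring
      · rw [pow_succ, mul_inv]; ring
  set a' := a ^ 2 ^ m with ha'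
  have ha'0 : a' ≠ 0 := pow_ne_zero _ ha
  have ha'1 : a' ^ 2 - 1 ≠ 0 := by
    intro h0
    apply ha1
    have h1 : a ^ 2 ^ (m + 1) = 1 := by
      rw [pow_succ, pow_mul]
      linear_combination h0
    exact two_pow_eq_one h1
  intro w hw hc
  obtain ⟨s, hs⟩ := c.W1_act w hw
  refine UU_le_YY i (mem_inf.2 ⟨hw, ?_⟩)
  have hs0 : s = 0 := by
    set t := h ^ 2 ^ m with ht
    have h1 := hpow (2 ^ m)
    rw [← ht, ← ha'] at h1
    -- `t w t⁻¹` acts as `w`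
    have h2 : (t * w * t⁻¹) * v 0 1 * (t * w * t⁻¹)⁻¹ = w * v 0 1 * w⁻¹ := by
      have h3 := mem_centralizer_iff.1 (YY_le_cen hc) (w * v 0 1 * w⁻¹)
        (conj_mem_of_normalizer (b.W_le_NV i hw) (c.v_mem 0 1))
      calc (t * w * t⁻¹) * v 0 1 * (t * w * t⁻¹)⁻¹
          = (t * w * t⁻¹ * w⁻¹) * (w * v 0 1 * w⁻¹) * (t * w * t⁻¹ * w⁻¹)⁻¹ := by group
        _ = (w * v 0 1 * w⁻¹) * (t * w * t⁻¹ * w⁻¹) * (t * w * t⁻¹ * w⁻¹)⁻¹ := by rw [h3]
        _ = w * v 0 1 * w⁻¹ := by group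
    have h3 : (t * w * t⁻¹) * v 0 1 * (t * w * t⁻¹)⁻¹ = t * (w * (t⁻¹ * v 0 1 * t) * w⁻¹) * t⁻¹ := by group
    have h4 : t⁻¹ * v 0 1 * t = v 0 a' := by
      have h5 := h1 0 a'
      rw [mul_zero, inv_mul_cancel₀ ha'0] at h5
      rw [← h5]; group
    rw [h3, h4, hs, h1, hs] at h2
    have h5 := (c.v_inj h2).1
    have h6 : s * (a' ^ 2 - 1) = 0 := by linear_combination h5
    exact (mul_eq_zero.1 h6).resolve_right ha'1
  rw [mem_centralizer_iff]
  intro y hy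
  obtain ⟨d, e, rfl⟩ := (c.mem_V y).1 hy
  have h1 := hs d e
  rw [hs0, zero_mul, add_zero, mul_inv_eq_iff_eq_mul] at h1
  exact h1.symm

end quotient

end Cfsg.Agent.Omega.Hex

end

section


/-!
# `PLoc` from `K / W = SL₂(k)`

`PLoc.of_kd`: `BTC`, `Coord`, `KD`, `N_{N(R)}(W Y) ≤ N(V)`, `(E2)`, `(E4)` of bb OMEGA #12947 give `PLoc V R i K |k|`.
-/

set_option autoImplicit false
set_option linter.dupNamespace false
set_option linter.unusedSectionVars false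

universe u v w

namespace Cfsg.Agent.Omega.Hex

open Subgroup Cfsg.Agent.Omega.BTwo Cfsg.Agent.Omega.SQEnd Cfsg.Agent.Lib.SL2Mat
open scoped Pointwise

variable {G : Type u} [Group G] {ι : Type v}

theorem exists_ne_one {F : Type*} [Field F] [Finite F] (h : 4 ≤ Nat.card F) : ∃ a : F, a ≠ 0 ∧ a ≠ 1 := by
  classical
  have _ := Fintype.ofFinite F
  rw [Nat.card_eq_fintype_card] at h
  by_contra hc
  push Not at hc
  have h1 : (Finset.univ : Finset F) ⊆ {0, 1} := by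
    intro x _
    by_cases hx : x = 0
    · simp [hx]
    · simp [hc x hx]
  have h2 := Finset.card_le_card h1
  rw [Finset.card_univ] at h2
  have h3 : ({0, 1} : Finset F).card ≤ 2 := Finset.card_le_two
  omega

/-- `K / W = SL₂(k)` and `N_{N(R)}(W Y) ≤ N(V)` -/
structure KIn (V : Subgroup G) (R : ι → Subgroup G) (i j : ι) {k : Type w} [Field k] (K : Subgroup G)
    (φ : K →* Matrix.SpecialLinearGroup (Fin 2) k) : Prop where
  kd : KD V R i j K φ
  NA : ∀ g ∈ normalizer (R i : Set G), cj g (WW V (R i) ⊔ UU V R j) = WW V (R i) ⊔ UU V R j → cj g V = V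

namespace KIn

variable {V : Subgroup G} {R : ι → Subgroup G} {i j : ι} {k : Type w} [Field k] {K : Subgroup G}
  {φ : K →* Matrix.SpecialLinearGroup (Fin 2) k} (n : KIn V R i j K φ) (b : BT V R)
include n

theorem UK : UU V R j ≤ K := n.kd.UK

include b

theorem UZ_eq : WW V (R i) ⊔ YY V R = WW V (R i) ⊔ UU V R j := by
  rw [b.Y_eq n.kd.ne, ← sup_assoc, sup_eq_left.2 (UU_le_WW i)]

omit n b in
theorem mat_iff {A : Matrix.SpecialLinearGroup (Fin 2) k} :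
    (∃ x : k, (A : Matrix (Fin 2) (Fin 2) k) = !![1, x; 0, 1]) ↔ A ∈ upG k := by
  constructor
  · rintro ⟨x, hx⟩
    rw [mem_upG]
    constructor
    · show A.1 0 0 = 1
      rw [hx]; rfl
    · show A.1 1 0 = 0
      rw [hx]; rfl
  · rintro ⟨x, rfl⟩
    exact ⟨x, rfl⟩

theorem mem_UZ (g : K) : (g : G) ∈ WW V (R i) ⊔ YY V R ↔ φ g ∈ upG k := by
  rw [n.UZ_eq b, n.kd.uni, mat_iff]

theorem UZ_le : WW V (R i) ⊔ YY V R ≤ K := by
  rw [n.UZ_eq b]
  exact sup_le n.kd.WK n.UK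

theorem Y_le : YY V R ≤ K := le_sup_right.trans (n.UZ_le b)

theorem K_le_NR : K ≤ normalizer (R i : Set G) := le_normalizer_of fun g hg a ha => by
  rw [n.kd.KR g hg a ha, mul_inv_cancel_right]
  exact ha

theorem exists_U (x : k) : ∃ (y : G) (hy : y ∈ UU V R j), φ ⟨y, n.UK hy⟩ = up x := by
  obtain ⟨g, hg⟩ := n.kd.surj (up x)
  have h1 : (g : G) ∈ WW V (R i) ⊔ UU V R j := by
    rw [← n.UZ_eq b, n.mem_UZ b, hg]
    exact ⟨x, rfl⟩
  obtain ⟨w, hw, u, hu, e⟩ := exists_mul_of_le ((UU_le_cen j).trans (b.cen_le_NW i)) h1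
  refine ⟨u, hu, ?_⟩
  have h2 : φ ⟨w, n.kd.WK hw⟩ = 1 := (n.kd.ker _).2 hw
  have h3 : g = ⟨w, n.kd.WK hw⟩ * ⟨u, n.UK hu⟩ := Subtype.ext e
  rw [h3, map_mul, h2, one_mul] at hg
  exact hg

theorem Y_up {y : G} (hy : y ∈ YY V R) : ∃ x : k, φ ⟨y, n.Y_le b hy⟩ = up x :=
  (n.mem_UZ b ⟨y, n.Y_le b hy⟩).1 ((le_sup_right : YY V R ≤ _) hy)

/-- the preimage of the Borel subgroup normalises `V` -/
theorem mem_NV_of {g : K} (h : ent (φ g) 1 0 = 0) : (g : G) ∈ normalizer (V : Set G) := by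
  rw [← cj_eq_self_iff]
  refine n.NA g (n.K_le_NR b g.2) ?_
  rw [← n.UZ_eq b]
  -- both inclusions
  have key : ∀ g : K, ent (φ g) 1 0 = 0 → cj (g : G) (WW V (R i) ⊔ YY V R) ≤ WW V (R i) ⊔ YY V R := by
    intro g h
    rw [cj_le_iff]
    intro x hx
    have hxK := n.UZ_le b hx
    have h1 := (n.mem_UZ b ⟨x, hxK⟩).1 hx
    have h2 : φ (g * ⟨x, hxK⟩ * g⁻¹) ∈ upG k := by
      obtain ⟨a, ha⟩ := h1
      have hd := det_eq (φ g)
      rw [h, mul_zero, sub_zero] at hd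
      rw [map_mul, map_mul, map_inv, ha, mem_upG, ent_inv]
      simp only [ent_mul, up_00, up_01, up_10, up_11, mk_00, mk_10, h]
      constructor
      · linear_combination hd
      · ring
    exact (n.mem_UZ b _).2 h2
  apply le_antisymm (key g h)
  have h1 : ent (φ g⁻¹) 1 0 = 0 := by rw [map_inv, ent_inv, mk_10, h, neg_zero]
  have h2 := cj_mono (g := (g : G)) (key g⁻¹ h1)
  rwa [Subgroup.coe_inv, cj_cj_inv] at h2

/-- two elements outside the Borel subgroup -/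
theorem exists_trans {x x' : K} (h : ent (φ x) 1 0 ≠ 0) (h' : ent (φ x') 1 0 ≠ 0) :
    ∃ y ∈ YY V R, (y * x)⁻¹ * x' ∈ normalizer (V : Set G) := by
  obtain ⟨y, hy, hφ⟩ := n.exists_U b (ent (φ x') 0 0 / ent (φ x') 1 0 - ent (φ x) 0 0 / ent (φ x) 1 0)
  refine ⟨y, UU_le_YY j hy, ?_⟩
  have e : (y * x)⁻¹ * x' = (((⟨y, n.UK hy⟩ : K) * x)⁻¹ * x' : K) := rfl
  rw [e]
  apply n.mem_NV_of b
  rw [map_mul, map_inv, map_mul, hφ, ent_inv]
  simp only [ent_mul, up_00, up_01, up_10, up_11, mk_00, mk_01, mk_10, mk_11]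
  field_simp
  ring

theorem frat [Finite G] [Finite k] [CharP k 2] {g : G} (hg : g ∈ normalizer (R i : Set G)) :
    ∃ x ∈ K, x⁻¹ * g ∈ normalizer (V : Set G) := by
  have : Fact (Nat.Prime 2) := ⟨Nat.prime_two⟩
  set U := WW V (R i) ⊔ YY V R with hU
  have hUK : U ≤ K := n.UZ_le b
  have hgK : cj g K = K := cj_eq_self_iff.2 (n.kd.NK hg)
  have hUK' : cj g U ≤ K := by rw [← hgK]; exact cj_mono hUK
  have hU2 : IsPGroup 2 U := (b.W_isPGroup i).to_sup_of_normal_right' (by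
    rintro ⟨y, hy⟩
    refine ⟨2, Subtype.ext ?_⟩
    change y ^ 4 = 1
    have h1 := b.D_sq (b.Y_sq hy)
    have e : y ^ 4 = y * y * (y * y) := by simp only [pow_succ, pow_zero, one_mul, mul_assoc]
    rw [e, h1]) ((b.W_le_NV i).trans b.NV_le_NY)
  have hidx : (U.subgroupOf K).index = (upG k).index := by
    have h1 : U.subgroupOf K = (upG k).comap φ := by
      ext x
      rw [mem_subgroupOf, mem_comap]
      exact n.mem_UZ b x
    rw [h1]
    exact index_comap_of_surjective _ n.kd.surj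
  have hodd : ¬ 2 ∣ (U.subgroupOf K).index := by
    rw [hidx]
    exact fun h => (Nat.not_even_iff_odd.2 odd_index_upG) (even_iff_two_dvd.2 h)
  have hcard : ∀ W : Subgroup G, W ≤ K → Nat.card (W.subgroupOf K) * (W.subgroupOf K).index = Nat.card K ∧
      Nat.card (W.subgroupOf K) = Nat.card W := fun W hW =>
    ⟨(W.subgroupOf K).card_mul_index, Nat.card_congr (subgroupOfEquivOfLe hW).toEquiv⟩
  have hodd' : ¬ 2 ∣ ((cj g U).subgroupOf K).index := by
    obtain ⟨h1, h2⟩ := hcard U hUK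
    obtain ⟨h3, h4⟩ := hcard (cj g U) hUK'
    rw [h4, card_cj, ← h2, ← h1] at h3
    rw [Nat.eq_of_mul_eq_mul_left Nat.card_pos h3]
    exact hodd
  let P : Sylow 2 K := (hU2.comap_of_injective _ K.subtype_injective : IsPGroup 2 (U.subgroupOf K)).toSylow hodd
  let P' : Sylow 2 K := ((isPGroup_cj hU2).comap_of_injective _ K.subtype_injective :
    IsPGroup 2 ((cj g U).subgroupOf K)).toSylow hodd'
  obtain ⟨x, hx⟩ := MulAction.exists_smul_eq K P P'
  have h1 : MulAut.conj x • (P : Subgroup K) = (P' : Subgroup K) := congrArg (fun Q : Sylow 2 K => (Q : Subgroup K)) hx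
  have h2 : cj (x : G) U = cj g U := by
    ext y
    constructor
    · intro hy
      have hyK : y ∈ K := by
        have := cj_mono (g := (x : G)) hUK hy
        rwa [cj_of_mem x.2] at this
      have h3 : (⟨y, hyK⟩ : K) ∈ MulAut.conj x • (P : Subgroup K) := by
        rw [mem_pointwise_smul_iff_inv_smul_mem, ← map_inv, MulAut.smul_def, MulAut.conj_apply, inv_inv]
        exact (mem_cj.1 hy :)
      rw [h1] at h3
      exact h3
    · intro hy
      have hyK : y ∈ K := hUK' hy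
      have h3 : (⟨y, hyK⟩ : K) ∈ (P' : Subgroup K) := hy
      rw [← h1, mem_pointwise_smul_iff_inv_smul_mem, ← map_inv, MulAut.smul_def, MulAut.conj_apply,
        inv_inv] at h3
      exact mem_cj.2 h3
  refine ⟨x, x.2, ?_⟩
  rw [← cj_eq_self_iff]
  refine n.NA _ (mul_mem (inv_mem (n.K_le_NR b x.2)) hg) ?_
  rw [← n.UZ_eq b, cj_mul, ← h2, cj_inv_cj]

/-- the preimage of the Borel subgroup is `K ∩ N(V)` -/
theorem mem_NV_iff [Finite G] [Finite k] [CharP k 2] {g : K} :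
    (g : G) ∈ normalizer (V : Set G) ↔ ent (φ g) 1 0 = 0 := by
  refine ⟨fun h => ?_, n.mem_NV_of b⟩
  by_contra hg
  have hK : K ≤ normalizer (V : Set G) := by
    intro x hx
    by_cases h0 : ent (φ ⟨x, hx⟩) 1 0 = 0
    · exact n.mem_NV_of b (g := ⟨x, hx⟩) h0
    · obtain ⟨y, hy, e⟩ := n.exists_trans b hg h0
      have h1 : y * g ∈ normalizer (V : Set G) := mul_mem (PLoc.Y_NV hy) h
      have h2 := mul_mem h1 e
      rwa [mul_inv_cancel_left] at h2
  obtain ⟨h, hh, H⟩ := b.mt i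
  obtain ⟨x, hx, hxg⟩ := n.frat b hh
  have h1 : h ∈ normalizer (V : Set G) := by
    have := mul_mem (hK hx) hxg
    rwa [mul_inv_cancel_left] at this
  obtain ⟨j', hj, -⟩ := b.third i i
  obtain ⟨k', hki, hkj⟩ := b.third i j'
  obtain ⟨⟨v, hv, e⟩, -⟩ := H j' k' hj hki
  have h2 : h * v * h⁻¹ ∈ V := conj_mem_of_normalizer h1 hv
  have h3 : cj (h * v * h⁻¹) (R j') = R j' := by
    apply cj_eq_self_iff.2
    refine b.cen_le_N j' ?_
    rw [mem_centralizer_iff]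
    exact fun a ha => b.V_comm a ha _ h2
  exact hkj (b.R_index (e.symm.trans h3))

theorem ker [Finite G] [Finite k] [CharP k 2] {x y : G} (hx : x ∈ K) (h : x ∉ normalizer (V : Set G))
    (hy : y ∈ YY V R) (hyx : y ∈ cj x (normalizer (V : Set G))) : y ∈ WW V (R i) := by
  have hyK := n.Y_le b hy
  obtain ⟨t, ht⟩ := n.Y_up b hy
  have hx' : ent (φ ⟨x, hx⟩) 1 0 ≠ 0 := fun h0 => h (n.mem_NV_of b (g := ⟨x, hx⟩) h0)
  rw [mem_cj] at hyx
  have h1 := (n.mem_NV_iff b (g := (⟨x, hx⟩ : K)⁻¹ * ⟨y, hyK⟩ * ⟨x, hx⟩)).1 hyx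
  rw [map_mul, map_mul, map_inv, ht, ent_inv] at h1
  simp only [ent_mul, up_00, up_01, up_10, up_11, mk_00, mk_01, mk_10, mk_11] at h1
  have h2 : t * (ent (φ ⟨x, hx⟩) 1 0) ^ 2 = 0 := by linear_combination -h1
  have h3 : t = 0 := (mul_eq_zero.1 h2).resolve_right (pow_ne_zero 2 hx')
  rw [h3, up_zero] at ht
  exact (n.kd.ker _).1 ht

theorem torus [Finite G] [Finite k] [CharP k 2] {a : k} (ha : a ≠ 0) (ha1 : a ≠ 1) :
    ∃ t ∈ K, t ∈ normalizer (V : Set G) ∧ Odd (orderOf t) ∧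
      ∀ y ∈ YY V R, t * y * t⁻¹ * y⁻¹ ∈ WW V (R i) → y ∈ WW V (R i) := by
  obtain ⟨t₀, ht₀⟩ := n.kd.surj (dg a ha)
  obtain ⟨m, c, hc, hmc⟩ := Nat.exists_eq_two_pow_mul_odd (orderOf_pos (t₀ : G)).ne'
  have hpow : ∀ l : ℕ, ent (φ (t₀ ^ l)) 0 0 = a ^ l ∧ ent (φ (t₀ ^ l)) 0 1 = 0 ∧ ent (φ (t₀ ^ l)) 1 0 = 0 ∧
      ent (φ (t₀ ^ l)) 1 1 = (a ^ l)⁻¹ := by
    intro l
    induction l with
    | zero => simp
    | succ l ih =>
      obtain ⟨h1, h2, h3, h4⟩ := ih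
      rw [pow_succ, map_mul, ht₀]
      simp only [ent_mul, h1, h2, h3, h4, dg_00, dg_01, dg_10, dg_11]
      refine ⟨by ring, by ring, by ring, ?_⟩
      rw [pow_succ, mul_inv]; ring
  obtain ⟨h1, h2, h3, h4⟩ := hpow (2 ^ m)
  set t := t₀ ^ 2 ^ m with ht
  refine ⟨t, t.2, n.mem_NV_of b h3, ?_, fun y hy hyt => ?_⟩
  · have e : (t : G) = (t₀ : G) ^ 2 ^ m := by rw [ht]; rfl
    rw [e, orderOf_pow' _ (by positivity), hmc, Nat.gcd_mul_right_left, Nat.mul_div_cancel_left _ (by positivity)]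
    exact hc
  · obtain ⟨s, hs⟩ := n.Y_up b hy
    have h5 : φ (t * ⟨y, n.Y_le b hy⟩ * t⁻¹ * (⟨y, n.Y_le b hy⟩ : K)⁻¹) = 1 := (n.kd.ker _).2 hyt
    rw [map_mul, map_mul, map_mul, map_inv, map_inv, hs, mul_inv_eq_one, mul_inv_eq_iff_eq_mul] at h5
    have h6 := congrArg (fun A => ent A 0 1) h5
    simp only [ent_mul, up_00, up_01, up_10, up_11, h1, h2, h4] at h6
    have ha' : a ^ 2 ^ m ≠ 0 := pow_ne_zero _ ha
    set a' := a ^ 2 ^ m with ha'def
    have h7 : s * (a' ^ 2 - 1) = 0 := by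
      field_simp at h6
      linear_combination h6
    have h8 : a' ^ 2 - 1 ≠ 0 := by
      intro h0
      apply ha1
      have h9 : a ^ 2 ^ (m + 1) = 1 := by
        rw [pow_succ, pow_mul]
        linear_combination h0
      have : Fact (Nat.Prime 2) := ⟨Nat.prime_two⟩
      have h10 : (a - 1) ^ 2 ^ (m + 1) = 0 := by rw [sub_pow_char_pow, h9, one_pow, sub_self]
      exact sub_eq_zero.1 (pow_eq_zero_iff (by positivity) |>.1 h10)
    have h9 : s = 0 := (mul_eq_zero.1 h7).resolve_right h8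
    rw [h9, up_zero] at hs
    exact (n.kd.ker _).1 hs

omit n b in
theorem card_upG [Finite k] : Nat.card (upG k) = Nat.card k := by
  refine (Nat.card_eq_of_bijective (fun x : k => (⟨up x, ⟨x, rfl⟩⟩ : upG k)) ⟨?_, ?_⟩).symm
  · intro x y h
    exact up_inj (congrArg Subtype.val h)
  · rintro ⟨_, x, rfl⟩
    exact ⟨x, rfl⟩

/-- `|U i : D| = |k|` -/
theorem relIndex_D [Finite G] [Finite k] [CharP k 2] : (DD V R).relIndex (UU V R i) = Nat.card k := by
  rw [b.card_U i j]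
  let f : UU V R j →* Matrix.SpecialLinearGroup (Fin 2) k := φ.comp (inclusion n.UK)
  have hker : f.ker = (DD V R).subgroupOf (UU V R j) := by
    ext u
    rw [MonoidHom.mem_ker, mem_subgroupOf]
    change φ ⟨(u : G), n.UK u.2⟩ = 1 ↔ _
    rw [n.kd.ker, b.D_eq' n.kd.ne, mem_inf]
    exact ⟨fun h => ⟨h, UU_le_WW j u.2⟩, fun h => h.1⟩
  have hrange : f.range = upG k := by
    ext A
    constructor
    · rintro ⟨u, rfl⟩
      exact n.Y_up b (UU_le_YY j u.2)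
    · rintro ⟨x, rfl⟩
      obtain ⟨y, hy, e⟩ := n.exists_U b x
      exact ⟨⟨y, hy⟩, e⟩
  have h1 : (DD V R).relIndex (UU V R j) = f.ker.index := by rw [hker]; rfl
  rw [h1, index_ker, hrange, card_upG]

/-- `V^x` covers `W / U i` -/
theorem cov [Finite G] [Finite k] [CharP k 2] {x : G} (hx : x ∈ K) (h : x ∉ normalizer (V : Set G)) {m : G}
    (hm : m ∈ WW V (R i)) : ∃ v ∈ cj x V, v⁻¹ * m ∈ UU V R i := by
  obtain ⟨g, hg, H⟩ := b.mt i
  obtain ⟨a, ha, hag⟩ := n.frat b hg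
  have hga : cj g V = cj a V := by
    have e1 : g = a * (a⁻¹ * g) := by group
    rw [e1, cj_mul, cj_eq_self_iff.2 hag]
  have haV : a ∉ normalizer (V : Set G) := by
    intro h1
    obtain ⟨j', hj, -⟩ := b.third i i
    obtain ⟨k', hki, hkj⟩ := b.third i j'
    obtain ⟨⟨v, hv, e⟩, -⟩ := H j' k' hj hki
    have h2 : g * v * g⁻¹ ∈ V := by
      have := conj_mem_cj (g := g) hv
      rwa [hga, cj_eq_self_iff.2 h1] at this
    have h3 : cj (g * v * g⁻¹) (R j') = R j' := by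
      apply cj_eq_self_iff.2
      refine b.cen_le_N j' ?_
      rw [mem_centralizer_iff]
      exact fun a ha => b.V_comm a ha _ h2
    exact hkj (b.R_index (e.symm.trans h3))
  obtain ⟨y, hy, e2⟩ := n.exists_trans b (x := ⟨x, hx⟩) (x' := ⟨a, ha⟩)
    (fun h0 => h (n.mem_NV_of b (g := ⟨x, hx⟩) h0)) (fun h0 => haV (n.mem_NV_of b (g := ⟨a, ha⟩) h0))
  have e3 : a = y * (x * ((y * x)⁻¹ * a)) := by group
  have hyV : cj g V = cj y (cj x V) := by
    rw [hga]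
    nth_rewrite 1 [e3]
    rw [cj_mul, cj_mul, cj_eq_self_iff.2 e2]
  have hyW : y ∈ normalizer (WW V (R i) : Set G) := b.cen_le_NW i (YY_le_cen hy)
  obtain ⟨v, hv, h3⟩ := b.W_fact (fun j k hj hk => (H j k hj hk).1) hg (conj_mem_of_normalizer hyW hm)
  have h4 : g * v * g⁻¹ ∈ cj y (cj x V) := by rw [← hyV]; exact conj_mem_cj hv
  rw [mem_cj] at h4
  refine ⟨_, h4, ?_⟩
  have h5 := conj_inv_mem_of_normalizer (b.cen_le_NU i (YY_le_cen hy)) h3
  have e4 : y⁻¹ * ((g * v * g⁻¹)⁻¹ * (y * m * y⁻¹)) * y = (y⁻¹ * (g * v * g⁻¹) * y)⁻¹ * m := by group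
  rwa [e4] at h5

/-- `|D : V| = |k|` from `U = (D^w ∩ U) D` -/
theorem relIndex_V [Finite G] [Finite k] [CharP k 2] {w : G} (hw : w ∈ K) (hwV : w ∉ normalizer (V : Set G))
    (hD : DD V R ⊓ cj w (DD V R) ≤ R i)
    (hU : ∀ u ∈ UU V R i, ∃ x ∈ cj w (DD V R), x ∈ UU V R i ∧ x⁻¹ * u ∈ DD V R) :
    V.relIndex (DD V R) = Nat.card k := by
  set D := DD V R with hDdef
  set U := UU V R i with hUdef
  set W := WW V (R i) with hWdef
  set E := cj w D ⊓ U with hE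
  have hwR : w ∈ normalizer (R i : Set G) := n.K_le_NR b hw
  have hwW : w ∈ normalizer (W : Set G) := normalizer_le_WW V (R i) hwR
  have hRD : R i ≤ D := (b.R_le i).trans (V_le_D V R)
  have hDU : D ≤ U := b.D_le_U i
  have hUN : U ≤ normalizer (D : Set G) := (UU_le_YY i).trans b.Y_le_ND
  -- `|U : D| = |E : R|`
  have h1 : D.relIndex U = Nat.card k := n.relIndex_D b
  have h2 : U = D ⊔ E := by
    apply le_antisymm
    · intro u hu
      obtain ⟨x, hx, hxU, e⟩ := hU u hu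
      have e1 : u = (x * (x⁻¹ * u) * x⁻¹) * x := by group
      rw [e1]
      exact mul_mem ((le_sup_left : D ≤ _) (conj_mem_of_normalizer (hUN hxU) e))
        ((le_sup_right : E ≤ _) (mem_inf.2 ⟨hx, hxU⟩))
    · exact sup_le hDU inf_le_right
  have hRE : R i ≤ E := by
    refine le_inf ?_ (hRD.trans hDU)
    have := cj_mono (g := w) hRD
    rwa [cj_eq_self_iff.2 hwR] at this
  have h3 : (R i).relIndex E = Nat.card k := by
    have h4 : D.relIndex E = Nat.card k := by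
      rw [← h1]
      rw [h2]
      exact (relIndex_sup_of_le ((inf_le_right : E ≤ U).trans hUN)).symm
    have h5 : D ⊓ E = R i := le_antisymm ((inf_le_inf_left D inf_le_left).trans hD) (le_inf hRD hRE)
    rw [← h4, ← inf_relIndex_right D E, h5]
  -- `|D^w : E| = q`
  have h6 : E.relIndex (cj w D) = Nat.card (R i) := by
    have h7 : U.relIndex W = Nat.card (R i) := b.relIndex_U i
    have h8 : W = U ⊔ cj w D := by
      apply le_antisymm
      · intro m hm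
        obtain ⟨v, hv, e⟩ := n.cov b hw hwV hm
        have hvD : v ∈ cj w D := cj_mono (V_le_D V R) hv
        have hvW : v ∈ W := by
          have := cj_mono (g := w) (D_le_W V R i) hvD
          rwa [cj_eq_self_iff.2 hwW] at this
        have hWU : W ≤ normalizer (U : Set G) := by
          intro g hg
          rw [← cj_eq_self_iff, hUdef, b.cj_UU (b.W_le_NV i hg) (cj_eq_self_iff.2 (b.W_le_N i hg))]
        have e1 : m = (v * (v⁻¹ * m) * v⁻¹) * v := by group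
        rw [e1]
        exact mul_mem ((le_sup_left : U ≤ _) (conj_mem_of_normalizer (hWU hvW) e))
          ((le_sup_right : cj w D ≤ _) hvD)
      · refine sup_le (UU_le_WW i) ?_
        have := cj_mono (g := w) (D_le_W V R i)
        rwa [cj_eq_self_iff.2 hwW] at this
    have hWU : W ≤ normalizer (U : Set G) := by
      intro g hg
      rw [← cj_eq_self_iff, hUdef, b.cj_UU (b.W_le_NV i hg) (cj_eq_self_iff.2 (b.W_le_N i hg))]
    rw [hE, inf_comm, inf_relIndex_right, ← h7]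
    rw [h8]
    exact (relIndex_sup_of_le (((le_sup_right : cj w D ≤ U ⊔ cj w D).trans_eq h8.symm).trans hWU)).symm
  -- counting
  have h9 := card_mul_relIndex hRE
  have h10 := card_mul_relIndex (inf_le_left : E ≤ cj w D)
  rw [h3] at h9
  rw [h6, card_cj, ← h9] at h10
  have h11 := card_mul_relIndex (V_le_D V R)
  rw [b.card_V i, ← hDdef, ← h10] at h11
  have hq : 0 < Nat.card (R i) := Nat.card_pos
  have h12 : Nat.card (R i) ^ 2 * V.relIndex D = Nat.card (R i) ^ 2 * Nat.card k := by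
    rw [h11]; ring
  exact Nat.eq_of_mul_eq_mul_left (by positivity) h12

/-- **`PLoc` from `K / W = SL₂(k)`** -/
theorem ploc [Finite G] [Finite k] [CharP k 2] {F : Type*} [Field F] [Finite F] [CharP F 2] {v : F → F → G}
    {w1 w2 : F → G} (c : Coord V R i j v w1 w2) (hF : 4 ≤ Nat.card F) (hk : 4 ≤ Nat.card k)
    {w : G} (hw : w ∈ K) (hwV : w ∉ normalizer (V : Set G)) (hD : DD V R ⊓ cj w (DD V R) ≤ R i)
    (hU : ∀ u ∈ UU V R i, ∃ x ∈ cj w (DD V R), x ∈ UU V R i ∧ x⁻¹ * u ∈ DD V R) :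
    PLoc V R i K (Nat.card k) := by
  have hcF : Nat.card (R i) = Nat.card F := by
    refine (Nat.card_eq_of_bijective (fun x : F => (⟨v x 0, (c.mem_R1 _).2 ⟨x, rfl⟩⟩ : R i)) ⟨?_, ?_⟩).symm
    · intro x y h
      exact (c.v_inj (congrArg Subtype.val h)).1
    · rintro ⟨y, hy⟩
      obtain ⟨x, hx⟩ := (c.mem_R1 y).1 hy
      exact ⟨x, Subtype.ext hx⟩
  obtain ⟨a, ha, ha1⟩ := exists_ne_one hF
  obtain ⟨a', ha', ha1'⟩ := exists_ne_one hk
  exact
    { bt := b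
      q4 := by rw [hcF]; exact hF
      r4 := hk
      cU := n.relIndex_D b
      cD := n.relIndex_V b hw hwV hD hU
      odd₁ := odd_stab c b ha ha1
      t₁ := exists_torus c b ha ha1
      X₂N := n.K_le_NR b
      NX₂ := n.kd.NK
      W₂ := n.kd.WK
      Y₂ := n.Y_le b
      frat₂ := fun g hg => n.frat b hg
      odd₂ := by
        have h1 : WW V (R i) ⊔ YY V R ≤ K ⊓ normalizer (V : Set G) :=
          le_inf (n.UZ_le b) (sup_le (b.W_le_NV i) PLoc.Y_NV)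
        have h2 := relIndex_mul_relIndex _ _ K h1 inf_le_left
        have h3 : (WW V (R i) ⊔ YY V R).relIndex K = (upG k).index := by
          have h4 : (WW V (R i) ⊔ YY V R).subgroupOf K = (upG k).comap φ := by
            ext x
            rw [mem_subgroupOf, mem_comap]
            exact n.mem_UZ b x
          have h5 := index_comap_of_surjective (upG k) n.kd.surj
          rw [← h4] at h5
          exact h5
        have h4 : Odd ((WW V (R i) ⊔ YY V R).relIndex K) := by rw [h3]; exact odd_index_upG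
        rw [← h2] at h4
        exact Nat.Odd.of_mul_left h4
      t₂ := n.torus b ha' ha1'
      trans₂ := fun x hx x' hx' h h' => n.exists_trans b (x := ⟨x, hx⟩) (x' := ⟨x', hx'⟩)
        (fun h0 => h (n.mem_NV_of b (g := ⟨x, hx⟩) h0)) (fun h0 => h' (n.mem_NV_of b (g := ⟨x', hx'⟩) h0))
      ker₂ := fun x hx h y hy hyx => n.ker b hx h hy hyx
      DD := by
        intro x hx h
        obtain ⟨y, hy, e⟩ := n.exists_trans b (x := ⟨w, hw⟩) (x' := ⟨x, hx⟩)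
          (fun h0 => hwV (n.mem_NV_of b (g := ⟨w, hw⟩) h0)) (fun h0 => h (n.mem_NV_of b (g := ⟨x, hx⟩) h0))
        have hyD : cj y (BTwo.DD V R) = BTwo.DD V R := cj_eq_self_iff.2 (b.Y_le_ND hy)
        have e1 : x = y * (w * ((y * w)⁻¹ * x)) := by group
        have h1 : cj x (BTwo.DD V R) = cj y (cj w (BTwo.DD V R)) := by
          nth_rewrite 1 [e1]
          rw [cj_mul, cj_mul, cj_eq_self_iff.2 (b.NV_le_ND e)]
        have h2 : BTwo.DD V R ⊓ cj x (BTwo.DD V R) = cj y (BTwo.DD V R ⊓ cj w (BTwo.DD V R)) := by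
          rw [cj_inf, hyD, h1]
        rw [h2]
        have h3 := cj_mono (g := y) hD
        rwa [cj_eq_self_iff.2 (b.cen_le_N i (YY_le_cen hy))] at h3 }

end KIn

end Cfsg.Agent.Omega.Hex

end

section


/-!
# `C_G(v) ≤ N_G(R)` for `v ∈ R#`, from characteristic 2 type

`PLoc.mem_V` : `C_W(Y mod R) = V` (`C_M(A) = e`); `PLoc.cen` : `Z(O₂(C_G(v))) = R`.
-/

set_option autoImplicit false
set_option linter.dupNamespace false
set_option linter.unusedSectionVars false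

universe u v w

namespace Cfsg.Agent.Omega.Hex

open Subgroup Cfsg.Agent.Omega.BTwo Cfsg.Agent.Omega.SQEnd Cfsg.Agent.Lib.SL2Mat
open scoped Pointwise commutatorElement

variable {G : Type u} [Group G]

/-- a 2-group `Y` acting on `N / M` (`N ≤ Y`) has a fixed point `≠ 1` -/
theorem exists_fixed_mod [Finite G] {Y N M : Subgroup G} (hY : IsPGroup 2 Y) (hNY : N ≤ Y)
    (hN : Y ≤ normalizer (N : Set G)) (hM : Y ≤ normalizer (M : Set G)) (hne : ∃ n ∈ N, n ∉ M) :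
    ∃ n ∈ N, n ∉ M ∧ ∀ y ∈ Y, n * y * n⁻¹ * y⁻¹ ∈ M := by
  have : Fact (Nat.Prime 2) := ⟨Nat.prime_two⟩
  have hMn : (M.subgroupOf Y).Normal :=
    ⟨fun n hn g => conj_mem_of_normalizer (g := (g : G)) (x := (n : G)) (hM g.2) hn⟩
  have hNn : (N.subgroupOf Y).Normal :=
    ⟨fun n hn g => conj_mem_of_normalizer (g := (g : G)) (x := (n : G)) (hN g.2) hn⟩
  set π := QuotientGroup.mk' (M.subgroupOf Y) with hπ
  have hN2 : ((N.subgroupOf Y).map π).Normal := Subgroup.Normal.map hNn _ (QuotientGroup.mk'_surjective _)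
  have hne2 : (N.subgroupOf Y).map π ≠ ⊥ := by
    obtain ⟨n, hn, hnM⟩ := hne
    intro hbot
    apply hnM
    have h1 : π ⟨n, hNY hn⟩ ∈ (N.subgroupOf Y).map π := mem_map_of_mem _ (by rw [mem_subgroupOf]; exact hn)
    rw [hbot, mem_bot] at h1
    rw [hπ, QuotientGroup.mk'_apply, QuotientGroup.eq_one_iff, mem_subgroupOf] at h1
    exact h1
  have hYM : IsPGroup 2 (Y ⧸ M.subgroupOf Y) := hY.to_quotient _
  obtain ⟨z, hz, hz1, hzf⟩ := exists_fixed (V := (N.subgroupOf Y).map π) (T := ⊤)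
    (hYM.to_subgroup _) hne2 (hYM.to_subgroup _) (by rw [normalizer_eq_top])
  obtain ⟨n, hn, rfl⟩ := hz
  refine ⟨n, hn, fun h => hz1 ((QuotientGroup.eq_one_iff n).2 h), fun y hy => ?_⟩
  have h1 := hzf (π ⟨y, hy⟩) (mem_top _)
  rw [← map_inv, ← map_mul, ← map_mul] at h1
  have h2 := QuotientGroup.eq.1 h1
  rw [mem_subgroupOf] at h2
  have e : ((⟨y, hy⟩ * n * (⟨y, hy⟩ : Y)⁻¹ : Y)⁻¹ * n : Y) = ⟨y, hy⟩ * (n⁻¹ * (⟨y, hy⟩ : Y)⁻¹ * n⁻¹⁻¹ * ⟨y, hy⟩) * (⟨y, hy⟩ : Y)⁻¹ := by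
    group
  rw [e] at h2
  have h3 := conj_inv_mem_of_normalizer (hM hy) h2
  have e2 : y⁻¹ * ((⟨y, hy⟩ * (n⁻¹ * (⟨y, hy⟩ : Y)⁻¹ * n⁻¹⁻¹ * ⟨y, hy⟩) * (⟨y, hy⟩ : Y)⁻¹ : Y) : G) * y =
      (n : G)⁻¹ * y⁻¹ * n * y := by
    push_cast
    group
  rw [e2] at h3
  -- `n⁻¹ y⁻¹ n y ∈ M`
  have h4 : y * (n : G) * ((n : G)⁻¹ * y⁻¹ * n * y) * (y * (n : G))⁻¹ ∈ M :=
    conj_mem_of_normalizer (hM (mul_mem hy (hNY hn))) h3
  have e3 : y * (n : G) * ((n : G)⁻¹ * y⁻¹ * n * y) * (y * (n : G))⁻¹ = n * y * (n : G)⁻¹ * y⁻¹ := by group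
  rwa [e3] at h4

variable {ι : Type v} {V : Subgroup G} {R : ι → Subgroup G} {i : ι} {X₂ : Subgroup G} {r : ℕ}

namespace PLoc

variable (l : PLoc V R i X₂ r)
include l

theorem exists_cj {g : G} (hg : g ∈ normalizer (R i : Set G)) : ∃ x ∈ X₂, cj g V = cj x V := by
  obtain ⟨x, hx, h⟩ := l.frat₂ g hg
  refine ⟨x, hx, ?_⟩
  have e1 : g = x * (x⁻¹ * g) := by group
  rw [e1, cj_mul, cj_eq_self_iff.2 h]

/-- `W` is generated by the `V^x`, `x ∈ X₂` -/
theorem W_cen {n : G} (h : ∀ x ∈ X₂, n ∈ centralizer (cj x V : Set G)) :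
    n ∈ centralizer (WW V (R i) : Set G) := by
  have h1 : WW V (R i) ≤ centralizer {n} := by
    refine iSup_le fun g => ?_
    obtain ⟨x, hx, e⟩ := l.exists_cj g.2
    rw [e]
    intro y hy
    rw [mem_centralizer_iff]
    rintro _ rfl
    exact (mem_centralizer_iff.1 (h x hx) y hy).symm
  rw [mem_centralizer_iff]
  intro w hw
  exact (mem_centralizer_iff.1 (h1 hw) n rfl).symm

/-- `V^x` covers `W / U i` -/
theorem cov {x : G} (hx : x ∈ X₂) (h : x ∉ normalizer (V : Set G)) {m : G}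
    (hm : m ∈ WW V (R i)) : ∃ v ∈ cj x V, v⁻¹ * m ∈ UU V R i := by
  obtain ⟨g, hg, H⟩ := l.bt.mt i
  obtain ⟨a, ha, hag⟩ := l.frat₂ g hg
  have hga : cj g V = cj a V := by
    have e1 : g = a * (a⁻¹ * g) := by group
    rw [e1, cj_mul, cj_eq_self_iff.2 hag]
  have haV : a ∉ normalizer (V : Set G) := by
    intro h1
    obtain ⟨j', hj, -⟩ := l.bt.third i i
    obtain ⟨k', hki, hkj⟩ := l.bt.third i j'
    obtain ⟨⟨v, hv, e⟩, -⟩ := H j' k' hj hki
    have h2 : g * v * g⁻¹ ∈ V := by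
      have := conj_mem_cj (g := g) hv
      rwa [hga, cj_eq_self_iff.2 h1] at this
    have h3 : cj (g * v * g⁻¹) (R j') = R j' := by
      apply cj_eq_self_iff.2
      refine l.bt.cen_le_N j' ?_
      rw [mem_centralizer_iff]
      exact fun a ha => l.bt.V_comm a ha _ h2
    exact hkj (l.bt.R_index (e.symm.trans h3))
  obtain ⟨y, hy, e2⟩ := l.trans₂ x hx a ha h haV
  have e3 : a = y * (x * ((y * x)⁻¹ * a)) := by group
  have hyV : cj g V = cj y (cj x V) := by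
    rw [hga]
    nth_rewrite 1 [e3]
    rw [cj_mul, cj_mul, cj_eq_self_iff.2 e2]
  have hyW : y ∈ normalizer (WW V (R i) : Set G) := l.bt.cen_le_NW i (YY_le_cen hy)
  obtain ⟨v, hv, h3⟩ := l.bt.W_fact (fun j k hj hk => (H j k hj hk).1) hg (conj_mem_of_normalizer hyW hm)
  have h4 : g * v * g⁻¹ ∈ cj y (cj x V) := by rw [← hyV]; exact conj_mem_cj hv
  rw [mem_cj] at h4
  refine ⟨_, h4, ?_⟩
  have h5 := conj_inv_mem_of_normalizer (l.bt.cen_le_NU i (YY_le_cen hy)) h3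
  have e4 : y⁻¹ * ((g * v * g⁻¹)⁻¹ * (y * m * y⁻¹)) * y = (y⁻¹ * (g * v * g⁻¹) * y)⁻¹ * m := by group
  rwa [e4] at h5

/-- `W = V C_W(V^x)` -/
theorem cov' {x : G} (hx : x ∈ X₂) (h : x ∉ normalizer (V : Set G)) {m : G}
    (hm : m ∈ WW V (R i)) : ∃ v ∈ V, v⁻¹ * m ∈ cj x (UU V R i) := by
  have hxN := normalizer_le_WW V (R i) (l.X₂N hx)
  obtain ⟨v, hv, h1⟩ := l.cov (inv_mem hx) (fun h2 => h (inv_mem_iff.1 h2)) (conj_inv_mem_of_normalizer hxN hm)
  rw [mem_cj, inv_inv] at hv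
  refine ⟨x * v * x⁻¹, hv, ?_⟩
  rw [mem_cj]
  have e : x⁻¹ * ((x * v * x⁻¹)⁻¹ * m) * x = v⁻¹ * (x⁻¹ * m * x) := by group
  rw [e]
  exact h1

variable (cW : centralizer (WW V (R i) : Set G) ≤ R i)
include cW

/-- **`C_M(A) = e`** : an element of `W` centralising `Y` modulo `R` is in `V` -/
theorem mem_V {x : G} (hx : x ∈ WW V (R i)) (h : ∀ y ∈ YY V R, x * y * x⁻¹ * y⁻¹ ∈ R i) : x ∈ V := by
  have hRV := l.bt.R_le i
  -- `x ∈ U i`
  have hxU : x ∈ UU V R i := by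
    by_contra hxU
    obtain ⟨j, hj, -⟩ := l.bt.third i i
    have h1 : UU V R j ≤ BTwo.DD V R := fun u hu =>
      l.bt.inj hj hx hxU hu (V_le_D V R (hRV (h u (UU_le_YY j hu))))
    have h2 := l.cU
    rw [l.bt.card_U i j, relIndex_eq_one.2 h1] at h2
    have h3 := l.r4
    omega
  obtain ⟨x₂, hx₂, hx₂V⟩ := l.exists_x₂
  obtain ⟨e, he, hn⟩ := l.cov' hx₂ hx₂V hx
  set n := e⁻¹ * x with hndef
  have hxe : x = e * n := by rw [hndef]; group
  have hnV : n ∈ centralizer (V : Set G) := mul_mem (inv_mem (l.bt.V_le_cen he)) (UU_le_cen i hxU)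
  -- `[n, y] ∈ R`
  have hny : ∀ y ∈ YY V R, n * y * n⁻¹ * y⁻¹ ∈ R i := by
    intro y hy
    have h1 := mem_centralizer_iff.1 (YY_le_cen hy) e he
    have h2 : n * y * n⁻¹ * y⁻¹ = e⁻¹ * (x * y * x⁻¹ * y⁻¹) * e := by
      have e1 : n * y * n⁻¹ * y⁻¹ = e⁻¹ * (x * y * x⁻¹) * (e * y⁻¹) := by rw [hndef]; group
      have h3 : e * y⁻¹ = y⁻¹ * e := ((show Commute e y from h1).inv_right)
      rw [e1, h3]; group
    rw [h2, l.bt.V_comm _ (inv_mem he) _ (hRV (h y hy)), inv_mul_cancel_right]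
    exact h y hy
  -- `n` centralises all `V^g`
  have hnc : n ∈ centralizer (WW V (R i) : Set G) := by
    refine l.W_cen fun g hg => ?_
    by_cases hgV : g ∈ normalizer (V : Set G)
    · rw [cj_eq_self_iff.2 hgV]; exact hnV
    obtain ⟨y, hy, e2⟩ := l.trans₂ x₂ hx₂ g hg hx₂V hgV
    have e3 : g = y * (x₂ * ((y * x₂)⁻¹ * g)) := by group
    have hgc : cj g V = cj y (cj x₂ V) := by
      nth_rewrite 1 [e3]
      rw [cj_mul, cj_mul, cj_eq_self_iff.2 e2]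
    rw [hgc, mem_centralizer_iff]
    intro v hv
    rw [SetLike.mem_coe, mem_cj] at hv
    set v' := y⁻¹ * v * y with hv'
    -- `n` commutes with `v'`
    have h1 : v' * n = n * v' := by
      rw [mem_cj] at hn hv
      have h2 := mem_centralizer_iff.1 (UU_le_cen i hn) _ hv
      calc v' * n = x₂ * ((x₂⁻¹ * v' * x₂) * (x₂⁻¹ * n * x₂)) * x₂⁻¹ := by group
        _ = x₂ * ((x₂⁻¹ * n * x₂) * (x₂⁻¹ * v' * x₂)) * x₂⁻¹ := by rw [h2]
        _ = n * v' := by group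
    -- `R` commutes with `v'`
    have h2 : ∀ a ∈ R i, v' * a = a * v' := by
      intro a ha
      rw [mem_cj] at hv
      have h3 := conj_inv_mem_of_normalizer (l.X₂N hx₂) ha
      have h4 := l.bt.V_comm _ hv _ (hRV h3)
      calc v' * a = x₂ * ((x₂⁻¹ * v' * x₂) * (x₂⁻¹ * a * x₂)) * x₂⁻¹ := by group
        _ = x₂ * ((x₂⁻¹ * a * x₂) * (x₂⁻¹ * v' * x₂)) * x₂⁻¹ := by rw [h4]
        _ = a * v' := by group
    -- `y⁻¹ n y = n c`
    have h3 := hny y⁻¹ (inv_mem hy)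
    rw [inv_inv] at h3
    have h4 : y⁻¹ * n * y = (n * y⁻¹ * n⁻¹ * y)⁻¹ * n := by group
    have h5 : v' * (y⁻¹ * n * y) = y⁻¹ * n * y * v' := by
      have h6 := h2 _ (inv_mem h3)
      rw [h4]
      calc v' * ((n * y⁻¹ * n⁻¹ * y)⁻¹ * n) = (v' * (n * y⁻¹ * n⁻¹ * y)⁻¹) * n := by group
        _ = (n * y⁻¹ * n⁻¹ * y)⁻¹ * (v' * n) := by rw [h6]; group
        _ = (n * y⁻¹ * n⁻¹ * y)⁻¹ * n * v' := by rw [h1]; group
    calc v * n = y * (v' * (y⁻¹ * n * y)) * y⁻¹ := by rw [hv']; group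
      _ = y * (y⁻¹ * n * y * v') * y⁻¹ := by rw [h5]
      _ = n * v := by rw [hv']; group
  rw [hxe]
  exact mul_mem he (hRV (cW hnc))

/-- an `X₂`-invariant subgroup of `W` commuting with some `z ∈ V - R` is in `R` -/
theorem le_R_of_comm {N : Subgroup G} (hN : N ≤ WW V (R i)) (hX : X₂ ≤ normalizer (N : Set G)) {z : G}
    (hz : z ∈ V) (hzR : z ∉ R i) (h : ∀ m ∈ N, m * z = z * m) : N ≤ R i := by
  intro m hm
  apply cW
  refine l.W_cen fun x hx => ?_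
  rw [mem_centralizer_iff]
  intro v hv
  rw [SetLike.mem_coe, mem_cj] at hv
  have hm' : x⁻¹ * m * x ∈ N := conj_inv_mem_of_normalizer (hX hx) hm
  have h1 := l.bt.reg (l.bt.W_le_Q i (hN hm')) hz hzR (h _ hm') _ hv
  calc v * m = x * ((x⁻¹ * v * x) * (x⁻¹ * m * x)) * x⁻¹ := by group
    _ = x * ((x⁻¹ * m * x) * (x⁻¹ * v * x)) * x⁻¹ := by rw [h1]
    _ = m * v := by group

variable [Finite G]

/-- an `X₂`-invariant subgroup of `W` not in `R` meets `V` outside `R` -/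
theorem exists_mem_V {N : Subgroup G} (hN : N ≤ WW V (R i)) (hX : X₂ ≤ normalizer (N : Set G))
    (h : ¬ N ≤ R i) : ∃ n ∈ N, n ∈ V ∧ n ∉ R i := by
  have hUX : UZ V R i ≤ X₂ := sup_le l.W₂ l.Y₂
  obtain ⟨n, hn, hnR, hf⟩ := exists_fixed_mod (M := R i) l.U_two (hN.trans le_sup_left)
    (hUX.trans hX) (hUX.trans l.X₂N) (Set.not_subset.1 h)
  exact ⟨n, hn, l.mem_V cW (hN hn) fun y hy => hf y ((le_sup_right : YY V R ≤ _) hy), hnR⟩

theorem R_le_of_not {N : Subgroup G} (hN : N ≤ WW V (R i)) (hX : X₂ ≤ normalizer (N : Set G))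
    (h : ¬ N ≤ R i) : R i ≤ N := by
  obtain ⟨n, hn, hnV, hnR⟩ := l.exists_mem_V cW hN hX h
  obtain ⟨j, hj⟩ := l.bt.R_cov n hnV
  have hij : i ≠ j := by rintro rfl; exact hnR hj
  have hn1 : n ≠ 1 := by rintro rfl; exact hnR (one_mem _)
  intro a ha
  obtain ⟨w, hw, e⟩ := l.bt.onto hij hj hn1 ha
  rw [← e]
  exact mul_mem (conj_mem_of_normalizer (hX (l.W₂ hw)) hn) (inv_mem hn)

/-- **`C_G(v) ≤ N_G(R)`** for `v ∈ R#` -/
theorem cen (cR : ∀ g ∈ X₂, ∀ a ∈ R i, g * a = a * g)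
    (oK : ∀ T : Subgroup G, T ≤ X₂ → IsPGroup 2 T → X₂ ≤ normalizer (T : Set G) → T ≤ WW V (R i))
    (eK : ∀ t ∈ normalizer (R i : Set G), (∃ n : ℕ, t ^ 2 ^ n = 1) →
      (∀ g ∈ X₂, t * g * t⁻¹ * g⁻¹ ∈ WW V (R i)) → t ∈ WW V (R i))
    (S : Sylow 2 G) (hS : (S : Subgroup G) ≤ normalizer (R i : Set G))
    (trR : ∀ a ∈ R i, a ≠ 1 → ∀ a' ∈ R i, a' ≠ 1 → ∃ g ∈ normalizer (R i : Set G), g * a * g⁻¹ = a')
    {v : G} (hv : v ∈ R i) (hv1 : v ≠ 1)
    (ch : centralizer ({v} : Set G) ⊓ centralizer (O2 (centralizer ({v} : Set G)) : Set G) ≤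
      O2 (centralizer ({v} : Set G))) {c : G} (hc : c * v = v * c) : c ∈ normalizer (R i : Set G) := by
  set C := centralizer ({v} : Set G) with hC
  set N := O2 C with hN
  have hmemC : ∀ g : G, g * v = v * g → g ∈ C := fun g hg => mem_centralizer_singleton_iff.2 hg
  have hXC : X₂ ≤ C := fun g hg => hmemC g (cR g hg v hv)
  have hWC : WW V (R i) ≤ C := l.W₂.trans hXC
  have hCN : C ≤ normalizer (N : Set G) := le_normalizer_O2 C
  have hN2 : IsPGroup 2 N := O2_isPGroup C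
  -- `N ≤ N(R)`
  have hNR : N ≤ normalizer (R i : Set G) := by
    have hR2 : IsPGroup 2 (R i) := (l.bt.W_isPGroup i).to_le ((l.bt.R_le i).trans (V_le_WW V (R i)))
    have hR1 : R i ≠ ⊥ := l.bt.R_ne i
    obtain ⟨v₀, hv₀, hv₀1, hf⟩ := exists_fixed hR2 hR1 S.isPGroup' hS
    obtain ⟨g, hg, e⟩ := trR v₀ hv₀ hv₀1 v hv hv1
    -- `S ≤ C(v₀) = C^{g⁻¹}`
    have h1 : (S : Subgroup G) ≤ normalizer (cj g⁻¹ N : Set G) := by
      rw [normalizer_cj]
      intro s hs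
      rw [mem_cj, inv_inv]
      apply hCN
      apply hmemC
      have h2 := hf s hs
      calc g * s * g⁻¹ * v = g * s * (g⁻¹ * v * g) * g⁻¹ := by group
        _ = g * (s * v₀ * s⁻¹) * s * g⁻¹ := by rw [← e]; group
        _ = g * v₀ * s * g⁻¹ := by rw [h2]
        _ = (g * v₀ * g⁻¹) * (g * s * g⁻¹) := by group
        _ = v * (g * s * g⁻¹) := by rw [e]
    have h2 : IsPGroup 2 ((S : Subgroup G) ⊔ cj g⁻¹ N : Subgroup G) :=
      S.isPGroup'.to_sup_of_normal_right' (isPGroup_cj hN2) h1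
    have h3 := S.is_maximal' h2 le_sup_left
    have h4 : cj g⁻¹ N ≤ normalizer (R i : Set G) := ((le_sup_right : cj g⁻¹ N ≤ _).trans_eq h3).trans hS
    have h5 := cj_mono (g := g) h4
    rw [cj_cj_inv] at h5
    rwa [cj_of_mem hg] at h5
  -- `N ≤ W`
  have hNW : N ≤ WW V (R i) := by
    intro t ht
    refine eK t (hNR ht) (by
      obtain ⟨n, hn⟩ := hN2 ⟨t, ht⟩
      exact ⟨n, congrArg Subtype.val hn⟩) fun g hg => ?_
    have h1 : N ⊓ X₂ ≤ WW V (R i) := by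
      refine oK _ inf_le_right (hN2.to_le inf_le_left) ?_
      intro x hx
      rw [← cj_eq_self_iff, cj_inf, cj_eq_self_iff.2 (hCN (hXC hx)), cj_of_mem hx]
    refine h1 (mem_inf.2 ⟨?_, ?_⟩)
    · have e : t * g * t⁻¹ * g⁻¹ = t * (g * t⁻¹ * g⁻¹) := by group
      rw [e]
      exact mul_mem ht (conj_mem_of_normalizer (hCN (hXC hg)) (inv_mem ht))
    · exact mul_mem (conj_mem_of_normalizer (l.NX₂ (hNR ht)) hg) (inv_mem hg)
  -- `N` is not in `R`
  have hNR' : ¬ N ≤ R i := by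
    intro h
    have h1 : WW V (R i) ≤ N := by
      intro w hw
      refine ch (mem_inf.2 ⟨hWC hw, ?_⟩)
      rw [mem_centralizer_iff]
      exact fun a ha => (cR w (l.W₂ hw) a (h ha)).symm
    obtain ⟨j, hj, -⟩ := l.bt.third i i
    obtain ⟨y, hy, hy1⟩ := l.bt.exists_ne j
    have h2 := (V_le_WW V (R i)).trans (h1.trans h) (l.bt.R_le j hy)
    exact hy1 (l.bt.eq_one hj hy h2)
  have hXN : X₂ ≤ normalizer (N : Set G) := hXC.trans hCN
  have hRN : R i ≤ N := l.R_le_of_not cW hNW hXN hNR'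
  -- `Z(N) = R`
  have hZ : N ⊓ centralizer (N : Set G) = R i := by
    apply le_antisymm
    · by_contra h
      have hXZ : X₂ ≤ normalizer ((N ⊓ centralizer (N : Set G) : Subgroup G) : Set G) := by
        intro x hx
        rw [← cj_eq_self_iff, cj_inf, ← centralizer_cj, cj_eq_self_iff.2 (hXN hx)]
      obtain ⟨z, hz, hzV, hzR⟩ := l.exists_mem_V cW (inf_le_left.trans hNW) hXZ h
      exact hNR' (l.le_R_of_comm cW hNW hXN hzV hzR fun m hm =>
        mem_centralizer_iff.1 (mem_inf.1 hz).2 m hm)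
    · refine le_inf hRN ?_
      intro a ha
      rw [mem_centralizer_iff]
      exact fun m hm => cR m (l.W₂ (hNW hm)) a ha
  rw [← cj_eq_self_iff, ← hZ, cj_inf, ← centralizer_cj, cj_eq_self_iff.2 (hCN (hmemC c hc))]

end PLoc

end Cfsg.Agent.Omega.Hex

end

section


/-!
# A 2-automorphism of `SL₂(k)` centralising a split torus is trivial (`4 < |k|`, `char k = 2`)
-/

set_option autoImplicit false
set_option linter.dupNamespace false
set_option linter.unusedSectionVars false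

universe u v w

namespace Cfsg.Agent.Omega.Hex

open Cfsg.Agent.Lib.SL2Mat

variable {k : Type w} [Field k]

local notation "SLk" => Matrix.SpecialLinearGroup (Fin 2) k

theorem dg_lo (b c : k) (hb : b ≠ 0) : dg b hb * lo c = lo (b⁻¹ ^ 2 * c) * dg b hb := by
  apply ext_ent <;> simp only [ent_mul, dg_00, dg_01, dg_10, dg_11, lo_00, lo_01, lo_10, lo_11] <;>
    field_simp <;> ring

section
variable [CharP k 2]

theorem eq_one_of_sq {a : k} (h : a * a = 1) : a = 1 := by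
  have h2 : (2 : k) = 0 := CharP.cast_eq_zero k 2
  have h1 : (a - 1) ^ 2 = 0 := by linear_combination h - (a - 1) * h2
  exact sub_eq_zero.1 (pow_eq_zero_iff (by norm_num) |>.1 h1)

theorem inv_ne_self {a : k} (ha : a ≠ 0) (ha1 : a ≠ 1) : a - a⁻¹ ≠ 0 := by
  intro h
  apply ha1
  apply eq_one_of_sq
  field_simp at h
  linear_combination h

/-- an involution commuting with its conjugate under a torus element is upper or lower triangular -/
theorem shape {M : SLk} (hM : M * M = 1) (hM1 : M ≠ 1) {a : k} (ha : a ≠ 0) (ha1 : a ≠ 1)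
    (hc : M * (dg a ha * M * (dg a ha)⁻¹) = dg a ha * M * (dg a ha)⁻¹ * M) :
    (∃ c, c ≠ 0 ∧ M = up c) ∨ (∃ c, c ≠ 0 ∧ M = lo c) := by
  have h2 : (2 : k) = 0 := CharP.cast_eq_zero k 2
  have hd := det_eq M
  have e00 := congrArg (fun A => ent A 0 0) hM
  have e01 := congrArg (fun A => ent A 0 1) hM
  have e10 := congrArg (fun A => ent A 1 0) hM
  have e11 := congrArg (fun A => ent A 1 1) hM
  have c00 := congrArg (fun A => ent A 0 0) hc
  simp only [ent_mul, ent_one_00, ent_one_01, ent_one_10, ent_one_11] at e00 e01 e10 e11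
  simp only [ent_mul, ent_inv, mk_00, mk_01, mk_10, mk_11, dg_00, dg_01, dg_10, dg_11] at c00
  set p := ent M 0 0 with hp
  set b := ent M 0 1 with hb
  set c := ent M 1 0 with hcc
  set d := ent M 1 1 with hdd
  -- trace zero
  have htr : p = d := by
    by_contra hpd
    have h3 : p + d ≠ 0 := by
      intro h4
      apply hpd
      linear_combination h4 - d * h2
    have hb0 : b = 0 := by
      have : b * (p + d) = 0 := by linear_combination e01
      exact (mul_eq_zero.1 this).resolve_right h3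
    have hc0 : c = 0 := by
      have : c * (p + d) = 0 := by linear_combination e10
      exact (mul_eq_zero.1 this).resolve_right h3
    rw [hb0, hc0] at e00 e11
    have h5 : p = 1 := eq_one_of_sq (by linear_combination e00)
    have h6 : d = 1 := eq_one_of_sq (by linear_combination e11)
    exact hpd (h5.trans h6.symm)
  -- `b c = 0`
  have hbc : b * c = 0 := by
    have h3 : b * c * (a⁻¹ ^ 2 - a ^ 2) = 0 := by linear_combination c00
    refine (mul_eq_zero.1 h3).resolve_right fun h4 => ?_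
    refine pow_ne_zero 2 (inv_ne_self ha ha1) ?_
    linear_combination h4 + (a ^ 2 - a * a⁻¹) * h2
  have hp1 : p = 1 := eq_one_of_sq (by linear_combination e00 - hbc)
  rcases mul_eq_zero.1 hbc with h0 | h0
  · right
    refine ⟨c, ?_, ?_⟩
    · rintro h3
      apply hM1
      apply ext_ent
      · rw [← hp, hp1]; rfl
      · rw [← hb, h0]; rfl
      · rw [← hcc, h3]; rfl
      · rw [← hdd, ← htr, hp1]; rfl
    · apply ext_ent
      · rw [← hp, hp1]; rfl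
      · rw [← hb, h0]; rfl
      · rfl
      · rw [← hdd, ← htr, hp1]; rfl
  · left
    refine ⟨b, ?_, ?_⟩
    · rintro h3
      apply hM1
      apply ext_ent
      · rw [← hp, hp1]; rfl
      · rw [← hb, h3]; rfl
      · rw [← hcc, h0]; rfl
      · rw [← hdd, ← htr, hp1]; rfl
    · apply ext_ent
      · rw [← hp, hp1]; rfl
      · rfl
      · rw [← hcc, h0]; rfl
      · rw [← hdd, ← htr, hp1]; rfl

theorem exists_sq [Finite k] (x : k) : ∃ y, x = y ^ 2 := by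
  have := Fintype.ofFinite k
  obtain ⟨y, hy⟩ := FiniteField.isSquare_of_char_two (ringChar.eq k 2 ▸ rfl) x
  exact ⟨y, by rw [hy, sq]⟩

/-- `k ⊆ {0, 1, x, x + 1}` -/
theorem card_le_four [Finite k] (h : ∀ x : k, x ≠ 0 → x ≠ 1 → x ^ 2 + x + 1 = 0) : Nat.card k ≤ 4 := by
  classical
  have _ := Fintype.ofFinite k
  have h2 : (2 : k) = 0 := CharP.cast_eq_zero k 2
  by_cases h0 : ∃ x : k, x ≠ 0 ∧ x ≠ 1
  · obtain ⟨x, hx0, hx1⟩ := h0
    have h1 : (Finset.univ : Finset k) ⊆ {0, 1, x, x + 1} := by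
      intro y _
      by_cases hy0 : y = 0
      · simp [hy0]
      by_cases hy1 : y = 1
      · simp [hy1]
      have h3 : (y - x) * (y - (x + 1)) = 0 := by
        linear_combination h y hy0 hy1 - h x hx0 hx1 + (x * (x + 1) - y - x * y) * h2
      rcases mul_eq_zero.1 h3 with h4 | h4
      · simp [sub_eq_zero.1 h4]
      · simp [sub_eq_zero.1 h4]
    have h4 := Finset.card_le_card h1
    rw [Finset.card_univ, ← Nat.card_eq_fintype_card] at h4
    exact h4.trans Finset.card_le_four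
  · push Not at h0
    have h1 : (Finset.univ : Finset k) ⊆ {0, 1} := by
      intro y _
      by_cases hy0 : y = 0
      · simp [hy0]
      · simp [h0 y hy0]
    have h4 := Finset.card_le_card h1
    rw [Finset.card_univ, ← Nat.card_eq_fintype_card] at h4
    exact (h4.trans Finset.card_le_two).trans (by norm_num)

variable {α : Matrix.SpecialLinearGroup (Fin 2) k →* Matrix.SpecialLinearGroup (Fin 2) k}

theorem map_up {c : k} (hα : α (up 1) = up c) (hdg : ∀ (a : k) (ha : a ≠ 0), α (dg a ha) = dg a ha) [Finite k]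
    (x : k) : α (up x) = up (c * x) := by
  obtain ⟨a, rfl⟩ := exists_sq x
  by_cases ha : a = 0
  · rw [ha]
    simp [up_zero]
  have h1 := congrArg α (dg_up a 1 ha)
  rw [map_mul, map_mul, hdg, hα, dg_up] at h1
  have h2 := mul_right_cancel h1
  rw [mul_one] at h2
  rw [← h2, mul_comm]

theorem map_lo {c : k} (hα : α (lo 1) = lo c) (hdg : ∀ (a : k) (ha : a ≠ 0), α (dg a ha) = dg a ha) [Finite k]
    (x : k) : α (lo x) = lo (c * x) := by
  obtain ⟨a, rfl⟩ := exists_sq x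
  by_cases ha : a = 0
  · rw [ha]
    simp [lo_zero]
  have h1 := congrArg α (dg_lo a⁻¹ 1 (inv_ne_zero ha))
  rw [map_mul, map_mul, hdg, hα, dg_lo] at h1
  have h2 := mul_right_cancel h1
  rw [mul_one, inv_inv] at h2
  rw [← h2, mul_comm]

theorem up_sq (x : k) : up x * up x = 1 := by
  have h2 : (2 : k) = 0 := CharP.cast_eq_zero k 2
  rw [up_mul, ← two_mul, h2, zero_mul, up_zero]

theorem lo_sq (x : k) : lo x * lo x = 1 := by
  have h2 : (2 : k) = 0 := CharP.cast_eq_zero k 2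
  rw [lo_mul, ← two_mul, h2, zero_mul, lo_zero]

theorem map_up_comm (hdg : ∀ (a : k) (ha : a ≠ 0), α (dg a ha) = dg a ha) {a : k} (ha : a ≠ 0) :
    α (up 1) * (dg a ha * α (up 1) * (dg a ha)⁻¹) = dg a ha * α (up 1) * (dg a ha)⁻¹ * α (up 1) := by
  have h1 : dg a ha * α (up 1) * (dg a ha)⁻¹ = α (up (a ^ 2)) := by
    have h2 := dg_up a 1 ha
    rw [mul_one] at h2
    rw [mul_inv_eq_iff_eq_mul, ← hdg a ha, ← map_mul, ← map_mul, h2]
  rw [h1, ← map_mul, ← map_mul, up_mul, up_mul, add_comm]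

theorem map_lo_comm (hdg : ∀ (a : k) (ha : a ≠ 0), α (dg a ha) = dg a ha) {a : k} (ha : a ≠ 0) :
    α (lo 1) * (dg a ha * α (lo 1) * (dg a ha)⁻¹) = dg a ha * α (lo 1) * (dg a ha)⁻¹ * α (lo 1) := by
  have h1 : dg a ha * α (lo 1) * (dg a ha)⁻¹ = α (lo (a⁻¹ ^ 2)) := by
    have h2 := dg_lo a 1 ha
    rw [mul_one] at h2
    rw [mul_inv_eq_iff_eq_mul, ← hdg a ha, ← map_mul, ← map_mul, h2]
  rw [h1, ← map_mul, ← map_mul, lo_mul, lo_mul, add_comm]

theorem up_ne_lo {b c : k} (hb : b ≠ 0) : up b ≠ lo c := by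
  intro h
  have := congrArg (fun A => ent A 0 1) h
  exact hb this

/-- `α = 1` -/
theorem aut_eq_one [Finite k] (h4 : 4 < Nat.card k) (hα : Function.Injective α)
    (hdg : ∀ (a : k) (ha : a ≠ 0), α (dg a ha) = dg a ha) {n : ℕ} (hn : ∀ x, α^[2 ^ n] x = x) (x : SLk) : α x = x := by
  have h2 : (2 : k) = 0 := CharP.cast_eq_zero k 2
  obtain ⟨a, ha, ha1⟩ : ∃ a : k, a ≠ 0 ∧ a ≠ 1 := by
    by_contra h
    push Not at h
    have := card_le_four (k := k) fun x hx hx1 => absurd (h x hx) hx1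
    omega
  have hu1 : (up 1 : SLk) ≠ 1 := fun h => one_ne_zero (up_inj (h.trans up_zero.symm))
  have hl1 : (lo 1 : SLk) ≠ 1 := fun h => one_ne_zero (lo_inj (h.trans lo_zero.symm))
  -- `α (up 1) = up c`
  obtain ⟨c, hc, hαc⟩ : ∃ c, c ≠ 0 ∧ α (up 1) = up c := by
    rcases shape (by rw [← map_mul, up_sq, map_one]) (fun h => hu1 (hα (h.trans (map_one α).symm))) ha ha1
      (map_up_comm hdg ha) with h | ⟨c, hc, h⟩
    · exact h
    · exfalso
      have h3 : ∀ x : k, x ≠ 0 → α (up x) = lo (c * x⁻¹) := by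
        intro x hx
        obtain ⟨b, rfl⟩ := exists_sq x
        have hb : b ≠ 0 := fun h => hx (by rw [h]; ring)
        have h1 := congrArg α (dg_up b 1 hb)
        rw [map_mul, map_mul, hdg, h, dg_lo] at h1
        have h2 := mul_right_cancel h1
        rw [mul_one] at h2
        rw [← h2, inv_pow, mul_comm]
      have h5 := card_le_four (k := k) fun x hx hx1 => by
        have hx2 : x + 1 ≠ 0 := fun h => hx1 (by linear_combination h - h2)
        have h6 := congrArg α (up_mul x 1)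
        rw [map_mul, h3 x hx, h3 _ hx2, h, lo_mul] at h6
        have h7 := lo_inj h6
        field_simp at h7
        linear_combination h7
      omega
  obtain ⟨d, hd, hαd⟩ : ∃ d, d ≠ 0 ∧ α (lo 1) = lo d := by
    rcases shape (by rw [← map_mul, lo_sq, map_one]) (fun h => hl1 (hα (h.trans (map_one α).symm))) ha ha1
      (map_lo_comm hdg ha) with ⟨d, hd, h⟩ | h
    · exfalso
      have h3 := map_up hαc hdg (c⁻¹ * d)
      rw [mul_inv_cancel_left₀ hc] at h3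
      have h4 := hα (h3.trans h.symm)
      exact up_ne_lo (mul_ne_zero (inv_ne_zero hc) hd) h4
    · exact h
  have hup := map_up hαc hdg
  have hlo := map_lo hαd hdg
  have hiu : ∀ m x, α^[m] (up x) = up (c ^ m * x) := by
    intro m
    induction m with
    | zero => intro x; simp
    | succ m ih => intro x; rw [Function.iterate_succ_apply, hup, ih, pow_succ, mul_assoc]
  have hil : ∀ m x, α^[m] (lo x) = lo (d ^ m * x) := by
    intro m
    induction m with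
    | zero => intro x; simp
    | succ m ih => intro x; rw [Function.iterate_succ_apply, hlo, ih, pow_succ, mul_assoc]
  have hc1 : c = 1 := by
    have h1 := up_inj ((hiu (2 ^ n) 1).symm.trans (hn _))
    rw [mul_one] at h1
    exact two_pow_eq_one h1
  have hd1 : d = 1 := by
    have h1 := lo_inj ((hil (2 ^ n) 1).symm.trans (hn _))
    rw [mul_one] at h1
    exact two_pow_eq_one h1
  have := hom_ext α (MonoidHom.id _) (fun b => by rw [hup, hc1, one_mul]; rfl)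
    (fun b => by rw [hlo, hd1, one_mul]; rfl)
  rw [this]
  rfl

end

end Cfsg.Agent.Omega.Hex

end

section


/-!
# A 2-subgroup of `N(R)` centralising the torus of `K` lies in `R` (`4 < |k|`)
-/

set_option autoImplicit false
set_option linter.dupNamespace false
set_option linter.unusedSectionVars false

universe u v w

namespace Cfsg.Agent.Omega.Hex

open Subgroup Cfsg.Agent.Omega.BTwo Cfsg.Agent.Omega.SQEnd Cfsg.Agent.Lib.SL2Mat

variable {G : Type u} [Group G] {ι : Type v}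

namespace KIn

variable {V : Subgroup G} {R : ι → Subgroup G} {i j : ι} {k : Type w} [Field k] {K : Subgroup G}
  {φ : K →* Matrix.SpecialLinearGroup (Fin 2) k} (n : KIn V R i j K φ) (b : BT V R)
  [Finite G] [Finite k] [CharP k 2]
include n b

/-- the torus of `K` in `H` -/
theorem exists_c {H : Subgroup G} (nt : NT (PLoc.UZ V R i) (PLoc.B0 V R i K))
    (hH : Cpl (PLoc.UZ V R i) (PLoc.B0 V R i K) H) {a : k} (ha : a ≠ 0) :
    ∃ c : K, (c : G) ∈ H ∧ ent (φ c) 0 0 = a ∧ ent (φ c) 1 0 = 0 ∧ ent (φ c) 1 1 = a⁻¹ := by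
  obtain ⟨g, hg⟩ := n.kd.surj (dg a ha)
  have h0 : ent (φ g) 1 0 = 0 := by rw [hg]; rfl
  have hgB : (g : G) ∈ PLoc.B0 V R i K :=
    (le_sup_right : PLoc.A2 V K ≤ _) (mem_inf.2 ⟨g.2, n.mem_NV_of b h0⟩)
  obtain ⟨u, hu, x, hx, e⟩ := nt.exists_mul hH hgB
  have huK : u ∈ K := n.UZ_le b hu
  have hxK : x ∈ K := by
    have e1 : x = u⁻¹ * g := by rw [e]; group
    rw [e1]
    exact mul_mem (inv_mem huK) g.2
  obtain ⟨s, hs⟩ := (n.mem_UZ b ⟨u, huK⟩).1 hu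
  have e2 : g = ⟨u, huK⟩ * ⟨x, hxK⟩ := Subtype.ext e
  have e3 : φ ⟨x, hxK⟩ = (up s)⁻¹ * dg a ha := by
    rw [← hg, e2, map_mul, hs]; group
  refine ⟨⟨x, hxK⟩, hx, ?_, ?_, ?_⟩
  · rw [e3, up_inv]; simp [ent_mul]
  · rw [e3, up_inv]; simp [ent_mul]
  · rw [e3, up_inv]; simp [ent_mul]

theorem c_comm {H : Subgroup G} (nt : NT (PLoc.UZ V R i) (PLoc.B0 V R i K))
    (hH : Cpl (PLoc.UZ V R i) (PLoc.B0 V R i K) H) {c c' : K} (hc : (c : G) ∈ H) (hc' : (c' : G) ∈ H)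
    (h : ent (φ c) 1 0 = 0) (h' : ent (φ c') 1 0 = 0) : c * c' = c' * c := by
  have h1 : φ (c * c' * c⁻¹ * c'⁻¹) ∈ upG k := by
    have hd := det_eq (φ c)
    have hd' := det_eq (φ c')
    rw [h, mul_zero, sub_zero] at hd
    rw [h', mul_zero, sub_zero] at hd'
    rw [map_mul, map_mul, map_mul, map_inv, map_inv, mem_upG, ent_inv, ent_inv]
    simp only [ent_mul, mk_00, mk_01, mk_10, mk_11, h, h']
    constructor
    · linear_combination hd * ent (φ c') 0 0 * ent (φ c') 1 1 + hd'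
    · ring
  have h2 : ((c * c' * c⁻¹ * c'⁻¹ : K) : G) ∈ PLoc.UZ V R i := (n.mem_UZ b _).2 h1
  have h3 : ((c * c' * c⁻¹ * c'⁻¹ : K) : G) ∈ H := mul_mem (mul_mem (mul_mem hc hc') (inv_mem hc)) (inv_mem hc')
  have h4 := inf_eq_bot_of_odd nt.two (nt.odd_cpl hH)
  have h5 : ((c * c' * c⁻¹ * c'⁻¹ : K) : G) ∈ PLoc.UZ V R i ⊓ H := mem_inf.2 ⟨h2, h3⟩
  rw [h4, mem_bot] at h5
  have h6 : c * c' * c⁻¹ * c'⁻¹ = 1 := Subtype.ext h5
  rw [mul_inv_eq_one, mul_inv_eq_iff_eq_mul] at h6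
  exact h6

theorem exists_conj {H : Subgroup G} (nt : NT (PLoc.UZ V R i) (PLoc.B0 V R i K))
    (hH : Cpl (PLoc.UZ V R i) (PLoc.B0 V R i K) H) (h4 : ∃ a : k, a ≠ 0 ∧ a ≠ 1) :
    ∃ β : k, ∀ (a : k) (ha : a ≠ 0), ∃ c : K, (c : G) ∈ H ∧ up β * φ c * (up β)⁻¹ = dg a ha := by
  obtain ⟨a₀, ha₀, ha1⟩ := h4
  obtain ⟨c₀, hc₀, h00, h10, h11⟩ := n.exists_c b nt hH ha₀
  have hne := inv_ne_self ha₀ ha1
  refine ⟨ent (φ c₀) 0 1 / (a₀ - a₀⁻¹), fun a ha => ?_⟩
  obtain ⟨c, hc, g00, g10, g11⟩ := n.exists_c b nt hH ha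
  refine ⟨c, hc, ?_⟩
  have h1 := n.c_comm b nt hH hc hc₀ g10 h10
  have h2 := congrArg (fun A => ent (φ A) 0 1) h1
  simp only [map_mul, ent_mul, h00, h10, h11, g00, g10, g11] at h2
  set x₀ := ent (φ c₀) 0 1 with hx₀
  set x := ent (φ c) 0 1 with hx
  set β := x₀ / (a₀ - a₀⁻¹) with hβ
  have h3 : β * (a₀ - a₀⁻¹) = x₀ := by rw [hβ, div_mul_cancel₀ _ hne]
  rw [mul_inv_eq_iff_eq_mul]
  apply ext_ent <;> simp only [ent_mul, dg_00, dg_01, dg_10, dg_11, up_00, up_01, up_10, up_11, g00, g10, g11]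
  · ring
  · rw [← hx]
    have h4 : (x + β * a⁻¹ - a * β) * (a₀ - a₀⁻¹) = 0 := by
      linear_combination (a⁻¹ - a) * h3 - h2
    have h5 := (mul_eq_zero.1 h4).resolve_right hne
    linear_combination h5
  · ring
  · ring

/-- conjugation by `t` on `K / W` -/
theorem exists_alpha {t : G} (ht : t ∈ normalizer (R i : Set G)) (β : k) :
    ∃ α : Matrix.SpecialLinearGroup (Fin 2) k →* Matrix.SpecialLinearGroup (Fin 2) k,
      ∀ (g : G) (hg : g ∈ K) (h : t * g * t⁻¹ ∈ K),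
        α (up β * φ ⟨g, hg⟩ * (up β)⁻¹) = up β * φ ⟨t * g * t⁻¹, h⟩ * (up β)⁻¹ := by
  have htK := n.kd.NK ht
  have htW := normalizer_le_WW V (R i) ht
  set ψ : K →* Matrix.SpecialLinearGroup (Fin 2) k := (MulAut.conj (up β)).toMonoidHom.comp φ with hψ
  have hψs : Function.Surjective ψ := (MulAut.conj (up β)).surjective.comp n.kd.surj
  set c : K →* K :=
    { toFun := fun g => ⟨t * g * t⁻¹, conj_mem_of_normalizer htK g.2⟩
      map_one' := Subtype.ext (by simp)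
      map_mul' := fun x y => Subtype.ext (by simp) } with hc
  have hker : ψ.ker ≤ (ψ.comp c).ker := by
    intro g hg
    rw [MonoidHom.mem_ker] at hg ⊢
    have h1 : φ g = 1 := by
      have h2 : up β * φ g * (up β)⁻¹ = 1 := hg
      rw [mul_inv_eq_one] at h2
      exact mul_eq_left.1 h2
    have h2 : φ (c g) = 1 := by
      rw [n.kd.ker] at h1 ⊢
      exact conj_mem_of_normalizer htW h1
    show up β * φ (c g) * (up β)⁻¹ = 1
    rw [h2]; group
  refine ⟨ψ.liftOfSurjective hψs ⟨ψ.comp c, hker⟩, fun g hg h => ?_⟩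
  exact MonoidHom.liftOfRightInverse_comp_apply _ _ _ ⟨ψ.comp c, hker⟩ ⟨g, hg⟩

/-- a 2-element of `N(R)` centralising the torus of `K` centralises `K` modulo `W` -/
theorem cen_of_torus (h4 : 4 < Nat.card k) {H : Subgroup G} (nt : NT (PLoc.UZ V R i) (PLoc.B0 V R i K))
    (hH : Cpl (PLoc.UZ V R i) (PLoc.B0 V R i K) H) {t : G} (ht : t ∈ normalizer (R i : Set G))
    (ht2 : ∃ n : ℕ, t ^ 2 ^ n = 1) (hc : ∀ c ∈ H, c ∈ K → t * c = c * t) {g : G} (hg : g ∈ K) :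
    t * g * t⁻¹ * g⁻¹ ∈ WW V (R i) := by
  obtain ⟨a, ha, ha1⟩ := exists_ne_one h4.le
  obtain ⟨β, hβ⟩ := n.exists_conj b nt hH ⟨a, ha, ha1⟩
  obtain ⟨α, hα⟩ := n.exists_alpha b ht β
  have htK := n.kd.NK ht
  have hcK : ∀ x ∈ K, t * x * t⁻¹ ∈ K := fun x hx => conj_mem_of_normalizer htK hx
  -- `α` is onto
  have hsurj : Function.Surjective α := by
    intro x
    obtain ⟨y, hy⟩ := n.kd.surj ((up β)⁻¹ * x * up β)
    have h1 : t⁻¹ * y * t ∈ K := conj_inv_mem_of_normalizer htK y.2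
    have h2 := hα _ h1 (hcK _ h1)
    have e : (⟨t * (t⁻¹ * y * t) * t⁻¹, hcK _ h1⟩ : K) = y := Subtype.ext (by group)
    rw [e, hy] at h2
    exact ⟨_, h2.trans (by group)⟩
  have hinj : Function.Injective α := Finite.injective_iff_surjective.2 hsurj
  have hdg : ∀ (a : k) (ha : a ≠ 0), α (dg a ha) = dg a ha := by
    intro a ha
    obtain ⟨c, hcH, e⟩ := hβ a ha
    have h1 := hα c c.2 (hcK _ c.2)
    have e1 : (⟨t * c * t⁻¹, hcK _ c.2⟩ : K) = c := Subtype.ext (by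
      show t * c * t⁻¹ = c
      rw [hc c hcH c.2, mul_inv_cancel_right])
    rw [e1] at h1
    rwa [show (⟨(c : G), c.2⟩ : K) = c from rfl, e] at h1
  obtain ⟨m, hm⟩ := ht2
  have hit : ∀ l : ℕ, ∀ (x : G) (hx : x ∈ K) (h : t ^ l * x * (t ^ l)⁻¹ ∈ K),
      α^[l] (up β * φ ⟨x, hx⟩ * (up β)⁻¹) = up β * φ ⟨t ^ l * x * (t ^ l)⁻¹, h⟩ * (up β)⁻¹ := by
    intro l
    induction l with
    | zero =>
      intro x hx h
      rw [Function.iterate_zero, id]
      congr 3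
      exact Subtype.ext (by group)
    | succ l ih =>
      intro x hx h
      have h' : t ^ l * (t * x * t⁻¹) * (t ^ l)⁻¹ ∈ K := by
        have e : t ^ (l + 1) * x * (t ^ (l + 1))⁻¹ = t ^ l * (t * x * t⁻¹) * (t ^ l)⁻¹ := by
          rw [pow_succ]; group
        rwa [e] at h
      rw [Function.iterate_succ_apply, hα x hx (hcK x hx), ih _ (hcK x hx) h']
      congr 3
      refine Subtype.ext ?_
      show t ^ l * (t * x * t⁻¹) * (t ^ l)⁻¹ = t ^ (l + 1) * x * (t ^ (l + 1))⁻¹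
      rw [pow_succ]; group
  have hid := aut_eq_one h4 hinj hdg (n := m) fun x => by
    obtain ⟨y, hy⟩ := n.kd.surj ((up β)⁻¹ * x * up β)
    have e1 : t ^ 2 ^ m * (y : G) * (t ^ 2 ^ m)⁻¹ = y := by rw [hm]; group
    have h1 := hit (2 ^ m) y y.2 (by rw [e1]; exact y.2)
    have e2 : (⟨t ^ 2 ^ m * (y : G) * (t ^ 2 ^ m)⁻¹, by rw [e1]; exact y.2⟩ : K) = y := Subtype.ext e1
    rw [e2, show (⟨(y : G), y.2⟩ : K) = y from rfl, hy] at h1
    have e3 : up β * ((up β)⁻¹ * x * up β) * (up β)⁻¹ = x := by group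
    rwa [e3] at h1
  have h1 := hα g hg (hcK g hg)
  rw [hid] at h1
  have h2 : φ ⟨t * g * t⁻¹, hcK g hg⟩ = φ ⟨g, hg⟩ := by
    have := mul_right_cancel h1
    exact (mul_left_cancel this).symm
  have h3 : φ (⟨t * g * t⁻¹, hcK g hg⟩ * (⟨g, hg⟩ : K)⁻¹) = 1 := by
    rw [map_mul, map_inv, h2, mul_inv_cancel]
  exact (n.kd.ker _).1 h3

/-- **`C_T(C_H(R)) ≤ R`** -/
theorem tor (h4 : 4 < Nat.card k) {H : Subgroup G} (nt : NT (PLoc.UZ V R i) (PLoc.B0 V R i K))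
    (hH : Cpl (PLoc.UZ V R i) (PLoc.B0 V R i K) H)
    (e6 : ∀ t ∈ normalizer (R i : Set G), (∃ n : ℕ, t ^ 2 ^ n = 1) →
      (∀ g ∈ K, t * g * t⁻¹ * g⁻¹ ∈ WW V (R i)) → t ∈ WW V (R i))
    (e7 : ∀ m ∈ WW V (R i), (∀ c ∈ H, c ∈ K → c * m = m * c) → m ∈ R i)
    (T : Subgroup G) (hT : IsPGroup 2 T) (hTN : T ≤ normalizer (R i : Set G))
    (hc : ∀ h ∈ H, (∀ v ∈ R i, h * v = v * h) → ∀ t ∈ T, t * h = h * t) : T ≤ R i := by
  intro t ht
  have hcK : ∀ c ∈ H, c ∈ K → t * c = c * t := fun c hcH hcK => hc c hcH (n.kd.KR c hcK) t ht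
  have ht2 : ∃ n : ℕ, t ^ 2 ^ n = 1 := by
    obtain ⟨m, hm⟩ := hT ⟨t, ht⟩
    exact ⟨m, congrArg Subtype.val hm⟩
  have h1 : t ∈ WW V (R i) := e6 t (hTN ht) ht2 fun g hg => n.cen_of_torus b h4 nt hH (hTN ht) ht2 hcK hg
  exact e7 t h1 fun c hcH hcK' => (hcK c hcH hcK').symm

end KIn

end Cfsg.Agent.Omega.Hex

end

end

-- merged: Cfsg.Agent.Mrg.Omega.SQEnd.KTor
section

/-!
# From `KD` to `Cfg`, part 2: the torus `L`

`L` is a complement of `Y` in `(K ∩ N(V) ∩ N(R j)) (X ∩ N(R i) ∩ N(R j))`.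
-/

set_option autoImplicit false
set_option linter.unusedSectionVars false

universe u v w z

namespace Cfsg.Agent.Omega.SQEnd

open Subgroup Cfsg.Agent.Omega.BTwo Cfsg.Agent.Lib.SL2Mat Cfsg.Agent.Omega.Hex

section gen

variable {G : Type u} [Group G]

theorem odd_relIndex_of_pow [Finite G] {U B : Subgroup G} (hB : B ≤ normalizer (U : Set G)) {n : ℕ} (hn : Odd n)
    (h : ∀ x ∈ B, x ^ n ∈ U) : Odd (U.relIndex B) := by
  have hN : (U.subgroupOf B).Normal :=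
    ⟨fun x hx g => conj_mem_of_normalizer (g := (g : G)) (x := (x : G)) (hB g.2) hx⟩
  rw [← Nat.not_even_iff_odd]
  intro he
  have h2 : 2 ∣ Nat.card (B ⧸ U.subgroupOf B) := even_iff_two_dvd.1 he
  have : Fact (Nat.Prime 2) := ⟨Nat.prime_two⟩
  obtain ⟨x, hx⟩ := exists_prime_orderOf_dvd_card' 2 h2
  have h3 : x ^ n = 1 := by
    obtain ⟨y, rfl⟩ := QuotientGroup.mk_surjective x
    rw [← QuotientGroup.mk_pow, QuotientGroup.eq_one_iff, mem_subgroupOf]
    exact h y y.2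
  have h4 := orderOf_dvd_of_pow_eq_one h3
  rw [hx] at h4
  exact (Nat.not_even_iff_odd.2 hn) (even_iff_two_dvd.2 h4)

theorem odd_units (k : Type*) [Field k] [Finite k] [CharP k 2] : Odd (Nat.card kˣ) := by
  classical
  have _ := Fintype.ofFinite k
  rw [Nat.card_units, Nat.card_eq_fintype_card]
  have h1 : Fintype.card k % 2 = 0 := FiniteField.even_card_of_char_two (ringChar.eq k 2)
  have h2 : 0 < Fintype.card k := Fintype.card_pos
  rw [← Nat.not_even_iff_odd, Nat.even_iff]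
  omega

theorem exists_sqrt {k : Type*} [Field k] [Finite k] [CharP k 2] (m : k) : ∃ r, r ^ 2 = m := by
  have _ := Fintype.ofFinite k
  obtain ⟨r, hr⟩ := FiniteField.isSquare_of_char_two (ringChar.eq k 2) m
  exact ⟨r, by rw [hr]; ring⟩

theorem pow_card_units {k : Type*} [Field k] [Finite k] {a : k} (ha : a ≠ 0) : a ^ Nat.card kˣ = 1 := by
  have h1 : (Units.mk0 a ha) ^ Nat.card kˣ = 1 := pow_card_eq_one'
  have h2 := congrArg Units.val h1
  rw [Units.val_pow_eq_pow_val, Units.val_mk0, Units.val_one] at h2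
  exact h2

end gen

section

variable {G : Type u} [Group G] {ι : Type v} {V : Subgroup G} {R : ι → Subgroup G} {i j : ι} {k : Type w} [Field k]
  {K : Subgroup G} {φ : K →* Matrix.SpecialLinearGroup (Fin 2) k} {F : Type z} [Field F] {v : F → F → G}
  {w1 w2 : F → G}

/-- `K ∩ N(V) ∩ N(R j)` -/
def KT (V : Subgroup G) (R : ι → Subgroup G) (j : ι) (K : Subgroup G) : Subgroup G :=
  K ⊓ (normalizer (V : Set G) ⊓ normalizer (R j : Set G))

/-- `X ∩ N(R i) ∩ N(R j)` -/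
def XT (V : Subgroup G) (R : ι → Subgroup G) (i j : ι) : Subgroup G :=
  XX V R ⊓ (normalizer (R i : Set G) ⊓ normalizer (R j : Set G))

theorem Y_two (b : BT V R) : IsPGroup 2 (YY V R) := by
  rintro ⟨y, hy⟩
  refine ⟨2, Subtype.ext ?_⟩
  change y ^ 4 = 1
  have h1 := b.D_sq (b.Y_sq hy)
  have e : y ^ 4 = y * y * (y * y) := by simp only [pow_succ, pow_zero, one_mul, mul_assoc]
  rw [e, h1]

/-- the torus of `X` modulo `Y` -/
theorem XT_pow [Finite G] [Finite F] [CharP F 2] (b : BTC V R) (c : Coord V R i j v w1 w2) {t : G}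
    (ht : t ∈ XT V R i j) : t ^ Nat.card Fˣ ∈ YY V R := by
  obtain ⟨M, _, _, p1, p2, y⟩ := c.exists_yMod b.toBT
  obtain ⟨P1, P2, y', -⟩ := YMod.exists_yPair b.toBT c y
  rw [← y'.cen_X_V c b]
  obtain ⟨a, ha, h, -⟩ := Tor.exists_tor y b.toBT c ht.1 ht.2.1 ht.2.2
  refine mem_inf.2 ⟨pow_mem ht.1 _, mem_centralizer_iff.2 fun x hx => ?_⟩
  obtain ⟨d, e, rfl⟩ := (c.mem_V x).1 hx
  have h1 : ∀ n : ℕ, t ^ n * v d e * (t ^ n)⁻¹ = v (a ^ n * d) ((a ^ n)⁻¹ * e) := by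
    intro n
    induction n with
    | zero => simp
    | succ n ih =>
      have e1 : t ^ (n + 1) * v d e * (t ^ (n + 1))⁻¹ = t * (t ^ n * v d e * (t ^ n)⁻¹) * t⁻¹ := by
        rw [pow_succ']; group
      rw [e1, ih, h, pow_succ']
      congr 1
      · ring
      · rw [mul_inv]; ring
  have h2 := h1 (Nat.card Fˣ)
  rw [pow_card_units ha, inv_one, one_mul, one_mul] at h2
  exact (mul_inv_eq_iff_eq_mul.1 h2).symm

theorem KT_pow [Finite G] (b : BTC V R) (kd : KD V R i j K φ) {g : G} (hg : g ∈ KT V R j K) :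
    g ^ Nat.card kˣ ∈ YY V R := by
  have := kd.finite
  have hgK := hg.1
  have h1 := kd.ent_of_mem b ⟨g, hgK⟩ (kd.S_normal b (kd.K_le_N hgK) hg.2.1)
  have h2 := ent_pow h1 (Nat.card kˣ)
  have hd := det_eq (φ ⟨g, hgK⟩)
  rw [h1, mul_zero, sub_zero] at hd
  have h0 : ent (φ ⟨g, hgK⟩) 0 0 ≠ 0 := left_ne_zero_of_mul_eq_one hd
  rw [pow_card_units h0] at h2
  have h3 := eq_up_of_ent h2.1 h2.2
  rw [← map_pow] at h3
  exact kd.mem_Y b ((kd.mem_iff _).2 ⟨_, h3⟩) (pow_mem hg.2.2 _)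

theorem Y_le_KT (b : BTC V R) (kd : KD V R i j K φ) : YY V R ≤ KT V R j K :=
  le_inf (kd.Y_le_K b) (le_inf Y_le_NV (YY_le_cen.trans (b.cen_le_N j)))

theorem Y_le_XT (b : BTC V R) : YY V R ≤ XT V R i j :=
  le_inf YY_le_XX (le_inf (YY_le_cen.trans (b.cen_le_N i)) (YY_le_cen.trans (b.cen_le_N j)))

theorem XT_NKT (b : BTC V R) (kd : KD V R i j K φ) : XT V R i j ≤ normalizer (KT V R j K : Set G) := by
  intro t ht
  rw [← cj_eq_self_iff, KT, cj_inf, cj_inf, cj_eq_self_iff.2 (kd.NK ht.2.1),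
    cj_of_mem (b.X_le_NV ht.1), cj_of_mem ht.2.2]

/-- the group containing the torus -/
theorem nt [Finite G] [Finite F] [CharP F 2] (b : BTC V R) (c : Coord V R i j v w1 w2) (kd : KD V R i j K φ) :
    NT (YY V R) (KT V R j K ⊔ XT V R i j) := by
  have := kd.finite
  have := kd.charP b
  have h1 : KT V R j K ≤ normalizer (V : Set G) := inf_le_right.trans inf_le_left
  have h2 : XT V R i j ≤ normalizer (V : Set G) := inf_le_left.trans b.X_le_NV
  refine ⟨(Y_le_KT b kd).trans le_sup_left, (sup_le h1 h2).trans b.NV_le_NY, Y_two b.toBT, ?_⟩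
  exact odd_relIndex_sup (XT_NKT b kd) (Y_le_KT b kd)
    (odd_relIndex_of_pow (h1.trans b.NV_le_NY) (odd_units k) fun x hx => KT_pow b kd hx)
    (odd_relIndex_of_pow (h2.trans b.NV_le_NY) (odd_units F) fun x hx => XT_pow b c hx)

/-- the properties of the torus `L` -/
structure LD (V : Subgroup G) (R : ι → Subgroup G) (i j : ι) (K L : Subgroup G) : Prop where
  NV : L ≤ normalizer (V : Set G)
  Ni : L ≤ normalizer (R i : Set G)
  Nj : L ≤ normalizer (R j : Set G)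
  odd : Odd (Nat.card L)
  K_mul : ∀ g ∈ KT V R j K, ∃ y ∈ YY V R, ∃ c ∈ L, c ∈ K ∧ g = y * c
  X_mul : ∀ g ∈ XT V R i j, ∃ y ∈ YY V R, ∃ t ∈ L, t ∈ XX V R ∧ g = y * t
  CT : ∀ l ∈ L, ∃ c ∈ L, c ∈ K ∧ ∃ t ∈ L, t ∈ XX V R ∧ l = c * t

theorem exists_LD [Finite G] [Finite F] [CharP F 2] (b : BTC V R) (c : Coord V R i j v w1 w2)
    (kd : KD V R i j K φ) : ∃ L, LD V R i j K L ∧ Cpl (YY V R) (KT V R j K ⊔ XT V R i j) L := by
  have n := nt b c kd
  obtain ⟨L, hL⟩ := n.exists_cpl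
  have hKN : KT V R j K ≤ normalizer (R i : Set G) := inf_le_left.trans kd.K_le_N
  have hodd := n.odd_cpl hL
  have hK : ∀ g ∈ KT V R j K, ∃ y ∈ YY V R, ∃ c ∈ L, c ∈ K ∧ g = y * c := by
    intro g hg
    obtain ⟨y, hy, c, hc, e⟩ := n.exists_mul hL ((le_sup_left : KT V R j K ≤ _) hg)
    refine ⟨y, hy, c, hc, ?_, e⟩
    have e1 : c = y⁻¹ * g := by rw [e]; group
    rw [e1]
    exact mul_mem (inv_mem (kd.Y_le_K b hy)) hg.1
  have hX : ∀ g ∈ XT V R i j, ∃ y ∈ YY V R, ∃ t ∈ L, t ∈ XX V R ∧ g = y * t := by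
    intro g hg
    obtain ⟨y, hy, c, hc, e⟩ := n.exists_mul hL ((le_sup_right : XT V R i j ≤ _) hg)
    refine ⟨y, hy, c, hc, ?_, e⟩
    have e1 : c = y⁻¹ * g := by rw [e]; group
    rw [e1]
    exact mul_mem (inv_mem (YY_le_XX hy)) hg.1
  refine ⟨L, ⟨hL.HB.trans (sup_le (inf_le_right.trans inf_le_left) (inf_le_left.trans b.X_le_NV)),
    hL.HB.trans (sup_le hKN (inf_le_right.trans inf_le_left)),
    hL.HB.trans (sup_le (inf_le_right.trans inf_le_right) (inf_le_right.trans inf_le_right)), hodd, hK, hX, ?_⟩, hL⟩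
  intro l hl
  obtain ⟨g, hg, x, hx, e⟩ := exists_mul_of_le (XT_NKT b kd) (hL.HB hl)
  obtain ⟨y, hy, c, hc, hcK, e1⟩ := hK g hg
  obtain ⟨y', hy', t, ht, htX, e2⟩ := hX x hx
  refine ⟨c, hc, hcK, t, ht, htX, ?_⟩
  have h1 : l * (c * t)⁻¹ ∈ YY V R := by
    rw [e, e1, e2]
    have e3 : y * c * (y' * t) * (c * t)⁻¹ = y * (c * y' * c⁻¹) := by group
    rw [e3]
    refine mul_mem hy (conj_mem_of_normalizer (b.NV_le_NY ?_) hy')
    exact (hL.HB.trans (sup_le (inf_le_right.trans inf_le_left) (inf_le_left.trans b.X_le_NV))) hc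
  have h2 : l * (c * t)⁻¹ ∈ YY V R ⊓ L := mem_inf.2 ⟨h1, mul_mem hl (inv_mem (mul_mem hc ht))⟩
  rw [inf_eq_bot_of_odd (Y_two b.toBT) hodd, mem_bot, mul_inv_eq_one] at h2
  exact h2

end

section pk

variable {G : Type u} [Group G] {ι : Type v} {V : Subgroup G} {R : ι → Subgroup G} {i j : ι} {k : Type w} [Field k]
  {K : Subgroup G}

open Classical in
/-- the coordinate of `W U j / W` -/
noncomputable def pk (φ : K →* Matrix.SpecialLinearGroup (Fin 2) k) (a : G) : k :=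
  if h : a ∈ K then ent (φ ⟨a, h⟩) 0 1 else 0

variable {φ : K →* Matrix.SpecialLinearGroup (Fin 2) k} (kd : KD V R i j K φ)
include kd

theorem pk_eq {a : G} (ha : a ∈ WW V (R i) ⊔ UU V R j) : φ ⟨a, kd.S_le ha⟩ = up (pk φ a) := by
  obtain ⟨x, hx⟩ := kd.exists_up ⟨a, kd.S_le ha⟩ ha
  rw [pk, dif_pos (kd.S_le ha), hx, up_01]

theorem pk_of {a : G} (ha : a ∈ K) {x : k} (h : φ ⟨a, ha⟩ = up x) : pk φ a = x := by
  have _ := kd
  rw [pk, dif_pos ha, h, up_01]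

theorem pk_mul {a a' : G} (ha : a ∈ WW V (R i) ⊔ UU V R j) (ha' : a' ∈ WW V (R i) ⊔ UU V R j) :
    pk φ (a * a') = pk φ a + pk φ a' := by
  apply pk_of kd (mul_mem (kd.S_le ha) (kd.S_le ha'))
  rw [← up_mul, ← pk_eq kd ha, ← pk_eq kd ha', ← map_mul]
  rfl

theorem pk_inv {a : G} (ha : a ∈ WW V (R i) ⊔ UU V R j) : pk φ a⁻¹ = -pk φ a := by
  apply pk_of kd (inv_mem (kd.S_le ha))
  rw [← up_inv, ← pk_eq kd ha, ← map_inv]
  rfl

theorem pk_eq_zero {a : G} (ha : a ∈ WW V (R i) ⊔ UU V R j) : pk φ a = 0 ↔ a ∈ WW V (R i) := by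
  have h1 := kd.ker ⟨a, kd.S_le ha⟩
  rw [pk_eq kd ha] at h1
  rw [← h1]
  constructor
  · intro h; rw [h, up_zero]
  · intro h; exact up_inj (h.trans up_zero.symm)

/-- conjugation by elements of `K ∩ N(V)` -/
theorem pk_conj {g : G} (hg : g ∈ K) (h : ent (φ ⟨g, hg⟩) 1 0 = 0) {a : G} (ha : a ∈ WW V (R i) ⊔ UU V R j) :
    pk φ (g * a * g⁻¹) = ent (φ ⟨g, hg⟩) 0 0 ^ 2 * pk φ a := by
  apply pk_of kd (mul_mem (mul_mem hg (kd.S_le ha)) (inv_mem hg))
  rw [← conj_up h, ← pk_eq kd ha, ← map_inv, ← map_mul, ← map_mul]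
  rfl

theorem S_conj {g : G} (hg : g ∈ K) (h : ent (φ ⟨g, hg⟩) 1 0 = 0) {a : G} (ha : a ∈ WW V (R i) ⊔ UU V R j) :
    g * a * g⁻¹ ∈ WW V (R i) ⊔ UU V R j := by
  have h1 : φ (⟨g, hg⟩ * ⟨a, kd.S_le ha⟩ * (⟨g, hg⟩ : K)⁻¹) = up (ent (φ ⟨g, hg⟩) 0 0 ^ 2 * pk φ a) := by
    rw [← conj_up h, ← pk_eq kd ha, ← map_inv, ← map_mul, ← map_mul]
  exact (kd.mem_iff _).2 ⟨_, h1⟩

variable (b : BTC V R)
include b

theorem pk_surj (x : k) : ∃ a ∈ UU V R j, pk φ a = x := by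
  obtain ⟨a, ha, h⟩ := kd.exists_U ((UU_le_cen j).trans (b.cen_le_NW i)) x
  exact ⟨a, ha, pk_of kd (kd.UK ha) (h _)⟩

/-- `A ∩ W = D` -/
theorem mem_D_iff {a : G} (ha : a ∈ UU V R j) : a ∈ WW V (R i) ↔ a ∈ DD V R := by
  rw [b.D_eq' kd.ne, mem_inf]
  exact ⟨fun h => ⟨h, UU_le_WW j ha⟩, fun h => h.1⟩

theorem pk_eq_iff {a a' : G} (ha : a ∈ UU V R j) (ha' : a' ∈ UU V R j) :
    pk φ a = pk φ a' ↔ a'⁻¹ * a ∈ DD V R := by
  have h1 : a'⁻¹ * a ∈ WW V (R i) ⊔ UU V R j := mul_mem (inv_mem (le_sup_right (a := WW V (R i)) ha'))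
    (le_sup_right (a := WW V (R i)) ha)
  rw [← mem_D_iff kd b (mul_mem (inv_mem ha') ha), ← pk_eq_zero kd h1,
    pk_mul kd (inv_mem (le_sup_right (a := WW V (R i)) ha')) (le_sup_right (a := WW V (R i)) ha),
    pk_inv kd (le_sup_right (a := WW V (R i)) ha'), neg_add_eq_zero]
  exact eq_comm

end pk

section scalars

variable {G : Type u} [Group G] [Finite G] {ι : Type v} {V : Subgroup G} {R : ι → Subgroup G} {i j : ι} {k : Type w}
  [Field k] {K : Subgroup G} {φ : K →* Matrix.SpecialLinearGroup (Fin 2) k} {F : Type z} [Field F] [Finite F]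
  [CharP F 2] {v : F → F → G} {w1 w2 : F → G} (b : BTC V R) (c : Coord V R i j v w1 w2) (kd : KD V R i j K φ)
include b c kd

/-- every scalar is induced by `K ∩ N(V) ∩ N(R j)` -/
theorem exists_ent
    (NAe : ∀ g ∈ normalizer (R i : Set G), cj g (WW V (R i) ⊔ UU V R j) = WW V (R i) ⊔ UU V R j → cj g V = V)
    {l : k} (hl : l ≠ 0) : ∃ g ∈ KT V R j K, ∀ hg : g ∈ K, ent (φ ⟨g, hg⟩) 1 0 = 0 ∧ ent (φ ⟨g, hg⟩) 0 0 = l := by
  obtain ⟨g, hg⟩ := kd.surj (dg l hl)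
  have hgV : (g : G) ∈ normalizer (V : Set G) := by
    rw [kd.mem_NV_iff b NAe, hg, dg_10]
  obtain ⟨j', hj'⟩ := b.perm g hgV j
  have hgi : cj (g : G) (R i) = R i := cj_eq_self_iff.2 (kd.K_le_N g.2)
  have hne : j' ≠ i := by
    rintro rfl
    exact kd.ne (b.R_index (cj_injective (hgi.trans hj'.symm)))
  obtain ⟨m, hm, e⟩ := b.trans i hne kd.ne.symm
  have hmK := kd.WK hm
  have h1 : φ ⟨m, hmK⟩ = 1 := (kd.ker _).2 hm
  refine ⟨m * g, mem_inf.2 ⟨mul_mem hmK g.2, mem_inf.2 ⟨mul_mem (b.W_le_NV i hm) hgV, ?_⟩⟩, fun hK => ?_⟩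
  · rw [← cj_eq_self_iff, cj_mul, hj', e]
  · have h2 : φ ⟨m * g, hK⟩ = dg l hl := by
      have e1 : (⟨m * g, hK⟩ : K) = ⟨m, hmK⟩ * g := rfl
      rw [e1, map_mul, h1, one_mul, hg]
    rw [h2, dg_10, dg_00]
    exact ⟨rfl, rfl⟩

/-- `T` acts on `A / D` by scalars of `k` -/
theorem exists_scal
    (NAe : ∀ g ∈ normalizer (R i : Set G), cj g (WW V (R i) ⊔ UU V R j) = WW V (R i) ⊔ UU V R j → cj g V = V)
    {t : G} (ht : t ∈ XT V R i j) : ∃ κ : k, κ ≠ 0 ∧ ∀ a ∈ UU V R j, pk φ (t * a * t⁻¹) = κ * pk φ a := by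
  classical
  have := kd.finite
  have := kd.charP b
  obtain ⟨M, _, _, p1, p2, y⟩ := c.exists_yMod b.toBT
  have hconj : ∀ {g : G}, g ∈ XT V R i j → ∀ a ∈ UU V R j, g * a * g⁻¹ ∈ UU V R j := by
    intro g hg a ha
    have h1 := conj_mem_cj (g := g) ha
    rwa [b.cj_UU (b.X_le_NV hg.1) (cj_eq_self_iff.2 hg.2.2)] at h1
  have key : ∀ s : F, s ≠ 0 → ∃ g ∈ XT V R i j, ∀ a ∈ UU V R j, p2 (g * a * g⁻¹) = s • p2 a := by
    intro s hs
    have hs' := inv_ne_zero hs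
    have hX := c.hh_mem_X b.toBT s⁻¹
    have h1 := cj_eq_self_iff.1 (c.hh_R1 b.toBT hs')
    have h2 := cj_eq_self_iff.1 (c.hh_R2 b.toBT hs')
    refine ⟨hh w1 w2 s⁻¹, ⟨hX, h1, h2⟩, ?_⟩
    obtain ⟨e, he, hV, -, h4⟩ := Tor.exists_tor y b.toBT c hX h1 h2
    have h5 := (c.v_inj ((hV 1 0).symm.trans (c.hh_act hs' 1 0))).1
    rw [mul_one, mul_one] at h5
    intro a ha
    rw [(h4 a ha).2, h5, inv_inv]
  choose! τ hτ hτ2 using key
  choose u hu hu2 using pk_surj kd b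
  have hpk : ∀ {a a' : G}, a ∈ UU V R j → a' ∈ UU V R j → p2 a = p2 a' → pk φ a = pk φ a' := by
    intro a a' ha ha' h
    rw [pk_eq_iff kd b ha ha', ← y.p2_eq_iff ha ha']
    exact h
  have hpk' : ∀ {a a' : G}, a ∈ UU V R j → a' ∈ UU V R j → pk φ a = pk φ a' → p2 a = p2 a' := by
    intro a a' ha ha' h
    rw [y.p2_eq_iff ha ha', ← pk_eq_iff kd b ha ha']
    exact h
  have hS : UU V R j ≤ WW V (R i) ⊔ UU V R j := le_sup_right
  let f : F → k → k := fun s x => if s = 0 then 0 else pk φ (τ s * u x * (τ s)⁻¹)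
  have hf : ∀ s, s ≠ 0 → ∀ a ∈ UU V R j, f s (pk φ a) = pk φ (τ s * a * (τ s)⁻¹) := by
    intro s hs a ha
    have h1 : f s (pk φ a) = pk φ (τ s * u (pk φ a) * (τ s)⁻¹) := if_neg hs
    rw [h1]
    refine hpk (hconj (hτ s hs) _ (hu _)) (hconj (hτ s hs) _ ha) ?_
    rw [hτ2 s hs _ (hu _), hτ2 s hs _ ha, hpk' (hu _) ha (hu2 _)]
  have h0 : ∀ s, f s 0 = 0 := by
    intro s
    by_cases hs : s = 0
    · exact if_pos hs
    · have h1 := hf s hs 1 (one_mem _)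
      rw [(pk_eq_zero kd (hS (one_mem _))).2 (one_mem _)] at h1
      rw [h1, mul_one, mul_inv_cancel]
      exact (pk_eq_zero kd (hS (one_mem _))).2 (one_mem _)
  have h1 : ∀ x, f 1 x = x := by
    intro x
    rw [← hu2 x, hf 1 one_ne_zero _ (hu x)]
    refine hpk (hconj (hτ 1 one_ne_zero) _ (hu _)) (hu x) ?_
    rw [hτ2 1 one_ne_zero _ (hu _), one_smul]
  have hadd : ∀ s s' : F, s ≠ 0 → s' ≠ 0 → s + s' ≠ 0 → ∀ x, f (s + s') x = f s x + f s' x := by
    intro s s' hs hs' hss x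
    rw [← hu2 x, hf _ hss _ (hu x), hf _ hs _ (hu x), hf _ hs' _ (hu x),
      ← pk_mul kd (hS (hconj (hτ s hs) _ (hu x))) (hS (hconj (hτ s' hs') _ (hu x)))]
    refine hpk (hconj (hτ _ hss) _ (hu _)) (mul_mem (hconj (hτ s hs) _ (hu x)) (hconj (hτ s' hs') _ (hu x))) ?_
    rw [hτ2 _ hss _ (hu _), y.mul2 _ (hconj (hτ s hs) _ (hu x)) _ (hconj (hτ s' hs') _ (hu x)),
      hτ2 _ hs _ (hu _), hτ2 _ hs' _ (hu _), add_smul]
  have hgU : ∀ {g : G}, g ∈ KT V R j K → ∀ a ∈ UU V R j, g * a * g⁻¹ ∈ UU V R j := by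
    intro g hg a ha
    have h1 := conj_mem_cj (g := g) ha
    rwa [b.cj_UU hg.2.1 (cj_eq_self_iff.2 hg.2.2)] at h1
  have hsq : ∀ m : k, ∃ r, r ^ 2 = m := exists_sqrt
  have hsemi : ∀ s, s ≠ 0 → ∀ m : k, m ≠ 0 → ∃ n : k, ∀ x, f s (m * x) = n * f s x := by
    intro s hs m hm
    obtain ⟨r, hr⟩ := hsq m
    have hr0 : r ≠ 0 := by
      rintro rfl
      exact hm (by rw [← hr]; ring)
    obtain ⟨g, hg, hg2⟩ := exists_ent b c kd NAe hr0
    obtain ⟨e10, e00⟩ := hg2 hg.1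
    have hg' : τ s * g * (τ s)⁻¹ ∈ KT V R j K := conj_mem_of_normalizer (XT_NKT b kd (hτ s hs)) hg
    have e10' : ent (φ ⟨_, hg'.1⟩) 1 0 = 0 :=
      kd.ent_of_mem b ⟨_, hg'.1⟩ (kd.S_normal b (kd.K_le_N hg'.1) hg'.2.1)
    refine ⟨ent (φ ⟨_, hg'.1⟩) 0 0 ^ 2, fun x => ?_⟩
    have h2 : m * x = pk φ (g * u x * g⁻¹) := by
      rw [pk_conj kd hg.1 e10 (hS (hu x)), e00, hr, hu2]
    rw [h2, hf s hs _ (hgU hg _ (hu x))]
    nth_rewrite 2 [← hu2 x]
    rw [hf s hs _ (hu x), ← pk_conj kd hg'.1 e10' (hS (hconj (hτ s hs) _ (hu x)))]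
    congr 1
    group
  obtain ⟨e, he, -, -, h4⟩ := Tor.exists_tor y b.toBT c ht.1 ht.2.1 ht.2.2
  have he' := inv_ne_zero he
  have hsc := fun x => scal (f := f) h0 h1 hadd hsemi he' x
  refine ⟨f e⁻¹ 1, fun hz => ?_, fun a ha => ?_⟩
  · have h2 := hsc 1
    have h3 : ∀ x, f e⁻¹ x = 0 := fun x => by rw [hsc, hz, zero_mul]
    have h5 := h3 1
    rw [← hu2 1, hf _ he' _ (hu 1)] at h5
    have h6 : pk φ (τ e⁻¹ * u 1 * (τ e⁻¹)⁻¹) = pk φ 1 := by
      rw [h5, (pk_eq_zero kd (hS (one_mem _))).2 (one_mem _)]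
    have h7 := hpk' (hconj (hτ _ he') _ (hu 1)) (one_mem _) h6
    rw [hτ2 _ he' _ (hu 1), (y.ker2 1 (one_mem _)).2 (one_mem _)] at h7
    have h8 := (smul_eq_zero.1 h7).resolve_left he'
    have h9 : pk φ (u 1) = pk φ 1 := hpk (hu 1) (one_mem _) (by
      rw [h8, (y.ker2 1 (one_mem _)).2 (one_mem _)])
    rw [hu2, (pk_eq_zero kd (hS (one_mem _))).2 (one_mem _)] at h9
    exact one_ne_zero h9
  · rw [← hsc, hf _ he' _ ha]
    refine hpk (h4 a ha).1 (hconj (hτ _ he') _ ha) ?_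
    rw [(h4 a ha).2, hτ2 _ he' _ ha]

end scalars

end Cfsg.Agent.Omega.SQEnd

end
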