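import Cfsg.Agent.Mrg.Omega.BTwo.Conj
import Cfsg.Agent.Mrg.Omega.ExitsThree
import Cfsg.Agent.Lib.ProductSet
import Cfsg.Agent.Mrg.RankTwoClose.BN
import Cfsg.Agent.Mrg.RankTwoClose.Braid
import Cfsg.Agent.Mrg.Omega.SQEnd.KTor
import Cfsg.Agent.Mrg.Omega.SQEnd.E
import Cfsg.Agent.Mrg.Omega.GTwoFour.Cor
import Cfsg.Agent.Mrg.Omega.IIa4.Lay
import Mathlib.FieldTheory.Finite.GaloisField

-- merged: Cfsg.Agent.Mrg.Omega.Hex.Torus
section

section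


/-!
# (A) and (Z) of THEOREM R2T for the node `b = 2`

`R₋₂ = R^{n₁n₂}`, `R₄ = (R₋₂)^{n₁}`, `A = C_H(R₄) = C_H(R₋₂)`, `L = ⟨R₋₂, R₄⟩`: `Root A R₄ L`,
`L` is transitive on `P₁/B` and `(n₁n₂)³` normalises `A`.
-/

set_option autoImplicit false
set_option linter.dupNamespace false

universe u

namespace Cfsg.Agent.Omega.Hex

open Subgroup Cfsg.Agent.Omega.BTwo
open scoped Pointwise

variable {G : Type u} [Group G] {P₁ P₂ B U H V R W Y D : Subgroup G} {n₁ n₂ : G} {q r : ℕ}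

/-- the centralizer of `Q` in `H` -/
def CH (H Q : Subgroup G) : Subgroup G := H ⊓ centralizer (Q : Set G)

theorem mem_CH {Q : Subgroup G} {x : G} : x ∈ CH H Q ↔ x ∈ H ∧ ∀ v ∈ Q, x * v = v * x := by
  rw [CH, mem_inf, mem_centralizer_iff]
  exact and_congr_right fun _ => ⟨fun h v hv => (h v hv).symm, fun h v hv => (h v hv).symm⟩

theorem cj_CH (g : G) (Q : Subgroup G) : cj g (CH H Q) = CH (cj g H) (cj g Q) := by
  rw [CH, CH, cj_inf, centralizer_cj]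

theorem cj_CH_of_mem {g : G} (hg : g ∈ normalizer (H : Set G)) (Q : Subgroup G) :
    cj g (CH H Q) = CH H (cj g Q) := by
  rw [cj_CH, cj_eq_self_iff.2 hg]

/-- the product of two subgroups of a subgroup `K` is `K` by counting -/
theorem mul_eq_of_card [Finite G] {K₁ K₂ K : Subgroup G} (h₁ : K₁ ≤ K) (h₂ : K₂ ≤ K)
    (h : Nat.card K * Nat.card (K₁ ⊓ K₂ : Subgroup G) ≤ Nat.card K₁ * Nat.card K₂) :
    ∀ x ∈ K, ∃ a ∈ K₁, ∃ b ∈ K₂, x = a * b := by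
  have h3 := Lib.ProductSet.card_mul_card_inf K₁ K₂
  rw [← h3] at h
  have h4 : 0 < Nat.card (K₁ ⊓ K₂ : Subgroup G) := Nat.card_pos
  have h5 := Nat.le_of_mul_le_mul_right h h4
  have h6 : ((K₁ : Set G) * (K₂ : Set G)) ⊆ (K : Set G) := by
    rintro _ ⟨a, ha, b, hb, rfl⟩
    exact K.mul_mem (h₁ ha) (h₂ hb)
  have h7 : ((K₁ : Set G) * (K₂ : Set G)) = (K : Set G) :=
    Set.eq_of_subset_of_ncard_le h6 (by rw [← Nat.card_coe_set_eq, ← Nat.card_coe_set_eq]; exact h5)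
      (Set.toFinite _)
  intro x hx
  have h8 : x ∈ ((K₁ : Set G) * (K₂ : Set G)) := by rw [h7]; exact hx
  obtain ⟨a, ha, b, hb, hab⟩ := h8
  exact ⟨a, ha, b, hb, hab.symm⟩

namespace Hex

variable (h : Hex P₁ P₂ B U H V R W Y D n₁ n₂ q r)
include h

theorem BnR : B ≤ normalizer (R : Set G) := h.B₂.trans h.nR
theorem BnV : B ≤ normalizer (V : Set G) := h.B₁.trans h.nV
theorem BnW : B ≤ normalizer (W : Set G) := h.B₂.trans h.nW
theorem BnY : B ≤ normalizer (Y : Set G) := h.B₁.trans h.nY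
theorem VW : V ≤ W := h.VD.trans h.DW
theorem VY : V ≤ Y := h.VD.trans h.DY
theorem WB : W ≤ B := h.WU.trans h.UB
theorem YB : Y ≤ B := h.YU.trans h.UB
theorem VB : V ≤ B := h.VY.trans h.YB
theorem RW : R ≤ W := h.RV.trans h.VW

theorem comm_V {x y : G} (hx : x ∈ V) (hy : y ∈ V) : x * y = y * x := h.YV x (h.VY hx) y hy

theorem cj_n₁V : cj n₁ V = V := cj_eq_self_iff.2 (h.nV h.n₁P)
theorem cj_n₁Y : cj n₁ Y = Y := cj_eq_self_iff.2 (h.nY h.n₁P)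
theorem cj_n₂R : cj n₂ R = R := cj_eq_self_iff.2 (h.nR h.n₂P)
theorem cj_n₂W : cj n₂ W = W := cj_eq_self_iff.2 (h.nW h.n₂P)

theorem sq₁ {Q : Subgroup G} (hQ : B ≤ normalizer (Q : Set G)) : cj n₁ (cj n₁ Q) = Q := by
  rw [← cj_mul]; exact cj_eq_self_iff.2 (hQ h.n₁sq)
theorem sq₂ {Q : Subgroup G} (hQ : B ≤ normalizer (Q : Set G)) : cj n₂ (cj n₂ Q) = Q := by
  rw [← cj_mul]; exact cj_eq_self_iff.2 (hQ h.n₂sq)

/-- `V₋₁` -/
theorem V1_le : cj n₂ V ≤ W := by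
  have := cj_mono (g := n₂) h.VW
  rwa [h.cj_n₂W] at this

theorem V1_inf_Y : cj n₂ V ⊓ Y = R := by
  have h1 : cj n₂ (V ⊓ cj n₂ Y) = cj n₂ R := by rw [h.VV]
  rw [cj_inf, h.sq₂ h.BnY, h.cj_n₂R] at h1
  exact h1

variable [Finite G]

theorem q_pos : 0 < q := by have := h.q4; omega

theorem W_eq : ∀ w ∈ W, ∃ v ∈ cj n₂ V, ∃ y ∈ W ⊓ Y, w = v * y := by
  refine mul_eq_of_card h.V1_le inf_le_left ?_
  have h1 : cj n₂ V ⊓ (W ⊓ Y) = R := by
    rw [← inf_assoc, inf_eq_left.2 h.V1_le, h.V1_inf_Y]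
  rw [h1, h.cR, card_cj, h.cV, h.cW]
  apply le_of_eq; ring

/-- `V = R R₂` -/
theorem V_eq : ∀ v ∈ V, ∃ a ∈ R, ∃ b ∈ cj n₁ R, v = a * b := by
  have h1 : cj n₁ R ≤ V := by
    have := cj_mono (g := n₁) h.RV
    rwa [h.cj_n₁V] at this
  refine mul_eq_of_card h.RV h1 ?_
  rw [h.Rn, card_cj, h.cR, h.cV]
  simp

/-- the root group `R₋₂` -/
theorem Rm_le_V1 : cj n₂ (cj n₁ R) ≤ cj n₂ V := by
  refine cj_mono ?_
  have := cj_mono (g := n₁) h.RV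
  rwa [h.cj_n₁V] at this

omit [Finite G] in
theorem fix₁ {y : G} (hy : y ∈ Y) : n₁⁻¹ * y * n₁ ∈ B := by
  have h1 : y ∈ cj n₁ Y := by rw [h.cj_n₁Y]; exact hy
  exact h.YB (mem_cj.1 h1)

/-- `R₋₂` is transitive on the points of `V` other than `R`. -/
theorem transRm {x : G} (hx : x ∈ P₁) (hxB : x ∉ B) :
    ∃ e ∈ cj n₂ (cj n₁ R), (e * n₁)⁻¹ * x ∈ B := by
  obtain ⟨w, hw, hwx⟩ := h.trans₁ x hx hxB
  obtain ⟨v, hv, y, hy, rfl⟩ := h.W_eq w hw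
  have hv' : n₂⁻¹ * v * n₂ ∈ V := mem_cj.1 hv
  obtain ⟨a, ha, b, hb, hab⟩ := h.V_eq _ hv'
  have hab' : n₂⁻¹ * v * n₂ = b * a := by
    rw [hab]
    have h1 : cj n₁ R ≤ V := by
      have := cj_mono (g := n₁) h.RV
      rwa [h.cj_n₁V] at this
    exact h.comm_V (h.RV ha) (h1 hb)
  refine ⟨n₂ * b * n₂⁻¹, conj_mem_cj hb, ?_⟩
  have hv2 : v = (n₂ * b * n₂⁻¹) * (n₂ * a * n₂⁻¹) := by
    calc v = n₂ * (n₂⁻¹ * v * n₂) * n₂⁻¹ := by group
      _ = n₂ * (b * a) * n₂⁻¹ := by rw [hab']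
      _ = _ := by group
  have ha2 : n₂ * a * n₂⁻¹ ∈ R := by
    have := conj_mem_cj (g := n₂) ha
    rwa [h.cj_n₂R] at this
  have hz : (n₂ * a * n₂⁻¹) * y ∈ Y := Y.mul_mem (h.VY (h.RV ha2)) hy.2
  have h1 := h.fix₁ hz
  have e : (n₂ * b * n₂⁻¹ * n₁)⁻¹ * x =
      (n₁⁻¹ * ((n₂ * a * n₂⁻¹) * y) * n₁) * ((v * y * n₁)⁻¹ * x) := by
    conv_rhs => rw [hv2]
    group
  rw [e]
  exact B.mul_mem h1 hwx

/-- `R₋₂ ∩ Y = 1` -/
theorem Rm_inf_Y : cj n₂ (cj n₁ R) ⊓ Y = ⊥ := by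
  rw [eq_bot_iff]
  intro x hx
  have h1 : x ∈ cj n₂ V ⊓ Y := ⟨h.Rm_le_V1 hx.1, hx.2⟩
  rw [h.V1_inf_Y] at h1
  have h2 : x ∈ cj n₂ (R ⊓ cj n₁ R) := by
    rw [cj_inf, h.cj_n₂R]
    exact ⟨h1, hx.1⟩
  rw [h.Rn, cj_bot] at h2
  exact h2

theorem Rm_le_W : cj n₂ (cj n₁ R) ≤ W := h.Rm_le_V1.trans h.V1_le

theorem Rm_le_U : cj n₂ (cj n₁ R) ≤ U := h.Rm_le_W.trans h.WU

/-- `R₋₂` acts regularly: an element fixing the point `R₂` is trivial. -/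
theorem Rm_semireg {e : G} (he : e ∈ cj n₂ (cj n₁ R)) (hB : n₁⁻¹ * e * n₁ ∈ B) : e = 1 := by
  have h1 : e ∈ Y := h.ker₁ ⟨h.Rm_le_W he, mem_cj.2 hB⟩
  have h2 : e ∈ cj n₂ (cj n₁ R) ⊓ Y := ⟨he, h1⟩
  rw [h.Rm_inf_Y] at h2
  exact h2

omit [Finite G] in
theorem Hn {g : G} (hg : g ∈ normalizer (H : Set G)) {Q : Subgroup G}
    (hQ : H ≤ normalizer (Q : Set G)) : H ≤ normalizer (cj g Q : Set G) := by
  intro x hx
  rw [normalizer_cj, mem_cj]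
  exact hQ (conj_inv_mem_of_normalizer hg hx)

omit [Finite G] in
theorem HnR : H ≤ normalizer (R : Set G) := h.HB.trans h.BnR

omit [Finite G] in
theorem HnRm : H ≤ normalizer (cj n₂ (cj n₁ R) : Set G) := h.Hn h.n₂H (h.Hn h.n₁H h.HnR)

omit [Finite G] in
theorem HnRp : H ≤ normalizer (cj n₁ (cj n₂ (cj n₁ R)) : Set G) := h.Hn h.n₁H h.HnRm

/-- An element `x` of `P₁` which normalises the flag `(R, V)` (i.e. lies in `B`) and the point `R₂`,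
and commutes with the root group `R₋₂`, fixes every point of `V`. -/
theorem fix_all {x : G} (hxB : x ∈ B) (hx₁ : n₁⁻¹ * x * n₁ ∈ B)
    (hc : ∀ e ∈ cj n₂ (cj n₁ R), x * e = e * x) {g : G} (hg : g ∈ P₁) : g⁻¹ * x * g ∈ B := by
  by_cases hgB : g ∈ B
  · exact B.mul_mem (B.mul_mem (B.inv_mem hgB) hxB) hgB
  · obtain ⟨e, he, heg⟩ := h.transRm hg hgB
    set b := (e * n₁)⁻¹ * g with hb
    have hg' : g = e * n₁ * b := by rw [hb]; group
    have h1 := hc e he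
    have : g⁻¹ * x * g = b⁻¹ * (n₁⁻¹ * x * n₁) * b := by
      rw [hg']
      calc (e * n₁ * b)⁻¹ * x * (e * n₁ * b) = b⁻¹ * n₁⁻¹ * e⁻¹ * (x * e) * n₁ * b := by group
        _ = b⁻¹ * n₁⁻¹ * e⁻¹ * (e * x) * n₁ * b := by rw [h1]
        _ = _ := by group
    rw [this]
    exact B.mul_mem (B.mul_mem (B.inv_mem heg) hx₁) heg

/-- the same for the root group `R₄` -/
theorem Rp_semireg {e g : G} (he : e ∈ cj n₁ (cj n₂ (cj n₁ R)))
    (hB : ∀ g ∈ P₁, g⁻¹ * e * g ∈ B) : e = 1 := by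
  have h1 : n₁⁻¹ * e * n₁ ∈ cj n₂ (cj n₁ R) := mem_cj.1 he
  have h2 : n₁⁻¹ * (n₁⁻¹ * e * n₁) * n₁ ∈ B := by
    have := hB (n₁ * n₁) (P₁.mul_mem h.n₁P h.n₁P)
    have e1 : (n₁ * n₁)⁻¹ * e * (n₁ * n₁) = n₁⁻¹ * (n₁⁻¹ * e * n₁) * n₁ := by group
    rwa [e1] at this
  have h3 := h.Rm_semireg h1 h2
  calc e = n₁ * (n₁⁻¹ * e * n₁) * n₁⁻¹ := by group
    _ = 1 := by rw [h3]; group

/-- LEMMA A (first half): `C_H(R₋₂) ≤ C_H(R₄)`. -/
theorem CH_le : CH H (cj n₂ (cj n₁ R)) ≤ CH H (cj n₁ (cj n₂ (cj n₁ R))) := by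
  intro x hx
  rw [mem_CH] at hx ⊢
  refine ⟨hx.1, fun e he => ?_⟩
  have hxB := h.HB hx.1
  have hxN : x ∈ normalizer (H : Set G) := le_normalizer hx.1
  have hx₁ : n₁⁻¹ * x * n₁ ∈ B := mem_cj.1 (h.H₁ ⟨hxB, hxN⟩)
  -- the commutator `x e x⁻¹ e⁻¹` lies in `R₄` and fixes every point of `V`
  have hR4 : x * e * x⁻¹ ∈ cj n₁ (cj n₂ (cj n₁ R)) :=
    conj_mem_of_normalizer (h.HnRp hx.1) he
  have hf : x * e * x⁻¹ * e⁻¹ ∈ cj n₁ (cj n₂ (cj n₁ R)) := mul_mem hR4 (inv_mem he)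
  have heP : e ∈ P₁ := by
    have h1 : cj n₁ (cj n₂ (cj n₁ R)) ≤ P₁ := by
      have h2 := cj_mono (g := n₁) ((h.Rm_le_U.trans h.UB).trans h.B₁)
      rwa [cj_of_mem h.n₁P] at h2
    exact h1 he
  have hfix := fun g (hg : g ∈ P₁) => h.fix_all hxB hx₁ (hx.2) (g := g) hg
  have h5 : x * e * x⁻¹ * e⁻¹ = 1 := by
    refine h.Rp_semireg (g := 1) hf fun g hg => ?_
    have h6 := hfix g hg
    have h7 := hfix (e⁻¹ * g) (P₁.mul_mem (P₁.inv_mem heP) hg)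
    have e8 : g⁻¹ * (x * e * x⁻¹ * e⁻¹) * g =
        (g⁻¹ * x * g) * ((e⁻¹ * g)⁻¹ * x * (e⁻¹ * g))⁻¹ := by group
    rw [e8]
    exact B.mul_mem h6 (B.inv_mem h7)
  calc x * e = (x * e * x⁻¹ * e⁻¹) * (e * x) := by group
    _ = e * x := by rw [h5, one_mul]

/-! ### the translation `n₁n₂` -/

omit [Finite G] in
theorem tH : n₁ * n₂ ∈ normalizer (H : Set G) := mul_mem h.n₁H h.n₂H

omit [Finite G] in
theorem nR2 {x : G} (hx : x ∈ B ⊓ normalizer (H : Set G)) : x ∈ normalizer (cj n₁ R : Set G) := by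
  rw [normalizer_cj]
  exact cj_mono h.BnR (h.H₁ hx)

omit [Finite G] in
theorem t_Rm : cj (n₁ * n₂) (cj n₂ (cj n₁ R)) = R := by
  rw [cj_mul]
  have h1 : cj n₂ (cj n₂ (cj n₁ R)) = cj n₁ R := by
    rw [← cj_mul]
    exact cj_eq_self_iff.2 (h.nR2 ⟨h.n₂sq, mul_mem h.n₂H h.n₂H⟩)
  rw [h1, h.sq₁ h.BnR]

omit [Finite G] in
theorem t_R0 : cj (n₁ * n₂) R = cj n₁ R := by rw [cj_mul, h.cj_n₂R]

omit [Finite G] in
theorem tt_R0 : cj ((n₁ * n₂) * (n₁ * n₂)) R = cj n₁ (cj n₂ (cj n₁ R)) := by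
  rw [cj_mul, h.t_R0, cj_mul]

omit [Finite G] in
theorem ttt_Rm : cj ((n₁ * n₂) ^ 3) (cj n₂ (cj n₁ R)) = cj n₁ (cj n₂ (cj n₁ R)) := by
  have e : (n₁ * n₂) ^ 3 = ((n₁ * n₂) * (n₁ * n₂)) * (n₁ * n₂) := by rw [pow_succ, pow_two]
  rw [e, cj_mul, h.t_Rm, h.tt_R0]

/-- LEMMA A -/
theorem CH_eq : CH H (cj n₂ (cj n₁ R)) = CH H (cj n₁ (cj n₂ (cj n₁ R))) := by
  refine eq_of_le_of_card_ge h.CH_le ?_
  rw [← h.ttt_Rm, ← cj_CH_of_mem (pow_mem h.tH 3), card_cj]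

theorem cj_A : cj ((n₁ * n₂) ^ 3) (CH H (cj n₁ (cj n₂ (cj n₁ R)))) =
    CH H (cj n₁ (cj n₂ (cj n₁ R))) := by
  conv_lhs => rw [← h.CH_eq]
  rw [cj_CH_of_mem (pow_mem h.tH 3), h.ttt_Rm]

/-- (T4) : `R₄` is transitive on the points of `V` other than `R₂`. -/
theorem transRp {x : G} (hx : x ∈ P₁) (hxB : n₁⁻¹ * x ∉ B) :
    ∃ f ∈ cj n₁ (cj n₂ (cj n₁ R)), f⁻¹ * x ∈ B := by
  obtain ⟨e, he, hex⟩ := h.transRm (P₁.mul_mem (P₁.inv_mem h.n₁P) hx) hxB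
  refine ⟨n₁ * e * n₁⁻¹, conj_mem_cj he, ?_⟩
  have e1 : (n₁ * e * n₁⁻¹)⁻¹ * x = (n₁ * n₁) * ((e * n₁)⁻¹ * (n₁⁻¹ * x)) := by group
  rw [e1]
  exact B.mul_mem h.n₁sq hex

end Hex

/-- the group `L = ⟨R₋₂, R₄⟩` -/
def LL (n₁ n₂ : G) (R : Subgroup G) : Subgroup G :=
  cj n₂ (cj n₁ R) ⊔ cj n₁ (cj n₂ (cj n₁ R))

section Glob

variable [Finite G]

theorem cards (h : Hex P₁ P₂ B U H V R W Y D n₁ n₂ q r) :
    Nat.card (cj n₂ (cj n₁ R) : Subgroup G) = q := by rw [card_cj, card_cj, h.cR]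

/-- a `2`-subgroup normalising `R₄` and centralising `A` is in `R₄` -/
theorem tor4 (h : Hex P₁ P₂ B U H V R W Y D n₁ n₂ q r) (g : Glob H R) {T : Subgroup G}
    (hT : IsPGroup 2 T) (hn : T ≤ normalizer (cj n₁ (cj n₂ (cj n₁ R)) : Set G))
    (hc : ∀ x ∈ T, ∀ a ∈ CH H (cj n₁ (cj n₂ (cj n₁ R))), x * a = a * x) :
    T ≤ cj n₁ (cj n₂ (cj n₁ R)) := by
  set s := (n₁ * n₂) * (n₁ * n₂) with hs
  have hsH : s ∈ normalizer (H : Set G) := mul_mem h.tH h.tH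
  have e4 : cj n₁ (cj n₂ (cj n₁ R)) = cj s R := h.tt_R0.symm
  rw [e4] at hn hc ⊢
  have h1 : cj s⁻¹ T ≤ R := by
    refine g.tor _ (isPGroup_cj hT) ?_ ?_
    · have h2 := cj_mono (g := s⁻¹) hn
      rwa [normalizer_cj, cj_inv_cj] at h2
    · intro x hx hxR t ht
      have ht' : s * t * s⁻¹ ∈ T := by
        have := mem_cj.1 ht
        rwa [inv_inv] at this
      have hx' : s * x * s⁻¹ ∈ CH H (cj s R) := by
        have h3 : s * x * s⁻¹ ∈ cj s (CH H R) := conj_mem_cj (mem_CH.2 ⟨hx, hxR⟩)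
        rwa [cj_CH_of_mem hsH] at h3
      have h4 := hc _ ht' _ hx'
      have h5 : s * (t * x) * s⁻¹ = s * (x * t) * s⁻¹ := by
        calc s * (t * x) * s⁻¹ = (s * t * s⁻¹) * (s * x * s⁻¹) := by group
          _ = (s * x * s⁻¹) * (s * t * s⁻¹) := h4
          _ = _ := by group
      exact mul_left_cancel (mul_right_cancel h5)
  have h6 := cj_mono (g := s) h1
  rwa [cj_cj_inv] at h6

theorem syl4 (h : Hex P₁ P₂ B U H V R W Y D n₁ n₂ q r) (g : Glob H R) {T : Subgroup G}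
    (hT : IsPGroup 2 T)
    (hc : ∀ x ∈ T, ∀ a ∈ CH H (cj n₁ (cj n₂ (cj n₁ R))), x * a = a * x)
    (hle : cj n₁ (cj n₂ (cj n₁ R)) ≤ T) : T ≤ cj n₁ (cj n₂ (cj n₁ R)) := by
  set E := cj n₁ (cj n₂ (cj n₁ R)) with hE
  by_contra hcon
  haveI : Group.IsNilpotent T := hT.isNilpotent
  have hlt : E.subgroupOf T < ⊤ := by
    rw [lt_top_iff_ne_top]
    intro h1
    exact hcon (subgroupOf_eq_top.1 h1)
  have h2 := (Group.normalizerCondition_of_isNilpotent (G := T)) _ hlt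
  obtain ⟨x, hx, hxE⟩ := SetLike.exists_of_lt h2
  apply hxE
  rw [mem_subgroupOf]
  have hxn : (x : G) ∈ normalizer (E : Set G) := by
    refine mem_normalizer_of_conj fun y hy => ?_
    have h3 := (mem_normalizer_iff.1 hx ⟨y, hle hy⟩).1 (mem_subgroupOf.2 hy)
    exact mem_subgroupOf.1 h3
  have h4 : T ⊓ normalizer (E : Set G) ≤ E :=
    tor4 h g (hT.to_le inf_le_left) inf_le_right (fun y hy => hc y hy.1)
  exact h4 ⟨x.2, hxn⟩

end Glob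

end Cfsg.Agent.Omega.Hex

end

section


/-!
# `Root A R₄ L` for the node `b = 2`
-/

set_option autoImplicit false
set_option linter.dupNamespace false

universe u

namespace Cfsg.Agent.Omega.Hex

open Subgroup Cfsg.Agent.Omega.BTwo Cfsg.Agent.Omega.RootLemma
open scoped Pointwise

variable {G : Type u} [Group G] [Finite G] {P₁ P₂ B U H V R W Y D : Subgroup G} {n₁ n₂ : G} {q r : ℕ}

/-- the same for `R₋₂` -/
theorem sylm (h : Hex P₁ P₂ B U H V R W Y D n₁ n₂ q r) (g : Glob H R) {T : Subgroup G}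
    (hT : IsPGroup 2 T)
    (hc : ∀ x ∈ T, ∀ a ∈ CH H (cj n₁ (cj n₂ (cj n₁ R))), x * a = a * x)
    (hle : cj n₂ (cj n₁ R) ≤ T) : T ≤ cj n₂ (cj n₁ R) := by
  set s := (n₁ * n₂) ^ 3 with hs
  have h1 : cj s T ≤ cj n₁ (cj n₂ (cj n₁ R)) := by
    refine syl4 h g (isPGroup_cj hT) ?_ ?_
    · intro x hx a ha
      have hx' : s⁻¹ * x * s ∈ T := mem_cj.1 hx
      have ha' : s⁻¹ * a * s ∈ CH H (cj n₁ (cj n₂ (cj n₁ R))) := by
        rw [← h.cj_A] at ha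
        exact mem_cj.1 ha
      have h4 := hc _ hx' _ ha'
      have h5 : s⁻¹ * (x * a) * s = s⁻¹ * (a * x) * s := by
        calc s⁻¹ * (x * a) * s = (s⁻¹ * x * s) * (s⁻¹ * a * s) := by group
          _ = (s⁻¹ * a * s) * (s⁻¹ * x * s) := h4
          _ = _ := by group
      exact mul_left_cancel (mul_right_cancel h5)
    · rw [← h.ttt_Rm]
      exact cj_mono hle
  rw [← h.ttt_Rm] at h1
  have h2 := cj_mono (g := s⁻¹) h1
  rwa [cj_inv_cj, cj_inv_cj] at h2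

section

variable (h : Hex P₁ P₂ B U H V R W Y D n₁ n₂ q r) (g : Glob H R)
include h

theorem LL_comm : ∀ k ∈ LL n₁ n₂ R, ∀ a ∈ CH H (cj n₁ (cj n₂ (cj n₁ R))), k * a = a * k := by
  have h1 : LL n₁ n₂ R ≤ centralizer (CH H (cj n₁ (cj n₂ (cj n₁ R))) : Set G) := by
    refine sup_le ?_ ?_
    · intro x hx
      rw [mem_centralizer_iff]
      intro a ha
      rw [← h.CH_eq] at ha
      exact (mem_CH.1 ha).2 x hx
    · intro x hx
      rw [mem_centralizer_iff]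
      intro a ha
      exact (mem_CH.1 ha).2 x hx
  intro k hk a ha
  exact ((mem_centralizer_iff.1 (h1 hk)) a ha).symm

theorem two_R : IsPGroup 2 R := h.two.to_le (h.RW.trans h.WU)

theorem exists_ne_Rm : ∃ e ∈ cj n₂ (cj n₁ R), e ≠ 1 := by
  by_contra hcon
  push Not at hcon
  have h1 : cj n₂ (cj n₁ R) = ⊥ := by
    rw [eq_bot_iff]; exact fun x hx => hcon x hx
  have h2 := cards h
  rw [h1, card_bot] at h2
  have := h.q4
  omega

theorem LL_le_P₁ : LL n₁ n₂ R ≤ P₁ := by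
  have h1 : cj n₂ (cj n₁ R) ≤ P₁ := (h.Rm_le_U.trans h.UB).trans h.B₁
  refine sup_le h1 ?_
  have h2 := cj_mono (g := n₁) h1
  rwa [cj_of_mem h.n₁P] at h2

/-- an element of `⟨R₄^L⟩` moving the point `R₂` to `R` -/
theorem exists_g : ∃ e ∈ cj n₂ (cj n₁ R), ∃ f ∈ cj n₁ (cj n₂ (cj n₁ R)), e * f * e⁻¹ * n₁ ∈ B := by
  obtain ⟨e, he, he1⟩ := exists_ne_Rm h
  have heB : e ∈ B := h.UB (h.Rm_le_U he)
  have h1 : n₁⁻¹ * (e⁻¹ * n₁) ∉ B := by
    intro hc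
    have h2 : n₁⁻¹ * e⁻¹ * n₁ ∈ B := by rw [mul_assoc]; exact hc
    exact he1 (inv_eq_one.1 (h.Rm_semireg (inv_mem he) h2))
  have hP : e⁻¹ * n₁ ∈ P₁ := P₁.mul_mem (P₁.inv_mem (h.B₁ heB)) h.n₁P
  obtain ⟨f, hf, hfx⟩ := h.transRp hP h1
  refine ⟨e, he, f⁻¹, inv_mem hf, ?_⟩
  have e1 : e * f⁻¹ * e⁻¹ * n₁ = e * (f⁻¹ * (e⁻¹ * n₁)) := by group
  rw [e1]
  exact B.mul_mem heB hfx

/-- `L` is transitive on `P₁/B`. -/
theorem LL_trans {x : G} (hx : x ∈ P₁) : ∃ l ∈ LL n₁ n₂ R, l⁻¹ * x ∈ B := by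
  by_cases hxB : n₁⁻¹ * x ∈ B
  · obtain ⟨e, he, f, hf, hef⟩ := exists_g h
    have heL : e ∈ LL n₁ n₂ R := mem_sup_left he
    have hfL : f ∈ LL n₁ n₂ R := mem_sup_right hf
    refine ⟨(e * f * e⁻¹)⁻¹, inv_mem (mul_mem (mul_mem heL hfL) (inv_mem heL)), ?_⟩
    rw [inv_inv]
    have e1 : e * f * e⁻¹ * x = (e * f * e⁻¹ * n₁) * (n₁⁻¹ * x) := by group
    rw [e1]
    exact B.mul_mem hef hxB
  · obtain ⟨f, hf, hfx⟩ := h.transRp hx hxB
    exact ⟨f, mem_sup_right hf, hfx⟩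

include g

theorem Rm_not_norm : ∃ k ∈ LL n₁ n₂ R, ∃ v ∈ cj n₁ (cj n₂ (cj n₁ R)),
    k * v * k⁻¹ ∉ cj n₁ (cj n₂ (cj n₁ R)) := by
  by_contra hcon
  push Not at hcon
  have h1 : cj n₂ (cj n₁ R) ≤ normalizer (cj n₁ (cj n₂ (cj n₁ R)) : Set G) := fun k hk =>
    mem_normalizer_of_conj fun v hv => hcon k (mem_sup_left hk) v hv
  have h2 : cj n₂ (cj n₁ R) ≤ cj n₁ (cj n₂ (cj n₁ R)) :=
    tor4 h g (isPGroup_cj (isPGroup_cj (two_R h))) h1
      (fun x hx a ha => LL_comm h x (mem_sup_left hx) a ha)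
  obtain ⟨e, he, he1⟩ := exists_ne_Rm h
  have h3 : n₁⁻¹ * e * n₁ ∈ B := h.UB (h.Rm_le_U (mem_cj.1 (h2 he)))
  exact he1 (h.Rm_semireg he h3)

theorem gen4 : LL n₁ n₂ R ≤ closure {x | ∃ k ∈ LL n₁ n₂ R, ∃ v ∈ cj n₁ (cj n₂ (cj n₁ R)),
    x = k * v * k⁻¹} := by
  set N := closure {x | ∃ k ∈ LL n₁ n₂ R, ∃ v ∈ cj n₁ (cj n₂ (cj n₁ R)), x = k * v * k⁻¹} with hN
  have h4 : cj n₁ (cj n₂ (cj n₁ R)) ≤ N := fun v hv =>
    subset_closure ⟨1, one_mem _, v, hv, by group⟩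
  refine sup_le ?_ h4
  obtain ⟨e, he, f, hf, hef⟩ := exists_g h
  set x := e * f * e⁻¹ with hx
  have heL : e ∈ LL n₁ n₂ R := mem_sup_left he
  have hfL : f ∈ LL n₁ n₂ R := mem_sup_right hf
  have hxL : x ∈ LL n₁ n₂ R := mul_mem (mul_mem heL hfL) (inv_mem heL)
  -- `R₄ ^ x ≤ U`
  have h5 : cj x (cj n₁ (cj n₂ (cj n₁ R))) ≤ U := by
    have e1 : cj x (cj n₁ (cj n₂ (cj n₁ R))) = cj (x * n₁) (cj n₂ (cj n₁ R)) := by rw [cj_mul x n₁]
    rw [e1]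
    have h6 := cj_mono (g := x * n₁) h.Rm_le_U
    rwa [cj_eq_self_iff.2 (h.nU hef)] at h6
  have h7 : cj n₂ (cj n₁ R) ⊔ cj x (cj n₁ (cj n₂ (cj n₁ R))) ≤ cj n₂ (cj n₁ R) := by
    refine sylm h g (h.two.to_le (sup_le h.Rm_le_U h5)) ?_ le_sup_left
    intro y hy a ha
    refine LL_comm h y ?_ a ha
    refine (sup_le ?_ ?_ : _ ≤ LL n₁ n₂ R) hy
    · exact le_sup_left
    · rintro _ ⟨z, hz, rfl⟩
      exact mul_mem (mul_mem hxL (mem_sup_right hz)) (inv_mem hxL)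
  have h8 : cj x (cj n₁ (cj n₂ (cj n₁ R))) = cj n₂ (cj n₁ R) := by
    refine eq_of_le_of_card_ge (le_sup_right.trans h7) ?_
    simp only [card_cj, le_refl]
  rw [← h8]
  rintro _ ⟨z, hz, rfl⟩
  exact subset_closure ⟨x, hxL, z, hz, rfl⟩

/-- (A) + (Z) of THEOREM R2T in the form of `RootLemma`. -/
theorem root : Root (CH H (cj n₁ (cj n₂ (cj n₁ R)))) (cj n₁ (cj n₂ (cj n₁ R))) (LL n₁ n₂ R) where
  le := le_sup_right
  comm := LL_comm h
  two := isPGroup_cj (isPGroup_cj (isPGroup_cj (two_R h)))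
  syl P hP hc hle := syl4 h g hP hc hle
  pair := by
    have hV : ∀ x ∈ cj n₁ (cj n₂ (cj n₁ R)), x * x = 1 := by
      intro x hx
      rw [← h.tt_R0] at hx
      have h1 := h.sq _ (h.RV (mem_cj.1 hx))
      have e1 : ∀ s : G, s⁻¹ * x * s * (s⁻¹ * x * s) = s⁻¹ * (x * x) * s := by intro s; group
      rw [e1] at h1
      have h2 : x * x = (n₁ * n₂ * (n₁ * n₂)) * ((n₁ * n₂ * (n₁ * n₂))⁻¹ * (x * x) *
          (n₁ * n₂ * (n₁ * n₂))) * (n₁ * n₂ * (n₁ * n₂))⁻¹ := by group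
      rw [h2, h1]; group
    have hcard : Nat.card (cj n₁ (cj n₂ (cj n₁ R)) : Subgroup G) = q := by
      rw [card_cj, card_cj, card_cj, h.cR]
    set E := cj n₁ (cj n₂ (cj n₁ R)) with hE
    have hn : (E : Set G).ncard = q := by rw [← Nat.card_coe_set_eq]; exact hcard
    have hq := h.q4
    obtain ⟨a, ha, ha1⟩ : ∃ a ∈ (E : Set G), a ∉ ({1} : Set G) :=
      Set.exists_mem_notMem_of_ncard_lt_ncard (by rw [Set.ncard_singleton, hn]; omega)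
    obtain ⟨b, hb, hb1⟩ : ∃ b ∈ (E : Set G), b ∉ ({1, a} : Set G) :=
      Set.exists_mem_notMem_of_ncard_lt_ncard (by
        have := Set.ncard_insert_le (1 : G) {a}
        rw [Set.ncard_singleton] at this
        omega)
    have hb2 : b ≠ 1 ∧ b ≠ a := by
      constructor
      · intro hc; exact hb1 (by simp [hc])
      · intro hc; exact hb1 (by simp [hc])
    exact ⟨a, ha, b, hb, hV a ha, hV b hb, fun hc => ha1 hc, hb2.1, fun hc => hb2.2 hc.symm⟩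
  cent := by
    intro u hu _ v hv
    rw [← h.tt_R0] at hu hv
    have h1 := h.comm_V (h.RV (mem_cj.1 hu)) (h.RV (mem_cj.1 hv))
    set s := n₁ * n₂ * (n₁ * n₂)
    have h5 : s⁻¹ * (u * v) * s = s⁻¹ * (v * u) * s := by
      calc s⁻¹ * (u * v) * s = (s⁻¹ * u * s) * (s⁻¹ * v * s) := by group
        _ = (s⁻¹ * v * s) * (s⁻¹ * u * s) := h1
        _ = _ := by group
    exact mul_left_cancel (mul_right_cancel h5)
  norm := by
    intro u hu _ hu1 c hc _ v hv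
    rw [← h.tt_R0] at hu hv ⊢
    set s := n₁ * n₂ * (n₁ * n₂)
    have h1 : s⁻¹ * c * s ∈ normalizer (R : Set G) := by
      refine g.cen (s⁻¹ * u * s) (mem_cj.1 hu) ?_ _ ?_
      · intro h0
        apply hu1
        calc u = s * (s⁻¹ * u * s) * s⁻¹ := by group
          _ = 1 := by rw [h0]; group
      · calc s⁻¹ * c * s * (s⁻¹ * u * s) = s⁻¹ * (c * u) * s := by group
          _ = s⁻¹ * (u * c) * s := by rw [hc]
          _ = _ := by group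
    have h2 : c ∈ normalizer (cj s R : Set G) := by
      rw [normalizer_cj]; exact mem_cj.2 h1
    exact conj_mem_of_normalizer h2 hv
  mv := Rm_not_norm h g
  gen := gen4 h g

end

end Cfsg.Agent.Omega.Hex

end

end

-- merged: Cfsg.Agent.Mrg.Omega.Hex.Close
section

section


/-!
# The braid relation of length six and the BN-pair for the node `b = 2`
-/

set_option autoImplicit false
set_option linter.dupNamespace false

universe u

namespace Cfsg.Agent.Omega.Hex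

open Subgroup Cfsg.Agent.Omega.BTwo Cfsg.Agent.Omega.RootLemma Cfsg.Agent.RankTwoClose
open scoped Pointwise

variable {G : Type u} [Group G] [Finite G] {P₁ P₂ B U H V R W Y D : Subgroup G} {n₁ n₂ : G} {q r : ℕ}

section

variable (h : Hex P₁ P₂ B U H V R W Y D n₁ n₂ q r)
include h

theorem exists_swap : ∃ l ∈ LL n₁ n₂ R, n₁⁻¹ * l ∈ B ∧ l * n₁ ∈ B := by
  obtain ⟨l, hl, hlB⟩ := LL_trans h h.n₁P
  have h1 : n₁⁻¹ * l ∈ B := by
    have := B.inv_mem hlB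
    rwa [mul_inv_rev, inv_inv] at this
  have h2 : n₁⁻¹ * (l * n₁) ∉ B := by
    intro hc
    rw [← mul_assoc] at hc
    exact h.n₁B ((B.mul_mem_cancel_left h1).1 hc)
  obtain ⟨f, hf, hfx⟩ := h.transRp (P₁.mul_mem (LL_le_P₁ h hl) h.n₁P) h2
  refine ⟨f⁻¹ * l, mul_mem (inv_mem (mem_sup_right hf)) hl, ?_, ?_⟩
  · have h3 : n₁⁻¹ * f * n₁ ∈ B := h.UB (h.Rm_le_U (mem_cj.1 hf))
    have e1 : n₁⁻¹ * (f⁻¹ * l) = (n₁⁻¹ * f * n₁)⁻¹ * (n₁⁻¹ * l) := by group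
    rw [e1]
    exact B.mul_mem (B.inv_mem h3) h1
  · rw [mul_assoc]; exact hfx

theorem H_le_cj : H ≤ cj n₁ B := by
  intro x hx
  exact h.H₁ ⟨h.HB hx, le_normalizer hx⟩

theorem H_norm_LL {x : G} (hx : x ∈ H) {l : G} (hl : l ∈ LL n₁ n₂ R) : x * l * x⁻¹ ∈ LL n₁ n₂ R := by
  have h1 : cj x (LL n₁ n₂ R) = LL n₁ n₂ R := by
    rw [LL, cj_sup, cj_eq_self_iff.2 (h.HnRm hx), cj_eq_self_iff.2 (h.HnRp hx)]
  rw [← h1]
  exact conj_mem_cj hl

theorem thick (i : Bool) : ∃ b ∈ h.frame.B, h.frame.n i * b * (h.frame.n i)⁻¹ ∉ h.frame.B := by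
  have key : ∀ n b : G, n * n ∈ B → n * b * n⁻¹ ∈ B → n⁻¹ * b * n ∈ B := by
    intro n b hn hb
    have e : n⁻¹ * b * n = (n * n)⁻¹ * (n * b * n⁻¹) * (n * n) := by group
    rw [e]
    exact B.mul_mem (B.mul_mem (B.inv_mem hn) hb) hn
  cases i
  · obtain ⟨e, he, he1⟩ := exists_ne_Rm h
    refine ⟨e, h.UB (h.Rm_le_U he), fun hc => he1 (h.Rm_semireg he (key _ _ h.n₁sq hc))⟩
  · have h1 : ∃ y ∈ Y, y ∉ W := by
      by_contra hcon
      push Not at hcon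
      have h2 : W ⊓ Y = Y := inf_eq_right.2 hcon
      have h3 := h.cY
      rw [h2] at h3
      have h4 : 0 < Nat.card Y := Nat.card_pos
      have h5 := h.r4
      nlinarith
    obtain ⟨y, hy, hyW⟩ := h1
    refine ⟨y, h.YB hy, fun hc => hyW (h.ker₂ ⟨hy, mem_cj.2 (key _ _ h.n₂sq hc)⟩)⟩

end

section

variable (h : Hex P₁ P₂ B U H V R W Y D n₁ n₂ q r) (g : Glob H R)
include h g

/-- `C_U(A) = R₋₂` -/
theorem inf_cent : ∀ x ∈ U, (∀ a ∈ CH H (cj n₁ (cj n₂ (cj n₁ R))), x * a = a * x) →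
    x ∈ cj n₂ (cj n₁ R) := by
  intro x hx hc
  have h1 : U ⊓ centralizer (CH H (cj n₁ (cj n₂ (cj n₁ R))) : Set G) ≤ cj n₂ (cj n₁ R) := by
    refine sylm h g (h.two.to_le inf_le_left) ?_ ?_
    · intro y hy a ha
      exact ((mem_centralizer_iff.1 hy.2) a ha).symm
    · refine le_inf h.Rm_le_U fun y hy => mem_centralizer_iff.2 fun a ha => ?_
      exact (LL_comm h y (mem_sup_left hy) a ha).symm
  exact h1 ⟨hx, mem_centralizer_iff.2 fun a ha => (hc a ha).symm⟩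

/-- the stabiliser in `L` of the two `H`-invariant points is in `H` -/
theorem stab_le_H : LL n₁ n₂ R ⊓ (B ⊓ cj n₁ B) ≤ H := by
  set T := LL n₁ n₂ R ⊓ (B ⊓ cj n₁ B) with hT
  have hodd : Odd (Nat.card T) := by
    rw [← Nat.not_even_iff_odd, even_iff_two_dvd]
    intro hdvd
    obtain ⟨⟨t, ht⟩, hto⟩ := exists_prime_orderOf_dvd_card' 2 hdvd
    rw [orderOf_mk] at hto
    have ht1 : t ≠ 1 := fun hc => by rw [hc, orderOf_one] at hto; omega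
    have hn : t ∈ normalizer (cj n₂ (cj n₁ R) : Set G) := by
      refine mem_normalizer_of_conj fun e he => ?_
      refine inf_cent h g _ (conj_mem_of_normalizer (h.nU ht.2.1) (h.Rm_le_U he)) fun a ha => ?_
      have h1 := LL_comm h t ht.1 a ha
      have h2 := LL_comm h e (mem_sup_left he) a ha
      have h3 : t⁻¹ * a = a * t⁻¹ := by
        calc t⁻¹ * a = t⁻¹ * (a * t) * t⁻¹ := by group
          _ = t⁻¹ * (t * a) * t⁻¹ := by rw [h1]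
          _ = _ := by group
      calc t * e * t⁻¹ * a = t * e * (t⁻¹ * a) := by group
        _ = t * (e * a) * t⁻¹ := by rw [h3]; group
        _ = (t * a) * e * t⁻¹ := by rw [h2]; group
        _ = a * (t * e * t⁻¹) := by rw [h1]; group
    have hz : IsPGroup 2 (zpowers t) := by
      refine IsPGroup.of_card (n := 1) ?_
      rw [Nat.card_zpowers, hto, pow_one]
    have h2g : IsPGroup 2 ((zpowers t ⊔ cj n₂ (cj n₁ R) : Subgroup G)) :=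
      IsPGroup.to_sup_of_normal_right' hz (isPGroup_cj (isPGroup_cj (two_R h)))
        (by rw [zpowers_le]; exact hn)
    have h3 := sylm h g h2g (by
      intro x hx a ha
      refine LL_comm h x ?_ a ha
      refine (sup_le ?_ le_sup_left : _ ≤ LL n₁ n₂ R) hx
      rw [zpowers_le]; exact ht.1) le_sup_right
    have h4 : t ∈ cj n₂ (cj n₁ R) := h3 (mem_sup_left (mem_zpowers t))
    exact ht1 (h.Rm_semireg h4 (mem_cj.1 ht.2.2))
  have hHT : ∀ x ∈ H, x ∈ normalizer (T : Set G) := by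
    intro x hx
    refine mem_normalizer_of_conj fun y hy => ⟨H_norm_LL h hx hy.1, ?_, ?_⟩
    · exact B.mul_mem (B.mul_mem (h.HB hx) hy.2.1) (B.inv_mem (h.HB hx))
    · have h1 := H_le_cj h hx
      exact (cj n₁ B).mul_mem ((cj n₁ B).mul_mem h1 hy.2.2) ((cj n₁ B).inv_mem h1)
  have hcard : Odd (Nat.card (H ⊔ T : Subgroup G)) := by
    have h1 : Nat.card (H ⊔ T : Subgroup G) ∣ Nat.card H * Nat.card T := by
      have h2 := Lib.ProductSet.card_mul_card_inf H T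
      have h3 : ((H : Set G) * (T : Set G)) = ((H ⊔ T : Subgroup G) : Set G) :=
        (coe_mul_of_left_le_normalizer_right H T hHT).symm
      rw [h3] at h2
      exact Dvd.intro _ h2
    exact Odd.of_dvd_nat (h.oddH.mul hodd) h1
  have h5 := h.hall (H ⊔ T) (sup_le h.HB (inf_le_right.trans inf_le_left)) le_sup_left hcard
  exact le_sup_right.trans h5

theorem exists_l : ∃ l ∈ LL n₁ n₂ R, n₁⁻¹ * l ∈ h.frame.H₁ := by
  obtain ⟨l, hl, hl1, hl2⟩ := exists_swap h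
  refine ⟨l, hl, ?_⟩
  have hn : l⁻¹ ∈ normalizer (H : Set G) := by
    refine mem_normalizer_of_conj fun x hx => ?_
    rw [inv_inv]
    have h1 : l⁻¹ * x * l * x⁻¹ ∈ LL n₁ n₂ R := by
      have := H_norm_LL h hx hl
      have e1 : l⁻¹ * x * l * x⁻¹ = l⁻¹ * (x * l * x⁻¹) := by group
      rw [e1]
      exact mul_mem (inv_mem hl) this
    have h2 : l⁻¹ * x * l ∈ B := by
      have h3 : n₁⁻¹ * x * n₁ ∈ B := mem_cj.1 (H_le_cj h hx)
      have e1 : l⁻¹ * x * l = (n₁⁻¹ * l)⁻¹ * (n₁⁻¹ * x * n₁) * (n₁⁻¹ * l) := by group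
      rw [e1]
      exact B.mul_mem (B.mul_mem (B.inv_mem hl1) h3) hl1
    have h4 : l⁻¹ * x * l ∈ cj n₁ B := by
      rw [mem_cj]
      have e1 : n₁⁻¹ * (l⁻¹ * x * l) * n₁ = (l * n₁)⁻¹ * x * (l * n₁) := by group
      rw [e1]
      exact B.mul_mem (B.mul_mem (B.inv_mem hl2) (h.HB hx)) hl2
    have h5 : l⁻¹ * x * l * x⁻¹ ∈ H :=
      stab_le_H h g ⟨h1, B.mul_mem h2 (B.inv_mem (h.HB hx)),
        (cj n₁ B).mul_mem h4 ((cj n₁ B).inv_mem (H_le_cj h hx))⟩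
    have e6 : l⁻¹ * x * l = (l⁻¹ * x * l * x⁻¹) * x := by group
    rw [e6]
    exact H.mul_mem h5 hx
  exact ⟨hl1, (normalizer (H : Set G)).mul_mem ((normalizer (H : Set G)).inv_mem h.n₁H)
    ((normalizer (H : Set G)).inv_mem_iff.1 hn)⟩

/-- THE BRAID RELATION of length six. -/
theorem braid (hB : Bender.{u}) : h.frame.Braid 6 := by
  obtain ⟨l, hl, hl1⟩ := exists_l h g
  refine h.frame.braid_of_root (m := 5) (i := false) hB (root h g) hl hl1 (LL_le_P₁ h)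
    (by decide) ?_
  intro a ha
  have hw : alt h.frame.n (!false) 5 = n₂ * (n₁ * (n₂ * (n₁ * n₂))) := by
    simp [alt_succ]
  rw [hw]
  set w := n₂ * (n₁ * (n₂ * (n₁ * n₂))) with hwd
  have hwH : w ∈ normalizer (H : Set G) :=
    mul_mem h.n₂H (mul_mem h.n₁H (mul_mem h.n₂H (mul_mem h.n₁H h.n₂H)))
  have h1 : cj w (cj n₂ (cj n₁ R)) = cj n₂ (cj n₁ R) := by
    have h2 : cj n₂ (cj n₂ (cj n₁ R)) = cj n₁ R := by
      rw [← cj_mul]
      exact cj_eq_self_iff.2 (h.nR2 ⟨h.n₂sq, mul_mem h.n₂H h.n₂H⟩)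
    rw [hwd, cj_mul, cj_mul, cj_mul, cj_mul, h2, h.sq₁ h.BnR, h.cj_n₂R]
  have h3 : cj w (CH H (cj n₁ (cj n₂ (cj n₁ R)))) = CH H (cj n₁ (cj n₂ (cj n₁ R))) := by
    rw [← h.CH_eq, cj_CH_of_mem hwH, h1]
  rw [← h3] at ha
  exact mem_cj.1 ha

/-- **CLOSING of the node `b = 2`** (types `G₂(q)`, `³D₄(q)`): `⟨P₁, P₂⟩` has a split BN-pair of rank
two. -/
theorem exists_split (hB : Bender.{u}) (hp : ∀ k < 6, h.frame.PathTo k) {X : Subgroup G}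
    (hX : P₁ ⊔ P₂ = X) :
    ∃ Q : Cfsg.BNPair X, Q.rank = 2 ∧ Q.IsSplit ∧ Q.B = B.subgroupOf X ∧
      (∀ x : X, x ∈ Q.N ↔ (x : G) ∈ h.frame.N) := by
  refine h.frame.exists_split_sup (braid h g hB) (by norm_num) hp (thick h) U h.UB
    (fun b hb u hu => conj_mem_of_normalizer (h.nU hb) hu) (h.two.isNilpotent) h.frat hX

end

end Cfsg.Agent.Omega.Hex

end

section


/-!
# (PATH) of THEOREM R2T for the `b = 2` node (types `G₂(q)`, `³D₄(q)`), blueprint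
`OMEGA-EH5-b2-helper195.md`, section 2.

`Tr B P F g` : `F` is transitive on the cosets `≠ gB` in `gP/B`.  `Loc` : the local facts, for arbitrary
elements `p ∈ Pᵢ ∖ B`; `Hex.loc` : they follow from `Hex` (orders!).  `Loc.one_k`, `Loc.two_k` : the group
which fixes the first chambers of an alternating gallery is transitive on the next panel.
-/

set_option autoImplicit false
set_option linter.dupNamespace false

universe u

namespace Cfsg.Agent.Omega.Hex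

open Subgroup Cfsg.Agent.Omega.BTwo
open scoped Pointwise

variable {G : Type u} [Group G]

/-- `F` is transitive on the cosets `≠ gB` in `gP/B` -/
def Tr (B P F : Subgroup G) (g : G) : Prop :=
  ∀ p ∈ P, p ∉ B → ∀ p' ∈ P, p' ∉ B → ∃ f ∈ F, (g * p')⁻¹ * f * (g * p) ∈ B

theorem Tr.mono {B P F F' : Subgroup G} {g : G} (h : Tr B P F g) (hF : F ≤ F') : Tr B P F' g := by
  intro p hp hp1 p' hp' hp1'
  obtain ⟨f, hf, e⟩ := h p hp hp1 p' hp' hp1'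
  exact ⟨f, hF hf, e⟩

/-- moving the base point -/
theorem Tr.cj {B P F : Subgroup G} {g : G} (x : G) (h : Tr B P F g) :
    Tr B P (BTwo.cj x F) (x * g) := by
  intro p hp hp1 p' hp' hp1'
  obtain ⟨f, hf, e⟩ := h p hp hp1 p' hp' hp1'
  refine ⟨x * f * x⁻¹, conj_mem_cj hf, ?_⟩
  have e1 : (x * g * p')⁻¹ * (x * f * x⁻¹) * (x * g * p) = (g * p')⁻¹ * f * (g * p) := by group
  rwa [e1]

theorem Tr.of_cj {B P F : Subgroup G} {x : G} (h : Tr B P (BTwo.cj x⁻¹ F) 1) : Tr B P F x := by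
  have := h.cj x
  rwa [cj_cj_inv, mul_one] at this

/-- if `F K = F'` and `K` fixes all cosets, `F` is transitive as soon as `F'` is -/
theorem Tr.of_mul {B P F F' K : Subgroup G} (h : Tr B P F' 1)
    (hF : ∀ x ∈ F', ∃ f ∈ F, ∃ k ∈ K, f * k = x)
    (hK : ∀ k ∈ K, ∀ p ∈ P, p⁻¹ * k * p ∈ B) : Tr B P F 1 := by
  intro p hp hp1 p' hp' hp1'
  obtain ⟨x, hx, e⟩ := h p hp hp1 p' hp' hp1'
  obtain ⟨f, hf, k, hk, rfl⟩ := hF x hx
  refine ⟨f, hf, ?_⟩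
  have h1 := hK k hk p hp
  rw [one_mul] at e ⊢
  have e2 : p'⁻¹ * f * (1 * p) = p'⁻¹ * (f * k) * (1 * p) * (p⁻¹ * k * p)⁻¹ := by group
  rw [e2]
  exact B.mul_mem e (B.inv_mem h1)

theorem exists_mul_of_card [Finite G] {F K Y : Subgroup G} (hF : F ≤ Y) (hK : K ≤ Y)
    (hc : Nat.card Y * Nat.card (F ⊓ K : Subgroup G) ≤ Nat.card F * Nat.card K) :
    ∀ y ∈ Y, ∃ f ∈ F, ∃ k ∈ K, f * k = y := by
  have h1 := Lib.ProductSet.card_mul_card_inf F K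
  have h0 : 0 < Nat.card (F ⊓ K : Subgroup G) := Nat.card_pos
  have h2 : Nat.card Y ≤ Nat.card ((F : Set G) * (K : Set G) : Set G) := by
    rw [← h1] at hc
    exact Nat.le_of_mul_le_mul_right hc h0
  have h3 : ((F : Set G) * (K : Set G) : Set G) ⊆ (Y : Set G) := by
    rintro _ ⟨f, hf, k, hk, rfl⟩
    exact Y.mul_mem (hF hf) (hK hk)
  have h4 : ((F : Set G) * (K : Set G) : Set G) = (Y : Set G) := by
    apply Set.eq_of_subset_of_ncard_le h3 _ (Set.toFinite _)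
    rw [Set.ncard_def, Set.ncard_def]
    exact h2
  intro y hy
  have : y ∈ ((F : Set G) * (K : Set G) : Set G) := by rw [h4]; exact hy
  obtain ⟨f, hf, k, hk, e⟩ := this
  exact ⟨f, hf, k, hk, e⟩

/-- The local data, for arbitrary elements of `P₁ ∖ B`, `P₂ ∖ B`. -/
structure Loc (B P₁ P₂ R V D W Y : Subgroup G) : Prop where
  B_le₁ : B ≤ P₁
  B_le₂ : B ≤ P₂
  W_le : W ≤ B
  Y_le : Y ≤ B
  W_nrm : ∀ p ∈ P₂, cj p W = W
  R_nrm : ∀ p ∈ P₂, cj p R = R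
  Y_nrm : ∀ p ∈ P₁, cj p Y = Y
  V_nrm : ∀ p ∈ P₁, cj p V = V
  D_nrm : ∀ p ∈ P₁, cj p D = D
  R_le : R ≤ V
  V_le : V ≤ D
  D_le_Y : D ≤ Y
  D_eq : ∀ p ∈ P₁, p ∉ B → W ⊓ cj p W = D
  ex₁ : ∃ p ∈ P₁, p ∉ B
  /-- (t1) -/
  t1 : Tr B P₁ W 1
  /-- (t2) -/
  t2 : Tr B P₂ Y 1
  /-- `Y = U_j U_i` -/
  Y_gen : ∀ p ∈ P₁, p ∉ B → ∀ y ∈ Y, ∃ u ∈ cj p (W ⊓ Y), ∃ u' ∈ W ⊓ Y, u * u' = y
  /-- (t3) -/
  R_gen : ∀ p ∈ P₂, p ∉ B → ∀ p' ∈ P₁, p' ∉ B → ∀ w ∈ W, ∃ r ∈ cj (p * p') R, ∃ u ∈ W ⊓ Y, r * u = w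
  R_inf : ∀ p ∈ P₂, p ∉ B → ∀ p' ∈ P₁, p' ∉ B → cj (p * p') R ⊓ Y = ⊥
  V_inf : ∀ p ∈ P₂, p ∉ B → cj p V ⊓ Y = R
  /-- (H5) -/
  H5 : ∀ p ∈ P₂, p ∉ B → D ⊓ cj p D = R
  /-- `|Y : W ∩ Y| = |D : V|` -/
  card : Nat.card Y * Nat.card V = Nat.card (W ⊓ Y : Subgroup G) * Nat.card D

namespace Loc

variable {B P₁ P₂ R V D W Y : Subgroup G} (h : Loc B P₁ P₂ R V D W Y)
include h

theorem D_le_W : D ≤ W := by
  obtain ⟨p, hp, hpB⟩ := h.ex₁
  rw [← h.D_eq p hp hpB]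
  exact inf_le_left

theorem W_fix {w p : G} (hw : w ∈ W) (hp : p ∈ P₂) : p⁻¹ * w * p ∈ W := by
  rw [← h.W_nrm p hp] at hw
  exact mem_cj.1 hw

theorem Y_fix {w p : G} (hw : w ∈ Y) (hp : p ∈ P₁) : p⁻¹ * w * p ∈ Y := by
  rw [← h.Y_nrm p hp] at hw
  exact mem_cj.1 hw

theorem V_fix {w p : G} (hw : w ∈ V) (hp : p ∈ P₁) : p⁻¹ * w * p ∈ V := by
  rw [← h.V_nrm p hp] at hw
  exact mem_cj.1 hw

/-- `W = V (W ∩ Y^{p⁻¹})` -/
theorem W_split {p a : G} (hp : p ∈ P₂) (hpB : p ∉ B) (ha : a ∈ W) :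
    ∃ b ∈ W ⊓ cj p⁻¹ Y, ∃ v ∈ V, b * v = a := by
  obtain ⟨p', hp', hpB'⟩ := h.ex₁
  have ha' : p * a * p⁻¹ ∈ W := by
    have := conj_mem_cj (g := p) ha
    rwa [h.W_nrm p hp] at this
  obtain ⟨r, hr, u, hu, e⟩ := h.R_gen p hp hpB p' hp' hpB' _ ha'
  have hr' : p⁻¹ * r * p ∈ V := by
    rw [cj_mul, mem_cj] at hr
    have h1 := cj_mono (g := p') h.R_le hr
    rwa [h.V_nrm p' hp'] at h1
  have hu1 : p⁻¹ * u * p ∈ W := h.W_fix hu.1 hp
  have hu2 : p⁻¹ * u * p ∈ cj p⁻¹ Y := by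
    have := conj_mem_cj (g := p⁻¹) hu.2
    rwa [inv_inv] at this
  set v := p⁻¹ * r * p with hv
  set b := p⁻¹ * u * p with hb
  have e1 : v * b = a := by
    rw [hv, hb]
    have : p⁻¹ * r * p * (p⁻¹ * u * p) = p⁻¹ * (r * u) * p := by group
    rw [this, e]; group
  have hbP : b ∈ P₁ := h.B_le₁ (h.W_le hu1)
  refine ⟨b, ⟨hu1, hu2⟩, b⁻¹ * v * b, h.V_fix hr' hbP, ?_⟩
  rw [← e1]; group

theorem tr_R {p p' : G} (hp : p ∈ P₂) (hpB : p ∉ B) (hp' : p' ∈ P₁) (hpB' : p' ∉ B) :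
    Tr B P₁ (cj (p * p') R) 1 :=
  h.t1.of_mul (K := W ⊓ Y) (h.R_gen p hp hpB p' hp' hpB')
    (fun _ hk _ hq => h.Y_le (h.Y_fix hk.2 hq))

theorem tr_V {p : G} (hp : p ∈ P₂) (hpB : p ∉ B) : Tr B P₁ (cj p V) 1 := by
  obtain ⟨p', hp', hpB'⟩ := h.ex₁
  refine (h.tr_R hp hpB hp' hpB').mono ?_
  rw [cj_mul]
  apply cj_mono
  have := cj_mono (g := p') h.R_le
  rwa [h.V_nrm p' hp'] at this

omit h in
theorem inv_notMem {p : G} (hpB : p ∉ B) : p⁻¹ ∉ B := fun hc => hpB (by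
  have := B.inv_mem hc
  rwa [inv_inv] at this)

/-- a subgroup `F` of `Y` with `|F : F ∩ W| ≥ |D : V|` is transitive on the panel of `P₂` -/
theorem tr_of_card [Finite G] {F : Subgroup G} (hF : F ≤ Y)
    (hc : Nat.card D * Nat.card (F ⊓ W : Subgroup G) ≤ Nat.card V * Nat.card F) : Tr B P₂ F 1 := by
  refine h.t2.of_mul (K := W ⊓ Y) ?_ (fun k hk q hq => h.W_le (h.W_fix hk.1 hq))
  apply exists_mul_of_card hF inf_le_right
  have e : F ⊓ (W ⊓ Y) = F ⊓ W := by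
    rw [← inf_assoc, inf_eq_left]
    exact inf_le_left.trans hF
  rw [e]
  have hV : 0 < Nat.card V := Nat.card_pos
  apply Nat.le_of_mul_le_mul_right _ hV
  calc Nat.card Y * Nat.card (F ⊓ W : Subgroup G) * Nat.card V
      = (Nat.card Y * Nat.card V) * Nat.card (F ⊓ W : Subgroup G) := by ring
    _ = Nat.card (W ⊓ Y : Subgroup G) * (Nat.card D * Nat.card (F ⊓ W : Subgroup G)) := by
        rw [h.card]; ring
    _ ≤ Nat.card (W ⊓ Y : Subgroup G) * (Nat.card V * Nat.card F) := Nat.mul_le_mul_left _ hc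
    _ = Nat.card F * Nat.card (W ⊓ Y : Subgroup G) * Nat.card V := by ring

/-- `|D : D ∩ Y^p| = |V : R|` -/
theorem card_D_inf [Finite G] {p : G} (hp : p ∈ P₂) (hpB : p ∉ B) :
    Nat.card (D ⊓ cj p Y : Subgroup G) * Nat.card V = Nat.card D * Nat.card R := by
  have h1 := Lib.ProductSet.card_mul_card_inf (D ⊓ cj p Y) V
  have h2 : ((D ⊓ cj p Y : Subgroup G) : Set G) * (V : Set G) = (D : Set G) := by
    apply Set.eq_of_subset_of_subset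
    · rintro _ ⟨a, ha, v, hv, rfl⟩
      exact D.mul_mem ha.1 (h.V_le hv)
    · intro d hd
      obtain ⟨b, hb, v, hv, e⟩ := h.W_split (P₂.inv_mem hp) (inv_notMem hpB) (h.D_le_W hd)
      rw [inv_inv] at hb
      refine ⟨b, ⟨?_, hb.2⟩, v, hv, e⟩
      have : b = d * v⁻¹ := by rw [← e]; group
      rw [this]
      exact D.mul_mem hd (D.inv_mem (h.V_le hv))
  have h3 : (D ⊓ cj p Y) ⊓ V = R := by
    have h4 := congrArg (cj p) (h.V_inf p⁻¹ (P₂.inv_mem hp) (inv_notMem hpB))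
    rw [cj_inf, cj_cj_inv, h.R_nrm p hp] at h4
    rw [← h4]
    apply le_antisymm
    · exact le_inf inf_le_right (inf_le_left.trans inf_le_right)
    · exact le_inf (le_inf (inf_le_left.trans h.V_le) inf_le_right) inf_le_left
  rw [h3] at h1
  rw [← h1]
  congr 1
  rw [← SetLike.coe_sort_coe D, ← h2]

/-! ### type 1 -/

theorem one_two {p1 : G} (h1 : p1 ∈ P₁) : Tr B P₂ Y p1 := by
  apply Tr.of_cj
  rw [h.Y_nrm _ (P₁.inv_mem h1)]
  exact h.t2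

theorem one_three {p2 : G} (h2 : p2 ∈ P₂) (n2 : p2 ∉ B) : Tr B P₁ (W ⊓ Y) p2 := by
  apply Tr.of_cj
  refine (h.tr_V (P₂.inv_mem h2) (inv_notMem n2)).mono ?_
  apply cj_mono
  exact le_inf (h.V_le.trans h.D_le_W) (h.V_le.trans h.D_le_Y)

/-- `F₄` in the coordinates of the third chamber -/
theorem one_four {p2 p3 : G} (h2 : p2 ∈ P₂) (n2 : p2 ∉ B) (h3 : p3 ∈ P₁) (n3 : p3 ∉ B) :
    Tr B P₂ (W ⊓ cj p2⁻¹ Y ⊓ Y) p3 := by
  apply Tr.of_cj
  refine h.t2.of_mul (K := W ⊓ Y) ?_ (fun k hk q hq => h.W_le (h.W_fix hk.1 hq))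
  intro y hy
  obtain ⟨u, hu, u', hu', e⟩ := h.Y_gen p3⁻¹ (P₁.inv_mem h3) (inv_notMem n3) y hy
  rw [mem_cj, inv_inv] at hu
  obtain ⟨b, hb, v, hv, e1⟩ := h.W_split h2 n2 hu.1
  have hvY : v ∈ Y := h.D_le_Y (h.V_le hv)
  have hbY : b ∈ Y := by
    have : b = p3 * u * p3⁻¹ * v⁻¹ := by rw [← e1]; group
    rw [this]
    exact Y.mul_mem hu.2 (Y.inv_mem hvY)
  have hv' : p3⁻¹ * v * p3 ∈ V := h.V_fix hv h3
  refine ⟨p3⁻¹ * b * p3, ?_, p3⁻¹ * v * p3 * u', ?_, ?_⟩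
  · have := conj_mem_cj (g := p3⁻¹) (H := W ⊓ cj p2⁻¹ Y ⊓ Y) ⟨hb, hbY⟩
    rwa [inv_inv] at this
  · exact ⟨W.mul_mem (h.D_le_W (h.V_le hv')) hu'.1, Y.mul_mem (h.D_le_Y (h.V_le hv')) hu'.2⟩
  · have e2 : p3⁻¹ * b * p3 * (p3⁻¹ * v * p3 * u') = p3⁻¹ * (b * v) * p3 * u' := by group
    rw [e2, e1, ← e]; group

theorem one_five {p3 p4 : G} (h3 : p3 ∈ P₁) (n3 : p3 ∉ B) (h4 : p4 ∈ P₂) (n4 : p4 ∉ B) :
    Tr B P₁ R (p3 * p4) := by
  apply Tr.of_cj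
  rw [mul_inv_rev]
  exact h.tr_R (P₂.inv_mem h4) (inv_notMem n4) (P₁.inv_mem h3) (inv_notMem n3)

theorem one_six [Finite G] {p2 p3 p4 p5 : G} (h2 : p2 ∈ P₂) (n2 : p2 ∉ B) (h3 : p3 ∈ P₁)
    (n3 : p3 ∉ B) (h4 : p4 ∈ P₂) (n4 : p4 ∉ B) (h5 : p5 ∈ P₁) (n5 : p5 ∉ B) :
    Tr B P₂ (D ⊓ cj p2⁻¹ Y ⊓ cj (p3 * p4) Y) (p3 * p4 * p5) := by
  apply Tr.of_cj
  set E := D ⊓ cj p2⁻¹ Y ⊓ cj (p3 * p4) Y with hE
  have h34 : cj (p3 * p4 * p5) Y = cj (p3 * p4) Y := by rw [cj_mul (p3 * p4), h.Y_nrm p5 h5]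
  have hDW3 : D ≤ cj (p3 * p4) W := by
    rw [cj_mul, h.W_nrm p4 h4, ← h.D_eq p3 h3 n3]
    exact inf_le_right
  have hEW : E ⊓ cj (p3 * p4 * p5) W = ⊥ := by
    rw [eq_bot_iff]
    intro x hx
    have hxD : x ∈ D := hx.1.1.1
    have hx1 : x ∈ cj (p3 * p4) D := by
      rw [← h.D_eq p5 h5 n5, cj_inf, ← cj_mul]
      exact ⟨hDW3 hxD, hx.2⟩
    have hx2 : x ∈ cj p3 R := by
      rw [← h.H5 p4 h4 n4, cj_inf, h.D_nrm p3 h3, ← cj_mul]
      exact ⟨hxD, hx1⟩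
    have hx3 : p2 * x * p2⁻¹ ∈ cj (p2 * p3) R ⊓ Y := by
      refine ⟨?_, ?_⟩
      · rw [cj_mul]; exact conj_mem_cj hx2
      · have := mem_cj.1 hx.1.1.2
        rwa [inv_inv] at this
    rw [h.R_inf p2 h2 n2 p3 h3 n3, mem_bot] at hx3
    rw [mem_bot]
    have : x = p2⁻¹ * (p2 * x * p2⁻¹) * p2 := by group
    rw [this, hx3]; group
  -- `|E| |V| = |D|`
  have hEc : Nat.card E * Nat.card V = Nat.card D := by
    have c1 := h.card_D_inf (P₂.inv_mem h2) (inv_notMem n2)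
    have c2 := Lib.ProductSet.card_mul_card_inf E R
    have hR1 : R ≤ D ⊓ cj p2⁻¹ Y := by
      refine le_inf (h.R_le.trans h.V_le) ?_
      rw [← h.R_nrm p2⁻¹ (P₂.inv_mem h2)]
      exact cj_mono (h.R_le.trans (h.V_le.trans h.D_le_Y))
    have c3 : ((E : Subgroup G) : Set G) * (R : Set G) = ((D ⊓ cj p2⁻¹ Y : Subgroup G) : Set G) := by
      apply Set.eq_of_subset_of_subset
      · rintro _ ⟨a, ha, v, hv, rfl⟩
        exact (D ⊓ cj p2⁻¹ Y).mul_mem ha.1 (hR1 hv)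
      · intro d hd
        -- `(p3 p4)⁻¹ d (p3 p4) ∈ W`
        have hd1 : (p3 * p4)⁻¹ * d⁻¹ * (p3 * p4) ∈ W := mem_cj.1 (hDW3 (D.inv_mem hd.1))
        obtain ⟨r, hr, u, hu, e⟩ := h.R_gen p4⁻¹ (P₂.inv_mem h4) (inv_notMem n4) p3⁻¹
          (P₁.inv_mem h3) (inv_notMem n3) _ hd1
        rw [← mul_inv_rev, mem_cj, inv_inv] at hr
        refine ⟨(p3 * p4) * u⁻¹ * (p3 * p4)⁻¹, ?_, ((p3 * p4) * r * (p3 * p4)⁻¹)⁻¹, R.inv_mem hr, ?_⟩
        · have hx : (p3 * p4) * u⁻¹ * (p3 * p4)⁻¹ ∈ cj (p3 * p4) Y :=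
            conj_mem_cj (Y.inv_mem hu.2)
          refine ⟨?_, hx⟩
          have e3 : (p3 * p4) * u⁻¹ * (p3 * p4)⁻¹ = d * ((p3 * p4) * r * (p3 * p4)⁻¹) := by
            have : u = r⁻¹ * ((p3 * p4)⁻¹ * d⁻¹ * (p3 * p4)) := by rw [← e]; group
            rw [this]; group
          rw [e3]
          exact (D ⊓ cj p2⁻¹ Y).mul_mem hd (hR1 hr)
        · have : u = r⁻¹ * ((p3 * p4)⁻¹ * d⁻¹ * (p3 * p4)) := by rw [← e]; group
          rw [this]; group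
    have c4 : E ⊓ R = ⊥ := by
      rw [eq_bot_iff]
      intro x hx
      have h1 : (p3 * p4)⁻¹ * x * (p3 * p4) ∈ cj (p4⁻¹ * p3⁻¹) R ⊓ Y := by
        refine ⟨?_, mem_cj.1 hx.1.2⟩
        rw [← mul_inv_rev]
        refine mem_cj.2 ?_
        rw [inv_inv]
        have : (p3 * p4) * ((p3 * p4)⁻¹ * x * (p3 * p4)) * (p3 * p4)⁻¹ = x := by group
        rw [this]; exact hx.2
      rw [h.R_inf p4⁻¹ (P₂.inv_mem h4) (inv_notMem n4) p3⁻¹ (P₁.inv_mem h3) (inv_notMem n3),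
        mem_bot] at h1
      rw [mem_bot]
      have : x = (p3 * p4) * ((p3 * p4)⁻¹ * x * (p3 * p4)) * (p3 * p4)⁻¹ := by group
      rw [this, h1]; group
    rw [c4, c3, Subgroup.card_bot, mul_one] at c2
    have hR : 0 < Nat.card R := Nat.card_pos
    apply Nat.eq_of_mul_eq_mul_right hR
    rw [← c1]
    have c5 : Nat.card ((D ⊓ cj p2⁻¹ Y : Subgroup G) : Set G) =
        Nat.card (D ⊓ cj p2⁻¹ Y : Subgroup G) := rfl
    rw [← c5, c2]
    ring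
  have hF : cj (p3 * p4 * p5)⁻¹ E ≤ Y := by
    have h1 : E ≤ cj (p3 * p4 * p5) Y := by rw [h34]; exact inf_le_right
    have := cj_mono (g := (p3 * p4 * p5)⁻¹) h1
    rwa [cj_inv_cj] at this
  apply h.tr_of_card hF
  have e1 : cj (p3 * p4 * p5)⁻¹ E ⊓ W = ⊥ := by
    have := congrArg (cj (p3 * p4 * p5)⁻¹) hEW
    rwa [cj_inf, cj_inv_cj, cj_bot] at this
  rw [e1, Subgroup.card_bot, mul_one, card_cj, mul_comm, hEc]

/-! ### type 2 -/

theorem two_two {p1 : G} (h1 : p1 ∈ P₂) : Tr B P₁ W p1 := by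
  apply Tr.of_cj
  rw [h.W_nrm _ (P₂.inv_mem h1)]
  exact h.t1

theorem two_three {p2 : G} (h2 : p2 ∈ P₁) (n2 : p2 ∉ B) : Tr B P₂ (W ⊓ Y) p2 := by
  apply Tr.of_cj
  refine h.t2.of_mul (K := W ⊓ Y) ?_ (fun k hk q hq => h.W_le (h.W_fix hk.1 hq))
  exact h.Y_gen p2⁻¹ (P₁.inv_mem h2) (inv_notMem n2)

theorem two_four {p3 : G} (h3 : p3 ∈ P₂) (n3 : p3 ∉ B) : Tr B P₁ D p3 := by
  apply Tr.of_cj
  exact (h.tr_V (P₂.inv_mem h3) (inv_notMem n3)).mono (cj_mono h.V_le)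

theorem two_five [Finite G] {p3 p4 : G} (h3 : p3 ∈ P₂) (n3 : p3 ∉ B) (h4 : p4 ∈ P₁) (n4 : p4 ∉ B) :
    Tr B P₂ (D ⊓ cj p3 Y) (p3 * p4) := by
  apply Tr.of_cj
  have hF : cj (p3 * p4)⁻¹ (D ⊓ cj p3 Y) ≤ Y := by
    have h1 := cj_mono (g := (p3 * p4)⁻¹) (inf_le_right : D ⊓ cj p3 Y ≤ cj p3 Y)
    have h2 : cj (p3 * p4)⁻¹ (cj p3 Y) = Y := by
      rw [mul_inv_rev, cj_mul, cj_inv_cj, h.Y_nrm _ (P₁.inv_mem h4)]
    rwa [h2] at h1
  apply h.tr_of_card hF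
  have e1 : cj (p3 * p4)⁻¹ (D ⊓ cj p3 Y) ⊓ W ≤ cj (p3 * p4)⁻¹ R := by
    have h1 : (D ⊓ cj p3 Y) ⊓ cj (p3 * p4) W ≤ R := by
      rintro x ⟨⟨hx1, -⟩, hx2⟩
      rw [← h.H5 p3 h3 n3]
      refine ⟨hx1, ?_⟩
      rw [← h.D_eq p4 h4 n4, cj_inf, ← cj_mul]
      refine ⟨?_, hx2⟩
      rw [h.W_nrm p3 h3]
      exact h.D_le_W hx1
    have h2 := cj_mono (g := (p3 * p4)⁻¹) h1
    rwa [cj_inf, cj_inv_cj] at h2
  have e2 : Nat.card (cj (p3 * p4)⁻¹ (D ⊓ cj p3 Y) ⊓ W : Subgroup G) ≤ Nat.card R := by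
    rw [← card_cj (p3 * p4)⁻¹ R]
    exact Subgroup.card_le_of_le e1
  rw [card_cj]
  calc _ ≤ Nat.card D * Nat.card R := Nat.mul_le_mul_left _ e2
    _ = Nat.card V * Nat.card (D ⊓ cj p3 Y : Subgroup G) := by
      rw [← h.card_D_inf h3 n3, mul_comm]

theorem two_six {p3 p4 p5 : G} (h3 : p3 ∈ P₂) (h4 : p4 ∈ P₁) (n4 : p4 ∉ B)
    (h5 : p5 ∈ P₂) (n5 : p5 ∉ B) : Tr B P₁ R (p3 * p4 * p5) := by
  apply Tr.of_cj
  have e : cj (p3 * p4 * p5)⁻¹ R = cj (p5⁻¹ * p4⁻¹) R := by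
    have : (p3 * p4 * p5)⁻¹ = p5⁻¹ * p4⁻¹ * p3⁻¹ := by group
    rw [this, cj_mul, h.R_nrm _ (P₂.inv_mem h3)]
  rw [e]
  exact h.tr_R (P₂.inv_mem h5) (inv_notMem n5) (P₁.inv_mem h4) (inv_notMem n4)

end Loc

section bridge

variable {P₁ P₂ B U H V R W Y D : Subgroup G} {n₁ n₂ : G} {q r : ℕ}

theorem Hex.nrmB₁ (h : Hex P₁ P₂ B U H V R W Y D n₁ n₂ q r) {N : Subgroup G}
    (hN : P₁ ≤ normalizer (N : Set G)) {b : G} (hb : b ∈ B) : cj b N = N :=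
  cj_eq_self_iff.2 (hN (h.B₁ hb))

theorem Hex.nrmB₂ (h : Hex P₁ P₂ B U H V R W Y D n₁ n₂ q r) {N : Subgroup G}
    (hN : P₂ ≤ normalizer (N : Set G)) {b : G} (hb : b ∈ B) : cj b N = N :=
  cj_eq_self_iff.2 (hN (h.B₂ hb))

/-- `V^{n₂} ∩ Y = R` -/
theorem Hex.VV' (h : Hex P₁ P₂ B U H V R W Y D n₁ n₂ q r) : cj n₂ V ⊓ Y = R := by
  have h1 := congrArg (cj n₂⁻¹) h.VV
  rw [cj_inf, cj_inv_cj, cj_eq_self_iff.2 (h.nR (P₂.inv_mem h.n₂P))] at h1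
  have h2 : cj n₂⁻¹ V = cj n₂ V := by
    have e : n₂⁻¹ = n₂ * (n₂ * n₂)⁻¹ := by group
    rw [e, cj_mul, h.nrmB₁ h.nV (B.inv_mem h.n₂sq)]
  rwa [h2] at h1

theorem Hex.loc [Finite G] (h : Hex P₁ P₂ B U H V R W Y D n₁ n₂ q r) :
    Loc B P₁ P₂ R V D W Y := by
  have hWB : W ≤ B := h.WU.trans h.UB
  have hYB : Y ≤ B := h.YU.trans h.UB
  have hWYn : ∀ b ∈ B, cj b (W ⊓ Y) = W ⊓ Y := fun b hb => by
    rw [cj_inf, h.nrmB₂ h.nW hb, h.nrmB₁ h.nY hb]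
  -- normal forms
  have nf₁ : ∀ p ∈ P₁, p ∉ B → ∃ w ∈ W, ∃ b ∈ B, p = w * n₁ * b := fun p hp hpB => by
    obtain ⟨w, hw, hb⟩ := h.trans₁ p hp hpB
    exact ⟨w, hw, _, hb, by group⟩
  have nf₂ : ∀ p ∈ P₂, p ∉ B → ∃ y ∈ Y, ∃ b ∈ B, p = y * n₂ * b := fun p hp hpB => by
    obtain ⟨w, hw, hb⟩ := h.trans₂ p hp hpB
    exact ⟨w, hw, _, hb, by group⟩
  have hDV := h.VV'
  -- `Y = U^{n₁} U`
  have hYn : ∀ y ∈ Y, ∃ u ∈ cj n₁ (W ⊓ Y), ∃ u' ∈ W ⊓ Y, u * u' = y := by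
    apply exists_mul_of_card
    · rw [cj_inf, cj_eq_self_iff.2 (h.nY h.n₁P)]
      exact inf_le_right
    · exact inf_le_right
    · have e : cj n₁ (W ⊓ Y) ⊓ (W ⊓ Y) = D := by
        rw [cj_inf, cj_eq_self_iff.2 (h.nY h.n₁P)]
        apply le_antisymm
        · rw [← h.D_eq]
          exact le_inf (inf_le_right.trans inf_le_left) (inf_le_left.trans inf_le_left)
        · refine le_inf (le_inf ?_ h.DY) (le_inf h.DW h.DY)
          rw [← h.D_eq]; exact inf_le_right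
      rw [e, card_cj, h.cY, h.cWY]
      apply le_of_eq
      ring
  -- the root group `R''`
  have hR2W : cj (n₂ * n₁) R ≤ W := by
    rw [cj_mul]
    have h1 : cj n₁ R ≤ V := by
      rw [← cj_eq_self_iff.2 (h.nV h.n₁P)]
      exact cj_mono h.RV
    have h2 : cj n₂ V ≤ W := by
      rw [← cj_eq_self_iff.2 (h.nW h.n₂P)]
      exact cj_mono (h.VD.trans h.DW)
    exact (cj_mono h1).trans h2
  have hR2Y : cj (n₂ * n₁) R ⊓ Y = ⊥ := by
    have h1 : cj (n₂ * n₁) R ⊓ Y ≤ R := by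
      have h0 : cj n₁ R ≤ V := (cj_mono h.RV).trans (le_of_eq (cj_eq_self_iff.2 (h.nV h.n₁P)))
      calc cj (n₂ * n₁) R ⊓ Y = cj n₂ (cj n₁ R) ⊓ Y := by rw [cj_mul]
        _ ≤ cj n₂ V ⊓ Y := inf_le_inf_right _ (cj_mono h0)
        _ = R := hDV
    have h2 : cj (n₂ * n₁) R ⊓ R = ⊥ := by
      have := congrArg (cj n₂) h.Rn
      rw [cj_inf, cj_eq_self_iff.2 (h.nR h.n₂P), ← cj_mul, cj_bot, inf_comm] at this
      exact this
    rw [eq_bot_iff, ← h2]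
    exact le_inf inf_le_left h1
  have hR2g : ∀ w ∈ W, ∃ x ∈ cj (n₂ * n₁) R, ∃ u ∈ W ⊓ Y, x * u = w := by
    apply exists_mul_of_card hR2W inf_le_left
    have e : cj (n₂ * n₁) R ⊓ (W ⊓ Y) = ⊥ := by
      rw [eq_bot_iff, ← hR2Y]
      exact inf_le_inf_left _ inf_le_right
    rw [e, Subgroup.card_bot, mul_one, card_cj, h.cR, h.cW]
  -- every `R^{pp'}` is a conjugate of `R''` under `B`
  have hpp : ∀ p ∈ P₂, p ∉ B → ∀ p' ∈ P₁, p' ∉ B → ∃ g ∈ B, cj (p * p') R = cj g (cj (n₂ * n₁) R) := by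
    intro p hp hpB p' hp' hpB'
    obtain ⟨y, hy, b, hb, rfl⟩ := nf₂ p hp hpB
    have hbp : b * p' ∈ P₁ := P₁.mul_mem (h.B₁ hb) hp'
    have hbpB : b * p' ∉ B := fun hc => hpB' (by
      have := B.mul_mem (B.inv_mem hb) hc
      rwa [inv_mul_cancel_left] at this)
    obtain ⟨w, hw, b', hb', e⟩ := nf₁ _ hbp hbpB
    have hw1 : n₂ * w * n₂⁻¹ ∈ W := conj_mem_of_normalizer (h.nW h.n₂P) hw
    refine ⟨y * (n₂ * w * n₂⁻¹), B.mul_mem (hYB hy) (hWB hw1), ?_⟩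
    have e1 : y * n₂ * b * p' = y * (n₂ * w * n₂⁻¹) * (n₂ * n₁) * b' := by
      rw [mul_assoc (y * n₂), e]; group
    rw [e1, cj_mul, h.nrmB₂ h.nR hb', cj_mul (y * (n₂ * w * n₂⁻¹))]
  refine
    { B_le₁ := h.B₁
      B_le₂ := h.B₂
      W_le := hWB
      Y_le := hYB
      W_nrm := fun p hp => cj_eq_self_iff.2 (h.nW hp)
      R_nrm := fun p hp => cj_eq_self_iff.2 (h.nR hp)
      Y_nrm := fun p hp => cj_eq_self_iff.2 (h.nY hp)
      V_nrm := fun p hp => cj_eq_self_iff.2 (h.nV hp)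
      D_nrm := fun p hp => cj_eq_self_iff.2 (h.nD hp)
      R_le := h.RV
      V_le := h.VD
      D_le_Y := h.DY
      ex₁ := ⟨n₁, h.n₁P, h.n₁B⟩
      D_eq := ?_
      t1 := ?_
      t2 := ?_
      Y_gen := ?_
      R_gen := ?_
      R_inf := ?_
      V_inf := ?_
      H5 := ?_
      card := ?_ }
  · intro p hp hpB
    obtain ⟨w, hw, b, hb, rfl⟩ := nf₁ p hp hpB
    have hwn : cj w W = W := cj_of_mem hw
    calc W ⊓ cj (w * n₁ * b) W = cj w W ⊓ cj w (cj n₁ W) := by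
          rw [cj_mul, h.nrmB₂ h.nW hb, cj_mul, hwn]
      _ = cj w D := by rw [← cj_inf, h.D_eq]
      _ = D := h.nrmB₁ h.nD (hWB hw)
  · intro p hp hpB p' hp' hpB'
    obtain ⟨w, hw, b, hb, rfl⟩ := nf₁ p hp hpB
    obtain ⟨w', hw', b', hb', rfl⟩ := nf₁ p' hp' hpB'
    refine ⟨w' * w⁻¹, W.mul_mem hw' (W.inv_mem hw), ?_⟩
    have e : (1 * (w' * n₁ * b'))⁻¹ * (w' * w⁻¹) * (1 * (w * n₁ * b)) = b'⁻¹ * b := by group
    rw [e]
    exact B.mul_mem (B.inv_mem hb') hb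
  · intro p hp hpB p' hp' hpB'
    obtain ⟨w, hw, b, hb, rfl⟩ := nf₂ p hp hpB
    obtain ⟨w', hw', b', hb', rfl⟩ := nf₂ p' hp' hpB'
    refine ⟨w' * w⁻¹, Y.mul_mem hw' (Y.inv_mem hw), ?_⟩
    have e : (1 * (w' * n₂ * b'))⁻¹ * (w' * w⁻¹) * (1 * (w * n₂ * b)) = b'⁻¹ * b := by group
    rw [e]
    exact B.mul_mem (B.inv_mem hb') hb
  · intro p hp hpB y hy
    obtain ⟨w, hw, b, hb, rfl⟩ := nf₁ p hp hpB
    have hy' : w⁻¹ * y * w ∈ Y := conj_inv_mem_of_normalizer (h.nY (h.B₁ (hWB hw))) hy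
    obtain ⟨u, hu, u', hu', e⟩ := hYn _ hy'
    refine ⟨w * u * w⁻¹, ?_, w * u' * w⁻¹, ?_, ?_⟩
    · rw [cj_mul, hWYn b hb, cj_mul]
      exact conj_mem_cj hu
    · rw [← hWYn w (hWB hw)]
      exact conj_mem_cj hu'
    · have : w * u * w⁻¹ * (w * u' * w⁻¹) = w * (u * u') * w⁻¹ := by group
      rw [this, e]; group
  · intro p hp hpB p' hp' hpB' w hw
    obtain ⟨g, hg, e⟩ := hpp p hp hpB p' hp' hpB'
    have hw' : g⁻¹ * w * g ∈ W := conj_inv_mem_of_normalizer (h.nW (h.B₂ hg)) hw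
    obtain ⟨x, hx, u, hu, e1⟩ := hR2g _ hw'
    refine ⟨g * x * g⁻¹, ?_, g * u * g⁻¹, ?_, ?_⟩
    · rw [e]; exact conj_mem_cj hx
    · rw [← hWYn g hg]; exact conj_mem_cj hu
    · have : g * x * g⁻¹ * (g * u * g⁻¹) = g * (x * u) * g⁻¹ := by group
      rw [this, e1]; group
  · intro p hp hpB p' hp' hpB'
    obtain ⟨g, hg, e⟩ := hpp p hp hpB p' hp' hpB'
    rw [e]
    have := congrArg (cj g) hR2Y
    rwa [cj_inf, h.nrmB₁ h.nY hg, cj_bot] at this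
  · intro p hp hpB
    obtain ⟨y, hy, b, hb, rfl⟩ := nf₂ p hp hpB
    have := congrArg (cj y) hDV
    rw [cj_inf, cj_of_mem hy, h.nrmB₂ h.nR (hYB hy)] at this
    rw [cj_mul, h.nrmB₁ h.nV hb, cj_mul]
    exact this
  · intro p hp hpB
    obtain ⟨y, hy, b, hb, rfl⟩ := nf₂ p hp hpB
    have := congrArg (cj y) h.DD
    rw [cj_inf, h.nrmB₁ h.nD (hYB hy), h.nrmB₂ h.nR (hYB hy)] at this
    rw [cj_mul, h.nrmB₁ h.nD hb, cj_mul]
    exact this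
  · rw [h.cY, h.cV, h.cD]; ring

/-- **(PATH)**, type 1: `U` is transitive on the next panel of the galleries of type `(n₁, n₂, n₁, ..)` -/
theorem Hex.path₁ [Finite G] (h : Hex P₁ P₂ B U H V R W Y D n₁ n₂ q r) :
    Tr B P₁ U 1 ∧ Tr B P₂ U n₁ ∧ Tr B P₁ U (n₁ * n₂) ∧ Tr B P₂ U (n₁ * n₂ * n₁) ∧
      Tr B P₁ U (n₁ * n₂ * n₁ * n₂) ∧ Tr B P₂ U (n₁ * n₂ * n₁ * n₂ * n₁) := by
  have l := h.loc
  have hn₁Y : cj n₁ Y = Y := l.Y_nrm n₁ h.n₁P
  refine ⟨l.t1.mono h.WU, (l.one_two h.n₁P).mono h.YU, ?_, ?_, ?_, ?_⟩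
  · refine ((l.one_three h.n₂P h.n₂B).cj n₁).mono ?_
    refine le_trans ?_ h.YU
    rw [cj_inf, hn₁Y]
    exact inf_le_right
  · have h1 := ((l.one_four h.n₂P h.n₂B h.n₁P h.n₁B).cj (n₁ * n₂)).mono (F' := U) ?_
    · exact h1
    · refine le_trans ?_ h.YU
      rw [cj_mul, cj_inf, cj_inf, cj_inf, cj_inf, cj_cj_inv, hn₁Y]
      exact inf_le_left.trans inf_le_right
  · have h1 := ((l.one_five h.n₁P h.n₁B h.n₂P h.n₂B).cj (n₁ * n₂)).mono (F' := U) ?_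
    · rwa [← mul_assoc] at h1
    · refine le_trans ?_ h.YU
      rw [cj_mul, l.R_nrm n₂ h.n₂P]
      refine (cj_mono (l.R_le.trans (l.V_le.trans l.D_le_Y))).trans (le_of_eq hn₁Y)
  · have h1 := ((l.one_six h.n₂P h.n₂B h.n₁P h.n₁B h.n₂P h.n₂B h.n₁P h.n₁B).cj (n₁ * n₂)).mono
      (F' := U) ?_
    · rwa [← mul_assoc, ← mul_assoc] at h1
    · refine le_trans ?_ h.YU
      rw [cj_mul, cj_inf, cj_inf, cj_inf, cj_inf, cj_cj_inv, hn₁Y]
      exact inf_le_left.trans inf_le_right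

/-- **(PATH)**, type 2 -/
theorem Hex.path₂ [Finite G] (h : Hex P₁ P₂ B U H V R W Y D n₁ n₂ q r) :
    Tr B P₂ U 1 ∧ Tr B P₁ U n₂ ∧ Tr B P₂ U (n₂ * n₁) ∧ Tr B P₁ U (n₂ * n₁ * n₂) ∧
      Tr B P₂ U (n₂ * n₁ * n₂ * n₁) ∧ Tr B P₁ U (n₂ * n₁ * n₂ * n₁ * n₂) := by
  have l := h.loc
  have hn₂W : cj n₂ W = W := l.W_nrm n₂ h.n₂P
  refine ⟨l.t2.mono h.YU, (l.two_two h.n₂P).mono h.WU, ?_, ?_, ?_, ?_⟩
  · refine ((l.two_three h.n₁P h.n₁B).cj n₂).mono ?_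
    refine le_trans ?_ h.WU
    rw [cj_inf, hn₂W]
    exact inf_le_left
  · refine ((l.two_four h.n₂P h.n₂B).cj (n₂ * n₁)).mono ?_
    refine le_trans ?_ h.WU
    rw [cj_mul, l.D_nrm n₁ h.n₁P]
    exact (cj_mono l.D_le_W).trans (le_of_eq hn₂W)
  · have h1 := ((l.two_five h.n₂P h.n₂B h.n₁P h.n₁B).cj (n₂ * n₁)).mono (F' := U) ?_
    · rwa [← mul_assoc] at h1
    · refine le_trans ?_ h.WU
      rw [cj_mul, cj_inf, l.D_nrm n₁ h.n₁P]
      exact (cj_mono (inf_le_left.trans l.D_le_W)).trans (le_of_eq hn₂W)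
  · have h1 := ((l.two_six h.n₂P h.n₁P h.n₁B h.n₂P h.n₂B).cj (n₂ * n₁)).mono (F' := U) ?_
    · rwa [← mul_assoc, ← mul_assoc] at h1
    · refine le_trans ?_ h.WU
      rw [cj_mul]
      have h2 : cj n₁ R ≤ W := by
        refine le_trans ?_ (l.V_le.trans l.D_le_W)
        rw [← l.V_nrm n₁ h.n₁P]
        exact cj_mono l.R_le
      exact (cj_mono h2).trans (le_of_eq hn₂W)

/-- double coset form: `w b n ∈ B w n B` -/
theorem Tr.dcoset {P F : Subgroup G} {g n b : G} (h : Tr B P F g) (hBP : B ≤ P) (hn : n ∈ P) (hnB : n ∉ B)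
    (hb : b ∈ B) : ∃ f ∈ F, ∃ b' ∈ B, g * b * n = f * (g * n) * b' := by
  have h1 : b * n ∉ B := fun hc => hnB (by
    have := B.mul_mem (B.inv_mem hb) hc
    rwa [inv_mul_cancel_left] at this)
  obtain ⟨f, hf, e⟩ := h (b * n) (P.mul_mem (hBP hb) hn) h1 n hn hnB
  exact ⟨f⁻¹, F.inv_mem hf, _, e, by group⟩

end bridge

end Cfsg.Agent.Omega.Hex

end

section


/-!
# (PATH) of THEOREM R2T for the `b = 2` node, in the form of `RankTwoClose.Frame.PathTo`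
-/

set_option autoImplicit false
set_option linter.dupNamespace false

universe u

namespace Cfsg.Agent.Omega.Hex

open Subgroup Cfsg.Agent.Omega.BTwo

namespace Hex

variable {G : Type u} [Group G] {P₁ P₂ B U H V R W Y D : Subgroup G} {n₁ n₂ : G} {q r : ℕ}

theorem pathTo_aux (h : Hex P₁ P₂ B U H V R W Y D n₁ n₂ q r) {k : ℕ} {i : Bool} {g : G}
    (hg : RankTwoClose.alt h.frame.n i k = g)
    (ht : Tr B (h.frame.P (RankTwoClose.nxt i k)) U g) {b : G} (hb : b ∈ h.frame.B) :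
    ∃ c ∈ h.frame.B, ∃ d ∈ h.frame.B,
      RankTwoClose.alt h.frame.n i k * b * h.frame.n (RankTwoClose.nxt i k) =
        c * RankTwoClose.alt h.frame.n i (k + 1) * d := by
  have hBP : ∀ j, B ≤ h.frame.P j := by
    rintro (_ | _)
    · exact h.B₁
    · exact h.B₂
  have hnP : ∀ j, h.frame.n j ∈ h.frame.P j := by
    rintro (_ | _)
    · exact h.n₁P
    · exact h.n₂P
  have hnB : ∀ j, h.frame.n j ∉ B := by
    rintro (_ | _)
    · exact h.n₁B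
    · exact h.n₂B
  obtain ⟨f, hf, b', hb', e⟩ := ht.dcoset (hBP _) (hnP _) (hnB _) hb
  refine ⟨f, h.UB hf, b', hb', ?_⟩
  rw [RankTwoClose.alt_succ', hg, e]

/-- **(PATH)** for `G₂(q)`, `³D₄(q)` -/
theorem pathTo [Finite G] (h : Hex P₁ P₂ B U H V R W Y D n₁ n₂ q r) :
    ∀ k < 6, h.frame.PathTo k := by
  obtain ⟨a0, a1, a2, a3, a4, a5⟩ := h.path₁
  obtain ⟨b0, b1, b2, b3, b4, b5⟩ := h.path₂
  have key : ∀ k < 6, ∀ i : Bool, ∃ g, RankTwoClose.alt h.frame.n i k = g ∧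
      Tr B (h.frame.P (RankTwoClose.nxt i k)) U g := by
    intro k hk
    interval_cases k
    · rintro (_ | _)
      · exact ⟨1, rfl, a0⟩
      · exact ⟨1, rfl, b0⟩
    · rintro (_ | _)
      · exact ⟨n₁, mul_one n₁, a1⟩
      · exact ⟨n₂, mul_one n₂, b1⟩
    · rintro (_ | _)
      · refine ⟨n₁ * n₂, ?_, a2⟩
        show n₁ * (n₂ * 1) = _
        rw [mul_one]
      · refine ⟨n₂ * n₁, ?_, b2⟩
        show n₂ * (n₁ * 1) = _
        rw [mul_one]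
    · rintro (_ | _)
      · refine ⟨n₁ * n₂ * n₁, ?_, a3⟩
        show n₁ * (n₂ * (n₁ * 1)) = _
        group
      · refine ⟨n₂ * n₁ * n₂, ?_, b3⟩
        show n₂ * (n₁ * (n₂ * 1)) = _
        group
    · rintro (_ | _)
      · refine ⟨n₁ * n₂ * n₁ * n₂, ?_, a4⟩
        show n₁ * (n₂ * (n₁ * (n₂ * 1))) = _
        group
      · refine ⟨n₂ * n₁ * n₂ * n₁, ?_, b4⟩
        show n₂ * (n₁ * (n₂ * (n₁ * 1))) = _
        group
    · rintro (_ | _)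
      · refine ⟨n₁ * n₂ * n₁ * n₂ * n₁, ?_, a5⟩
        show n₁ * (n₂ * (n₁ * (n₂ * (n₁ * 1)))) = _
        group
      · refine ⟨n₂ * n₁ * n₂ * n₁ * n₂, ?_, b5⟩
        show n₂ * (n₁ * (n₂ * (n₁ * (n₂ * 1)))) = _
        group
  intro k hk i b hb
  obtain ⟨g, hg, ht⟩ := key k hk i
  exact h.pathTo_aux hg ht hb

end Hex

end Cfsg.Agent.Omega.Hex

end

end

-- merged: Cfsg.Agent.Mrg.Omega.Hex.GlobOf
section

section


/-!
# `Glob` and the BN-pair of `⟨X, K⟩` from `K / W = SL₂(k)`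

* `KIn.glob`: `Glob H (R i)`;
* `KIn.gZero`: `⟨X, K⟩` has a split BN-pair of rank two and is normalised by `N(V)` and `N(R i)` (`|k| > 4`).
-/

set_option autoImplicit false
set_option linter.dupNamespace false
set_option linter.unusedSectionVars false

universe u v w

namespace Cfsg.Agent.Omega.Hex

open Subgroup Cfsg.Agent.Omega.BTwo Cfsg.Agent.Omega.SQEnd Cfsg.Agent.Lib.SL2Mat

section abs

variable {G : Type u} [Group G]

theorem cent_O2 (hG : IsCharacteristicTwoType G) {v : G} (hv : v * v = 1) (hv1 : v ≠ 1) :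
    centralizer ({v} : Set G) ⊓ centralizer (O2 (centralizer ({v} : Set G)) : Set G) ≤
      O2 (centralizer ({v} : Set G)) := by
  intro g hg
  refine GTwoFour.Cor.R_self hG hv hv1 (mem_centralizer_singleton_iff.1 (mem_inf.1 hg).1) ?_
  intro r hr
  exact (mem_centralizer_iff.1 (mem_inf.1 hg).2 r hr).symm

variable {ι : Type v} {V : Subgroup G} {R : ι → Subgroup G} {i j : ι} {F : Type w} [Field F] [CharP F 2]
  {v : F → F → G} {w1 w2 : F → G}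

/-- `N(R i)` is transitive on `R i#` -/
theorem trans_R (c : Coord V R i j v w1 w2) (b : BT V R) : ∀ a ∈ R i, a ≠ 1 → ∀ a' ∈ R i, a' ≠ 1 →
    ∃ g ∈ normalizer (R i : Set G), g * a * g⁻¹ = a' := by
  intro a ha ha1 a' ha' ha1'
  obtain ⟨x, rfl⟩ := (c.mem_R1 _).1 ha
  obtain ⟨y, rfl⟩ := (c.mem_R1 _).1 ha'
  have hx : x ≠ 0 := by rintro rfl; exact ha1 c.v_zero
  have hy : y ≠ 0 := by rintro rfl; exact ha1' c.v_zero
  have hyx : y * x⁻¹ ≠ 0 := mul_ne_zero hy (inv_ne_zero hx)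
  refine ⟨hh w1 w2 (y * x⁻¹), cj_eq_self_iff.1 (c.hh_R1 b hyx), ?_⟩
  rw [c.hh_act hyx, mul_zero, inv_mul_cancel_right₀ hx]

end abs

variable {G : Type u} [Group G] [Finite G] {ι : Type v}

namespace KIn

variable {V : Subgroup G} {R : ι → Subgroup G} {i j : ι} {k : Type w} [Field k] {K : Subgroup G}
  {φ : K →* Matrix.SpecialLinearGroup (Fin 2) k} (n : KIn V R i j K φ) [Finite k] [CharP k 2]
include n

theorem UZ_two (b : BT V R) : IsPGroup 2 (WW V (R i) ⊔ YY V R : Subgroup G) :=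
  (b.W_isPGroup i).to_sup_of_normal_right' (Y_isPGroup b) ((b.W_le_NV i).trans b.NV_le_NY)

theorem odd_UZ (b : BT V R) : Odd ((WW V (R i) ⊔ YY V R : Subgroup G).relIndex K) := by
  have h3 : (WW V (R i) ⊔ YY V R : Subgroup G).relIndex K = (upG k).index := by
    have h4 : (WW V (R i) ⊔ YY V R : Subgroup G).subgroupOf K = (upG k).comap φ := by
      ext x
      rw [mem_subgroupOf, mem_comap]
      exact n.mem_UZ b x
    have h5 := index_comap_of_surjective (upG k) n.kd.surj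
    rw [← h4] at h5
    exact h5
  rw [h3]
  exact odd_index_upG

/-- `O₂(K) = W` -/
theorem le_W_of_normal (b : BT V R) {T : Subgroup G} (hTK : T ≤ K) (hT : IsPGroup 2 T)
    (hn : K ≤ normalizer (T : Set G)) : T ≤ WW V (R i) := by
  have : Fact (Nat.Prime 2) := ⟨Nat.prime_two⟩
  have hU2 := n.UZ_two b
  have hUK := n.UZ_le b
  have hTU : T ≤ WW V (R i) ⊔ YY V R := by
    have h1 : IsPGroup 2 ((WW V (R i) ⊔ YY V R) ⊔ T : Subgroup G) :=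
      hU2.to_sup_of_normal_right' hT (hUK.trans hn)
    have h2 := relIndex_mul_relIndex (WW V (R i) ⊔ YY V R) ((WW V (R i) ⊔ YY V R) ⊔ T) K le_sup_left (sup_le hUK hTK)
    have h3 := n.odd_UZ b
    rw [← h2] at h3
    have h4 := Nat.Odd.of_mul_left h3
    obtain ⟨m, hm⟩ := IsPGroup.iff_card.1 h1
    have h5 : (WW V (R i) ⊔ YY V R).relIndex ((WW V (R i) ⊔ YY V R) ⊔ T) ∣ 2 ^ m := by
      rw [← hm]; exact relIndex_dvd_card _ _
    obtain ⟨l, -, hl⟩ := (Nat.dvd_prime_pow Nat.prime_two).1 h5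
    have h6 : l = 0 := by
      by_contra h0
      rw [hl] at h4
      exact (Nat.not_even_iff_odd.2 h4) ((Nat.even_pow.2 ⟨even_two, h0⟩))
    rw [h6, pow_zero, relIndex_eq_one] at hl
    exact le_sup_right.trans hl
  intro t ht
  obtain ⟨x, hx⟩ := (n.mem_UZ b ⟨t, hTK ht⟩).1 (hTU ht)
  obtain ⟨g, hg⟩ := n.kd.surj (wm 1 one_ne_zero)
  have h1 : (g : G) * t * (g : G)⁻¹ ∈ T := conj_mem_of_normalizer (hn g.2) ht
  obtain ⟨y, hy⟩ := (n.mem_UZ b (g * ⟨t, hTK ht⟩ * g⁻¹)).1 (hTU h1)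
  rw [map_mul, map_mul, map_inv, hx, hg, mul_inv_eq_iff_eq_mul] at hy
  have h2 := congrArg (fun A => ent A 1 1) hy
  simp [ent_mul] at h2
  rw [← n.kd.ker ⟨t, hTK ht⟩, hx, h2, up_zero]

variable {F : Type*} [Field F] [Finite F] [CharP F 2] {v : F → F → G} {w1 w2 : F → G}

/-- **`C_G(v) ≤ N_G(R i)`** for `v ∈ R i`, `v ≠ 1` -/
theorem cen {r : ℕ} (b : BTC V R) (c : Coord V R i j v w1 w2) (l : PLoc V R i K r)
    (hG : IsCharacteristicTwoType G) (cW : centralizer (WW V (R i) : Set G) ≤ R i)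
    (hQ : QQ (R i) = WW V (R i)) (S : Sylow 2 G) (hS : (S : Subgroup G) ≤ normalizer (R i : Set G)) :
    ∀ v ∈ R i, v ≠ 1 → ∀ c, c * v = v * c → c ∈ normalizer (R i : Set G) := by
  intro x hx hx1 g hg
  exact l.cen cW n.kd.KR (fun T h1 h2 h3 => n.le_W_of_normal b.toBT h1 h2 h3) (cent_K_of n b c hQ) S hS
    (trans_R c b.toBT) hx hx1 (cent_O2 hG (b.V_sq x (b.R_le i hx)) hx1) hg

/-- **`Glob`** -/
theorem glob {r : ℕ} (b : BTC V R) (c : Coord V R i j v w1 w2) (l : PLoc V R i K r)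
    (hG : IsCharacteristicTwoType G) (cW : centralizer (WW V (R i) : Set G) ≤ R i)
    (hQ : QQ (R i) = WW V (R i)) (S : Sylow 2 G) (hS : (S : Subgroup G) ≤ normalizer (R i : Set G))
    (hk : 4 < Nat.card k) {H : Subgroup G} (hH : Cpl (PLoc.UZ V R i) (PLoc.B0 V R i K) H)
    (e7 : ∀ m ∈ WW V (R i), (∀ x ∈ H ⊓ K, x * m * x⁻¹ * m⁻¹ ∈ R i) → m ∈ R i) : Glob H (R i) where
  cen := n.cen b c l hG cW hQ S hS
  tor := fun T hT hTN hc => n.tor b.toBT hk l.nt hH (cent_K_of n b c hQ) (fun m hm h => e7 m hm fun x hx => by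
    rw [h x (mem_inf.1 hx).1 (mem_inf.1 hx).2, mul_inv_cancel_right, mul_inv_cancel]
    exact one_mem _) T hT hTN hc

end KIn

namespace PLoc

variable {V : Subgroup G} {R : ι → Subgroup G} {i : ι} {X₂ : Subgroup G} {r : ℕ} (l : PLoc V R i X₂ r)
include l

theorem NF_norm : NF V R i ≤ normalizer ((XX V R ⊔ X₂ : Subgroup G) : Set G) := by
  intro g hg
  rw [← cj_eq_self_iff, cj_sup, cj_eq_self_iff.2 (l.bt.NV_le_NX (mem_inf.1 hg).1),
    cj_eq_self_iff.2 (l.NX₂ (mem_inf.1 hg).2)]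

theorem NV_norm : normalizer (V : Set G) ≤ normalizer ((XX V R ⊔ X₂ : Subgroup G) : Set G) := by
  intro g hg
  by_cases hgR : g ∈ normalizer (R i : Set G)
  · exact l.NF_norm (mem_inf.2 ⟨hg, hgR⟩)
  obtain ⟨x, hx, hxR⟩ := l.exists_x₁
  have hxV := l.bt.X_le_NV hx
  obtain ⟨w, hw, e⟩ := l.transW hxV hg hxR hgR
  have hwx : w * x ∈ XX V R := mul_mem (W_le_X V R i hw) hx
  have h1 : w * x ∈ normalizer ((XX V R ⊔ X₂ : Subgroup G) : Set G) :=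
    le_normalizer ((le_sup_left : XX V R ≤ _) hwx)
  have h2 := l.NF_norm (mem_inf.2 ⟨mul_mem (inv_mem (l.bt.X_le_NV hwx)) hg, e⟩)
  have h3 := mul_mem h1 h2
  rwa [mul_inv_cancel_left] at h3

theorem NR_norm : normalizer (R i : Set G) ≤ normalizer ((XX V R ⊔ X₂ : Subgroup G) : Set G) := by
  intro g hg
  obtain ⟨x, hx, hxg⟩ := l.frat₂ g hg
  have h1 : x ∈ normalizer ((XX V R ⊔ X₂ : Subgroup G) : Set G) :=
    le_normalizer ((le_sup_right : X₂ ≤ _) hx)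
  have h2 := l.NF_norm (mem_inf.2 ⟨hxg, mul_mem (inv_mem (l.X₂N hx)) hg⟩)
  have h3 := mul_mem h1 h2
  rwa [mul_inv_cancel_left] at h3

theorem sup_ne : XX V R ⊔ X₂ ≠ ⊥ := by
  intro h
  have h1 : R i ≤ ⊥ := by
    rw [← h]
    exact (l.bt.R_le i).trans ((V_le_WW V (R i)).trans (l.W₂.trans le_sup_right))
  exact l.bt.R_ne i (le_bot_iff.1 h1)

/-- **`GZero`** from `Glob` -/
theorem gZero (hB : RootLemma.Bender.{u}) {H : Subgroup G} (hH : Cpl (UZ V R i) (B0 V R i X₂) H)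
    (g : Glob H (R i)) : IIa4.GZero V R := by
  obtain ⟨n₁, -, n₂, -, h⟩ := l.hex (S := ⊥) IsPGroup.of_bot bot_le hH
  have hX : PP1 V R i X₂ ⊥ ⊔ PP2 V R i X₂ ⊥ = XX V R ⊔ X₂ := by
    have h1 : BB V R i X₂ ⊥ ≤ XX V R ⊔ X₂ := by
      refine sup_le (sup_le ?_ ?_) bot_le
      · exact inf_le_left.trans le_sup_left
      · exact inf_le_left.trans le_sup_right
    refine le_antisymm (sup_le (sup_le le_sup_left h1) (sup_le le_sup_right h1)) ?_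
    exact sup_le (le_sup_left.trans le_sup_left) (le_sup_left.trans le_sup_right)
  obtain ⟨Q, hQ, hs, -, -⟩ := exists_split h g hB (h.pathTo) hX
  exact ⟨i, XX V R ⊔ X₂, l.sup_ne, l.NV_norm, l.NR_norm, Or.inr ⟨Q, by rw [hQ]; norm_num, hs⟩⟩

end PLoc

namespace KIn

variable {V : Subgroup G} {R : ι → Subgroup G} {i j : ι} {k : Type w} [Field k] {K : Subgroup G}
  {φ : K →* Matrix.SpecialLinearGroup (Fin 2) k} [Finite k] [CharP k 2]
  {F : Type*} [Field F] [Finite F] [CharP F 2] {v : F → F → G} {w1 w2 : F → G}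

/-- **`GZero`** from `Cfg`, `|k| > 4` -/
theorem gZero (n : KIn V R i j K φ) (b : BTC V R) (c : Coord V R i j v w1 w2)
    (hB : RootLemma.Bender.{u}) (hG : IsCharacteristicTwoType G) (cW : centralizer (WW V (R i) : Set G) ≤ R i)
    (hQ : QQ (R i) = WW V (R i)) (S : Sylow 2 G) (hS : (S : Subgroup G) ≤ normalizer (R i : Set G))
    (hF : 4 ≤ Nat.card F) (hk : 4 < Nat.card k) {L Z T : Subgroup G} {w : G}
    (h : Cfg (R i) (WW V (R i)) V (UU V R i) (DD V R) (UU V R j) K L (L ⊓ K) Z T w)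
    (hL : Cpl (PLoc.UZ V R i) (PLoc.B0 V R i K) L) (TX : T ≤ XX V R) (hwV : w ∉ normalizer (V : Set G)) :
    IIa4.GZero V R := by
  have l : PLoc V R i K (Nat.card k) := by
    exact n.ploc b.toBT c hF hk.le h.wK hwV h.E2 fun u hu => h.E4 (V_not_le_R c) (U_not_le_D n b.toBT) hu
  refine l.gZero hB hL (n.glob b c l hG cW hQ S hS hk hL ?_)
  refine cent_C_of n b c h TX hwV ?_ hF hk
  intro g hg hgV
  have hgB : g ∈ PLoc.B0 V R i K := (le_sup_right : PLoc.A2 V K ≤ _) (mem_inf.2 ⟨hg, hgV⟩)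
  obtain ⟨u, hu, x, hx, e⟩ := l.nt.exists_mul hL hgB
  refine ⟨u, ?_, ?_⟩
  · rw [← n.UZ_eq b.toBT]; exact hu
  · have e1 : u⁻¹ * g = x := by rw [e]; group
    rw [e1]
    refine mem_inf.2 ⟨hx, ?_⟩
    rw [← e1]
    exact mul_mem (inv_mem (n.UZ_le b.toBT hu)) hg

end KIn

end Cfsg.Agent.Omega.Hex

end

section


/-!
# The structure `Hex` around a Sylow 2-subgroup of `N(V) ∩ N(R)` (input of the end for `G₂(4)`)
-/

set_option autoImplicit false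

universe u v w z

namespace Cfsg.Agent.Omega.SQEnd

open Subgroup Cfsg.Agent.Omega.BTwo Cfsg.Agent.Lib.SL2Mat Cfsg.Agent.Omega.Hex

variable {G : Type u} [Group G] [Finite G] {ι : Type v} {V : Subgroup G} {R : ι → Subgroup G} {i j : ι} {k : Type w}
  [Field k] {K : Subgroup G} {φ : K →* Matrix.SpecialLinearGroup (Fin 2) k} {F : Type z} [Field F] [Finite F]
  [CharP F 2] {v : F → F → G} {w1 w2 : F → G}

omit [Finite G] [Finite F] [CharP F 2] in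
theorem card_R (c : Coord V R i j v w1 w2) : Nat.card (R i) = Nat.card F := by
  refine (Nat.card_eq_of_bijective (fun x : F => (⟨v x 0, (c.mem_R1 _).2 ⟨x, rfl⟩⟩ : R i)) ⟨?_, ?_⟩).symm
  · intro x y h
    exact (c.v_inj (congrArg Subtype.val h)).1
  · rintro ⟨y, hy⟩
    obtain ⟨x, hx⟩ := (c.mem_R1 y).1 hy
    exact ⟨x, Subtype.ext hx⟩

/-- `Hex` with `S ≤ B`, `S` a Sylow 2-subgroup of `G` in `N(V) ∩ N(R)` -/
theorem exists_hex (b : BTC V R) (c : Coord V R i j v w1 w2) (kd : KD V R i j K φ)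
    (hC : centralizer (WW V (R i) : Set G) ≤ R i)
    (NAe : ∀ g ∈ normalizer (R i : Set G), cj g (WW V (R i) ⊔ UU V R j) = WW V (R i) ⊔ UU V R j → cj g V = V)
    (hF : 4 ≤ Nat.card F) (S : Sylow 2 G) (hSV : (S : Subgroup G) ≤ normalizer (V : Set G))
    (hSR : (S : Subgroup G) ≤ normalizer (R i : Set G)) :
    ∃ (P₁ P₂ B U H : Subgroup G) (n₁ n₂ : G), Hex P₁ P₂ B U H V (R i) (WW V (R i)) (YY V R) (DD V R) n₁ n₂
      (Nat.card F) (Nat.card k) ∧ B ⊓ centralizer (U : Set G) ≤ U ∧ U ≤ S ∧ (S : Subgroup G) ≤ B ∧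
      P₁ ≤ normalizer (V : Set G) ∧ P₂ ≤ normalizer (R i : Set G) := by
  have l := ploc b c kd hC NAe hF
  obtain ⟨H, hH⟩ := l.nt.exists_cpl
  have hSF : (S : Subgroup G) ≤ PLoc.NF V R i := le_inf hSV hSR
  obtain ⟨n₁, -, n₂, -, h⟩ := l.hex S.isPGroup' hSF hH
  rw [card_R c] at h
  refine ⟨_, _, _, _, H, n₁, n₂, h, ?_, ?_, le_sup_right, h.nV, h.nR⟩
  · refine inf_le_right.trans ((centralizer_le ?_).trans (hC.trans (h.RV.trans (h.VD.trans (h.DW.trans h.WU)))))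
    exact h.WU
  · have h1 : IsPGroup 2 (PLoc.UZ V R i ⊔ S : Subgroup G) :=
      h.two.to_sup_of_normal_left' S.isPGroup' ((le_sup_right : (S : Subgroup G) ≤ PLoc.BB V R i K S).trans h.nU)
    exact le_sup_left.trans (S.is_maximal' h1 le_sup_right).le

/-- `|k| = |F|^c` -/
theorem card_k_eq (b : BTC V R) (c : Coord V R i j v w1 w2) (kd : KD V R i j K φ)
    (NAe : ∀ g ∈ normalizer (R i : Set G), cj g (WW V (R i) ⊔ UU V R j) = WW V (R i) ⊔ UU V R j → cj g V = V)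
    (hF : 4 ≤ Nat.card F) (hk : Nat.card k = 4) : Nat.card F = 4 := by
  have := kd.finite
  have := kd.charP b
  have n : KIn V R i j K φ := { kd := kd, NA := NAe }
  obtain ⟨N, _, _, P1, P2, y⟩ := c.exists_yPair b.toBT
  have h1 : Nat.card N = Nat.card k := by rw [← y.index_D_U, n.relIndex_D b.toBT]
  have h2 := y.card_M
  rw [h1, hk] at h2
  have h3 : Module.finrank F N ≠ 0 := by
    intro h0
    rw [h0, pow_zero] at h2
    omega
  have h4 : Nat.card F ^ 1 ≤ Nat.card F ^ Module.finrank F N :=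
    Nat.pow_le_pow_right (by omega) (Nat.one_le_iff_ne_zero.2 h3)
  rw [pow_one, ← h2] at h4
  omega

end Cfsg.Agent.Omega.SQEnd

end

section


/-!
# The structure `Four` (input of ID24, type `G₂(4)`) from `BTC`, `Coord`, `KD`, `|F| = |k| = 4`
-/

set_option autoImplicit false

universe u v w z

namespace Cfsg.Agent.Omega.SQEnd

open Subgroup Cfsg.Agent.Omega.BTwo Cfsg.Agent.Lib.SL2Mat Cfsg.Agent.Omega.Hex

/-- a torus of order three -/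
theorem card_of_chart {H F : Type*} [Group H] [Field F] [Finite F] (f : H → F) (h0 : ∀ x, f x ≠ 0)
    (hinj : ∀ x y, f x = f y → x = y) (hs : ∀ a, a ≠ 0 → ∃ x, f x = a) : Nat.card H = Nat.card F - 1 := by
  have h1 : Nat.card H = Nat.card Fˣ := by
    refine Nat.card_eq_of_bijective (fun x => Units.mk0 (f x) (h0 x)) ⟨?_, ?_⟩
    · intro x y h
      exact hinj x y (congrArg Units.val h)
    · intro a
      obtain ⟨x, hx⟩ := hs a a.ne_zero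
      exact ⟨x, Units.ext hx⟩
  rw [h1, Nat.card_units]

theorem exists_gen {G : Type*} [Group G] [Finite G] {C : Subgroup G} (h : Nat.card C = 3) :
    ∃ g, C = zpowers g ∧ g ∈ C ∧ g ≠ 1 ∧ g * g * g = 1 := by
  have : Fact (Nat.Prime 3) := ⟨Nat.prime_three⟩
  obtain ⟨g, hg⟩ := (isCyclic_of_prime_card h).exists_generator
  have e : C = zpowers (g : G) := by
    apply le_antisymm
    · intro x hx
      obtain ⟨n, hn⟩ := mem_zpowers_iff.1 (hg ⟨x, hx⟩)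
      refine mem_zpowers_iff.2 ⟨n, ?_⟩
      have := congrArg Subtype.val hn
      exact this
    · rw [zpowers_le]
      exact g.2
  refine ⟨g, e, g.2, ?_, ?_⟩
  · intro h1
    rw [h1, zpowers_one_eq_bot] at e
    rw [e, card_bot] at h
    omega
  · have h1 : g ^ 3 = 1 := by rw [← h]; exact pow_card_eq_one'
    have h2 : (g : G) ^ 3 = 1 := congrArg Subtype.val h1
    rw [← h2, pow_succ, pow_two]

/-- transport of `SL₂` between two fields of the same order -/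
theorem exists_sl {F : Type*} {k : Type*} [Field F] [Finite F] [Field k] [Finite k] (h : Nat.card k = Nat.card F)
    {X : Type*} [Group X] {N : X → Prop} (φ : X →* Matrix.SpecialLinearGroup (Fin 2) k)
    (hs : Function.Surjective φ) (hk : ∀ x, φ x = 1 ↔ N x) :
    ∃ π : X →* Matrix.SpecialLinearGroup (Fin 2) F, Function.Surjective π ∧ ∀ x, π x = 1 ↔ N x := by
  have := Fintype.ofFinite F
  have := Fintype.ofFinite k
  rw [Nat.card_eq_fintype_card, Nat.card_eq_fintype_card] at h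
  let e : k ≃+* F := FiniteField.ringEquivOfCardEq h
  have h1 : ∀ A : Matrix.SpecialLinearGroup (Fin 2) F,
      Matrix.SpecialLinearGroup.map (e : k →+* F) (Matrix.SpecialLinearGroup.map (e.symm : F →+* k) A) = A := by
    intro A
    ext i j
    simp
  have h2 : ∀ A : Matrix.SpecialLinearGroup (Fin 2) k,
      Matrix.SpecialLinearGroup.map (e.symm : F →+* k) (Matrix.SpecialLinearGroup.map (e : k →+* F) A) = A := by
    intro A
    ext i j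
    simp
  refine ⟨(Matrix.SpecialLinearGroup.map (e : k →+* F)).comp φ, ?_, fun x => ?_⟩
  · intro A
    obtain ⟨x, hx⟩ := hs (Matrix.SpecialLinearGroup.map (e.symm : F →+* k) A)
    exact ⟨x, by rw [MonoidHom.comp_apply, hx, h1]⟩
  · rw [← hk]
    constructor
    · intro h3
      have h4 := congrArg (Matrix.SpecialLinearGroup.map (e.symm : F →+* k)) h3
      rwa [MonoidHom.comp_apply, h2, map_one] at h4
    · intro h3
      rw [MonoidHom.comp_apply, h3, map_one]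

variable {G : Type u} [Group G] [Finite G] {ι : Type v} {V : Subgroup G} {R : ι → Subgroup G} {i j : ι} {k : Type w}
  [Field k] {K : Subgroup G} {φ : K →* Matrix.SpecialLinearGroup (Fin 2) k} {F : Type z} [Field F] [Finite F]
  [CharP F 2] {v : F → F → G} {w1 w2 : F → G}

/-- `|L ∩ K| = |k| - 1` -/
theorem card_LK (b : BTC V R) (n : KIn V R i j K φ) [Finite k] [CharP k 2] {L : Subgroup G}
    (nt : NT (PLoc.UZ V R i) (PLoc.B0 V R i K)) (hL : Cpl (PLoc.UZ V R i) (PLoc.B0 V R i K) L)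
    (LV : L ≤ normalizer (V : Set G)) : Nat.card (L ⊓ K : Subgroup G) = Nat.card k - 1 := by
  have hbot := inf_eq_bot_of_odd nt.two (nt.odd_cpl hL)
  have h0 : ∀ x : (L ⊓ K : Subgroup G), ent (φ ⟨x, (mem_inf.1 x.2).2⟩) 1 0 = 0 := fun x =>
    (n.mem_NV_iff b.toBT (g := ⟨x, (mem_inf.1 x.2).2⟩)).1 (LV (mem_inf.1 x.2).1)
  refine card_of_chart (fun x => ent (φ ⟨x, (mem_inf.1 x.2).2⟩) 0 0) ?_ ?_ ?_
  · intro x hx
    have hd := det_eq (φ ⟨x, (mem_inf.1 x.2).2⟩)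
    have hx' : ent (φ ⟨x, (mem_inf.1 x.2).2⟩) 0 0 = 0 := hx
    rw [h0 x, hx', zero_mul, mul_zero, sub_zero] at hd
    exact zero_ne_one hd
  · intro x y hxy
    have hxy' : ent (φ ⟨x, (mem_inf.1 x.2).2⟩) 0 0 = ent (φ ⟨y, (mem_inf.1 y.2).2⟩) 0 0 := hxy
    have h1 : φ ((⟨x, (mem_inf.1 x.2).2⟩ : K)⁻¹ * ⟨y, (mem_inf.1 y.2).2⟩) ∈ upG k := by
      have hd := det_eq (φ ⟨x, (mem_inf.1 x.2).2⟩)
      rw [h0 x, mul_zero, sub_zero] at hd
      rw [map_mul, map_inv, mem_upG, ent_inv]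
      simp only [ent_mul, mk_00, mk_01, mk_10, mk_11, h0 x, h0 y, ← hxy']
      constructor
      · linear_combination hd
      · ring
    have h2 : (x : G)⁻¹ * y ∈ PLoc.UZ V R i ⊓ L :=
      mem_inf.2 ⟨(n.mem_UZ b.toBT _).2 h1, mul_mem (inv_mem (mem_inf.1 x.2).1) (mem_inf.1 y.2).1⟩
    rw [hbot, mem_bot, inv_mul_eq_one] at h2
    exact Subtype.ext h2
  · intro a ha
    obtain ⟨c, hc, h1, -, -⟩ := n.exists_c b.toBT nt hL ha
    exact ⟨⟨c, mem_inf.2 ⟨hc, c.2⟩⟩, h1⟩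

theorem mem_UZ_of_rho (b : BTC V R) (c : Coord V R i j v w1 w2) {x : XX V R} :
    c.rho b.toBT x ∈ upG F ↔ (x : G) ∈ WW V (R i) ⊔ YY V R := by
  obtain ⟨N, _, _, P1, P2, y⟩ := c.exists_yPair b.toBT
  have h1 := y.comap_upG c b
  rw [← mem_comap, h1, mem_subgroupOf]

theorem rho_10 (b : BTC V R) (c : Coord V R i j v w1 w2) {x : XX V R} (hx : (x : G) ∈ normalizer (R i : Set G)) :
    ent (c.rho b.toBT x) 1 0 = 0 := by
  have h1 := c.rho_spec b.toBT x 1 0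
  have h2 : (x : G) * v 1 0 * (x : G)⁻¹ ∈ R i := conj_mem_of_normalizer hx ((c.mem_R1 _).2 ⟨1, rfl⟩)
  obtain ⟨y, hy⟩ := (c.mem_R1 _).1 h2
  rw [← hy] at h1
  have h3 := (c.v_inj h1).2
  rw [mul_one, mul_zero, add_zero] at h3
  exact h3.symm

/-- `|L ∩ X| = |F| - 1` -/
theorem card_LX (b : BTC V R) (c : Coord V R i j v w1 w2) {L : Subgroup G}
    (nt : NT (PLoc.UZ V R i) (PLoc.B0 V R i K)) (hL : Cpl (PLoc.UZ V R i) (PLoc.B0 V R i K) L)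
    (LR : L ≤ normalizer (R i : Set G)) : Nat.card (L ⊓ XX V R : Subgroup G) = Nat.card F - 1 := by
  have hbot := inf_eq_bot_of_odd nt.two (nt.odd_cpl hL)
  set ρ := c.rho b.toBT with hρ
  have h0 : ∀ x : (L ⊓ XX V R : Subgroup G), ent (ρ ⟨x, (mem_inf.1 x.2).2⟩) 1 0 = 0 := fun x =>
    rho_10 b c (LR (mem_inf.1 x.2).1)
  refine card_of_chart (fun x => ent (ρ ⟨x, (mem_inf.1 x.2).2⟩) 0 0) ?_ ?_ ?_
  · intro x hx
    have hd := det_eq (ρ ⟨x, (mem_inf.1 x.2).2⟩)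
    have hx' : ent (ρ ⟨x, (mem_inf.1 x.2).2⟩) 0 0 = 0 := hx
    rw [h0 x, hx', zero_mul, mul_zero, sub_zero] at hd
    exact zero_ne_one hd
  · intro x y hxy
    have hxy' : ent (ρ ⟨x, (mem_inf.1 x.2).2⟩) 0 0 = ent (ρ ⟨y, (mem_inf.1 y.2).2⟩) 0 0 := hxy
    have h1 : ρ ((⟨x, (mem_inf.1 x.2).2⟩ : XX V R)⁻¹ * ⟨y, (mem_inf.1 y.2).2⟩) ∈ upG F := by
      have hd := det_eq (ρ ⟨x, (mem_inf.1 x.2).2⟩)
      rw [h0 x, mul_zero, sub_zero] at hd
      rw [map_mul, map_inv, mem_upG, ent_inv]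
      simp only [ent_mul, mk_00, mk_01, mk_10, mk_11, h0 x, h0 y, ← hxy']
      constructor
      · linear_combination hd
      · ring
    have h2 : (x : G)⁻¹ * y ∈ PLoc.UZ V R i ⊓ L :=
      mem_inf.2 ⟨(mem_UZ_of_rho b c).1 h1, mul_mem (inv_mem (mem_inf.1 x.2).1) (mem_inf.1 y.2).1⟩
    rw [hbot, mem_bot, inv_mul_eq_one] at h2
    exact Subtype.ext h2
  · intro a ha
    have hh1 : hh w1 w2 a ∈ XX V R := c.hh_mem_X b.toBT a
    have hhR : hh w1 w2 a ∈ normalizer (R i : Set G) := cj_eq_self_iff.1 (c.hh_R1 b.toBT ha)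
    have hρa : ρ ⟨hh w1 w2 a, hh1⟩ = dg a ha := by
      refine c.rho_eq b.toBT ?_
      intro β γ
      show hh w1 w2 a * v β γ * (hh w1 w2 a)⁻¹ = _
      rw [c.hh_act ha]
      simp
    obtain ⟨u, hu, x, hx, e⟩ := nt.exists_mul hL ((le_sup_left : PLoc.A1 V R i ≤ _) (mem_inf.2 ⟨hh1, hhR⟩))
    have hUX : PLoc.UZ V R i ≤ XX V R := sup_le (W_le_X V R i) YY_le_XX
    have hxX : x ∈ XX V R := by
      have e1 : x = u⁻¹ * hh w1 w2 a := by rw [e]; group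
      rw [e1]
      exact mul_mem (inv_mem (hUX hu)) hh1
    obtain ⟨s, hs⟩ := (mem_UZ_of_rho b c (x := ⟨u, hUX hu⟩)).2 hu
    have e2 : (⟨hh w1 w2 a, hh1⟩ : XX V R) = ⟨u, hUX hu⟩ * ⟨x, hxX⟩ := Subtype.ext e
    have e3 : ρ ⟨x, hxX⟩ = (up s)⁻¹ * dg a ha := by
      rw [← hρa, e2, map_mul, hs]; group
    refine ⟨⟨x, mem_inf.2 ⟨hx, hxX⟩⟩, ?_⟩
    show ent (ρ ⟨x, hxX⟩) 0 0 = a
    rw [e3, up_inv]
    simp [ent_mul]

/-- **`Four`** and `Hex` for `|F| = |k| = 4` -/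
theorem exists_four (b : BTC V R) (c : Coord V R i j v w1 w2) (kd : KD V R i j K φ)
    (hC : centralizer (WW V (R i) : Set G) ≤ R i)
    (NAe : ∀ g ∈ normalizer (R i : Set G), cj g (WW V (R i) ⊔ UU V R j) = WW V (R i) ⊔ UU V R j → cj g V = V)
    (hF : Nat.card F = 4) (hk : Nat.card k = 4) (S : Sylow 2 G) (hSV : (S : Subgroup G) ≤ normalizer (V : Set G))
    (hSR : (S : Subgroup G) ≤ normalizer (R i : Set G)) :
    ∃ (P₁ P₂ B U X₁ X₂ : Subgroup G) (h₁ h₂ n₁ n₂ : G),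
      Hex P₁ P₂ B U (zpowers h₁ ⊔ zpowers h₂) V (R i) (WW V (R i)) (YY V R) (DD V R) n₁ n₂ 4 4 ∧
      B ⊓ centralizer (U : Set G) ≤ U ∧ U ≤ S ∧ (S : Subgroup G) ≤ B ∧
      GTwoFour.Id.Four F X₁ X₂ U V (R i) (WW V (R i)) (YY V R) (DD V R) h₁ h₂ ∧ X₁ ≤ P₁ ∧ X₂ ≤ P₂ ∧
      P₁ ≤ normalizer (V : Set G) ∧ P₂ ≤ normalizer (R i : Set G) := by
  have := kd.finite
  have := kd.charP b
  have l := ploc b c kd hC NAe hF.ge
  have n : KIn V R i j K φ := { kd := kd, NA := NAe }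
  obtain ⟨L, w, hcfg, hwV, ld, -, -, hL'⟩ := exists_cfgI b c kd hC NAe hF.ge
  have hL : Cpl (PLoc.UZ V R i) (PLoc.B0 V R i K) L := by
    rw [PLoc.UZ, n.UZ_eq b.toBT]
    exact hL'
  have hcomm := hcfg.toCfg.L_comm
  have hcK := card_LK b n l.nt hL ld.NV
  have hcX := card_LX b c l.nt hL ld.Ni
  rw [hk] at hcK
  rw [hF] at hcX
  obtain ⟨h₂, e₂, h₂m, h₂1, h₂3⟩ := exists_gen hcK
  obtain ⟨h₁, e₁, h₁m, h₁1, h₁3⟩ := exists_gen hcX
  obtain ⟨h₁L, h₁X⟩ := mem_inf.1 h₁m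
  obtain ⟨h₂L, h₂K⟩ := mem_inf.1 h₂m
  have hLeq : L = zpowers h₁ ⊔ zpowers h₂ := by
    rw [← e₁, ← e₂]
    apply le_antisymm
    · intro x hx
      obtain ⟨c', hc', hc'K, t, ht, htX, e⟩ := ld.CT x hx
      rw [e]
      exact mul_mem (mem_sup_right (mem_inf.2 ⟨hc', hc'K⟩)) (mem_sup_left (mem_inf.2 ⟨ht, htX⟩))
    · exact sup_le inf_le_left inf_le_left
  have hSF : (S : Subgroup G) ≤ PLoc.NF V R i := le_inf hSV hSR
  obtain ⟨n₁, -, n₂, -, h⟩ := l.hex S.isPGroup' hSF hL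
  rw [card_R c, hF, hk] at h
  rw [hLeq] at h
  have cR4 : Nat.card (R i) = 4 := by rw [card_R c, hF]
  have cU : Nat.card (PLoc.UZ V R i) = 4096 := by
    have h1 : Nat.card (WW V (R i)) * (WW V (R i)).relIndex (PLoc.UZ V R i) = Nat.card (PLoc.UZ V R i) :=
      card_mul_relIndex le_sup_left
    have h2 : (WW V (R i)).relIndex (PLoc.UZ V R i) = 4 := by
      rw [PLoc.UZ, relIndex_sup_of_le (l.Y₂.trans (l.X₂N.trans (normalizer_le_WW V (R i)))), ← inf_relIndex_right,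
        l.W_inf_Y]
      have h3 := card_mul_relIndex (UU_le_YY (V := V) (R := R) i)
      rw [l.card_Y, hk, mul_comm] at h3
      exact Nat.eq_of_mul_eq_mul_right Nat.card_pos h3
    rw [← h1, h2, l.card_W, l.card_UU, l.card_D, cR4, hk]
  have hnormX : ∀ x ∈ XX V R, ∀ a ∈ V, x * a * x⁻¹ ∈ V := fun x hx a ha =>
    conj_mem_of_normalizer (b.X_le_NV hx) ha
  refine ⟨_, _, _, PLoc.UZ V R i, XX V R, K, h₁, h₂, n₁, n₂, h, ?_, ?_, le_sup_right, ?_, le_sup_left, le_sup_left,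
    h.nV, h.nR⟩
  · refine inf_le_right.trans ((centralizer_le ?_).trans (hC.trans (h.RV.trans (h.VD.trans (h.DW.trans h.WU)))))
    exact h.WU
  · have h1 : IsPGroup 2 (PLoc.UZ V R i ⊔ S : Subgroup G) :=
      h.two.to_sup_of_normal_left' S.isPGroup' ((le_sup_right : (S : Subgroup G) ≤ PLoc.BB V R i K S).trans h.nU)
    exact le_sup_left.trans (S.is_maximal' h1 le_sup_right).le
  obtain ⟨x₁, hx₁, hx₁R⟩ := l.exists_x₁
  obtain ⟨N, _, _, P1, P2, y⟩ := c.exists_yPair b.toBT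
  have h₁NR := ld.Ni h₁L
  have h₁NV := ld.NV h₁L
  have h₂NR := ld.Ni h₂L
  have h₂NV := ld.NV h₂L
  exact
    { cF := hF
      UX₁ := l.U_A1.trans inf_le_left
      UX₂ := l.U_A2.trans inf_le_left
      sl₁ := by
        refine ⟨c.rho b.toBT, c.rho_surjective b.toBT, fun x => ?_⟩
        rw [← MonoidHom.mem_ker, y.ker_rho c b, mem_subgroupOf]
      sl₂ := exists_sl (by rw [hk, hF]) φ kd.surj kd.ker
      nV := hnormX
      nD := fun x hx a ha => conj_mem_of_normalizer (b.NV_le_ND (b.X_le_NV hx)) ha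
      cR := kd.KR
      Rn := by
        by_contra hcon
        push Not at hcon
        exact hx₁R (mem_normalizer_of_conj fun r hr => hcon x₁ hx₁ r hr)
      RV := h.RV
      VD := h.VD
      DW := h.DW
      DY := h.DY
      WU := h.WU
      YU := h.YU
      UWY := fun u hu => exists_mul_of_le (l.Y₂.trans (l.X₂N.trans (normalizer_le_WW V (R i)))) hu
      D_of := by
        rintro g hg ⟨r, hr, hrg⟩ d hd hdg
        obtain ⟨m, hm⟩ := b.perm g (b.X_le_NV hg) i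
        have hmi : i ≠ m := by
          rintro rfl
          exact hrg (by rw [← hm]; exact conj_mem_cj hr)
        rw [b.D_eq' hmi]
        refine mem_inf.2 ⟨hd, ?_⟩
        rw [← b.cj_WW hm, mem_cj]
        exact hdg
      kR := cR4
      kV := by rw [l.card_V, cR4]
      kD := by rw [l.card_D, cR4, hk]
      kWY := by rw [l.W_inf_Y, l.card_UU, l.card_D, cR4, hk]
      kW := by rw [l.card_W, l.card_UU, l.card_D, cR4, hk]
      kY := by rw [l.card_Y, l.card_UU, l.card_D, cR4, hk]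
      kU := cU
      V_sq := b.V_sq
      YV := h.YV
      WW := fun a ha a' ha' => b.WW_comm i ha ha'
      gen := by
        intro M hM
        refine iSup_le fun g => ?_
        obtain ⟨x, hx, e⟩ := l.exists_cj g.2
        rw [e]
        intro a ha
        rw [mem_cj] at ha
        have := hM x hx _ ha
        have e1 : x * (x⁻¹ * a * x) * x⁻¹ = a := by group
        rwa [e1] at this
      h₁X := h₁X
      h₂X := h₂K
      h₁ne := h₁1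
      h₂ne := h₂1
      h₁3 := h₁3
      h₂3 := h₂3
      hh := hcomm _ h₁L _ h₂L
      h₁X₂ := fun x hx => conj_mem_of_normalizer (l.NX₂ h₁NR) hx
      h₁U := fun x hx => conj_mem_of_normalizer (l.NF_NU (mem_inf.2 ⟨h₁NV, h₁NR⟩)) hx
      h₁W := fun x hx => conj_mem_of_normalizer (normalizer_le_WW V (R i) h₁NR) hx
      h₁R := fun x hx => conj_mem_of_normalizer h₁NR hx
      h₂X₁ := fun x hx => conj_mem_of_normalizer (b.NV_le_NX h₂NV) hx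
      h₂U := fun x hx => conj_mem_of_normalizer (l.NF_NU (mem_inf.2 ⟨h₂NV, h₂NR⟩)) hx
      h₂Y := fun x hx => conj_mem_of_normalizer (b.NV_le_NY h₂NV) hx
      h₂V := fun x hx => conj_mem_of_normalizer h₂NV hx
      h₂D := fun x hx => conj_mem_of_normalizer (b.NV_le_ND h₂NV) hx }

end Cfsg.Agent.Omega.SQEnd

end

end

-- merged: Cfsg.Agent.Mrg.Omega.SQEnd.GZeroOf
section

/-!
# `GZero` from `BTC`, `Coord`, `KD`, `C(W) ≤ R`, `O₂(N(R)) = W`, `N_{N(R)}(W A) ≤ N(V)`, `|k| > 4`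
-/

set_option autoImplicit false

universe u v w z

namespace Cfsg.Agent.Omega.SQEnd

open Subgroup Cfsg.Agent.Omega.BTwo Cfsg.Agent.Lib.SL2Mat Cfsg.Agent.Omega.Hex

variable {G : Type u} [Group G] [Finite G] {ι : Type v} {V : Subgroup G} {R : ι → Subgroup G} {i j : ι} {k : Type w}
  [Field k] {K : Subgroup G} {φ : K →* Matrix.SpecialLinearGroup (Fin 2) k} {F : Type z} [Field F] [Finite F]
  [CharP F 2] {v : F → F → G} {w1 w2 : F → G}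

/-- **`GZero`**, `|k| > 4` -/
theorem gZero (b : BTC V R) (c : Coord V R i j v w1 w2) (kd : KD V R i j K φ)
    (hC : centralizer (WW V (R i) : Set G) ≤ R i) (hQ : QQ (R i) = WW V (R i))
    (NAe : ∀ g ∈ normalizer (R i : Set G), cj g (WW V (R i) ⊔ UU V R j) = WW V (R i) ⊔ UU V R j → cj g V = V)
    (hF : 4 ≤ Nat.card F) (hk : 4 < Nat.card k) (hB : RootLemma.Bender.{u}) (hG : IsCharacteristicTwoType G)
    (S : Sylow 2 G) (hS : (S : Subgroup G) ≤ normalizer (R i : Set G)) : IIa4.GZero V R := by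
  have := kd.finite
  have := kd.charP b
  obtain ⟨L, w, h, hwV, -, -, -, hL⟩ := exists_cfgI b c kd hC NAe hF
  have n : KIn V R i j K φ := { kd := kd, NA := NAe }
  refine n.gZero b c hB hG hC hQ S hS hF hk h.toCfg ?_ inf_le_right hwV
  rw [PLoc.UZ, n.UZ_eq b.toBT]
  exact hL

end Cfsg.Agent.Omega.SQEnd

end
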